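import Mathlib

/-!
# A presentation of a principal localization of a presented algebra
-/

set_option autoImplicit false
universe u v

namespace Groth.Agent.Helper2.Synt

open MvPolynomial

section AwayPres

variable {k : Type*} [CommRing k] {S : Type*} [CommRing S] [Algebra k S] {n c : ℕ}
  (φ : MvPolynomial (Fin n) k →ₐ[k] S)
  (r : Fin c → MvPolynomial (Fin n) k)
  (G : MvPolynomial (Fin n) k) (T : Type*) [CommRing T] [Algebra S T] [Algebra k T]
  [IsScalarTower k S T] [IsLocalization.Away (φ G) T]

/-- the relations of the localization: the old ones and `x_{n+1} G - 1` -/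
noncomputable def awayRel : Fin (c + 1) → MvPolynomial (Fin (n + 1)) k :=
  Fin.snoc (α := fun _ => MvPolynomial (Fin (n + 1)) k) (fun i => rename Fin.castSucc (r i))
    (X (Fin.last n) * rename Fin.castSucc G - 1)

/-- the presentation map of the localization -/
noncomputable def awayHom : MvPolynomial (Fin (n + 1)) k →ₐ[k] T :=
  aeval (Fin.snoc (α := fun _ => T) (fun i => algebraMap S T (φ (X i)))
    (IsLocalization.Away.invSelf (φ G)))

theorem awayHom_rename (p : MvPolynomial (Fin n) k) :
    awayHom φ G T (rename Fin.castSucc p) = algebraMap S T (φ p) := by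
  have h : (awayHom φ G T).comp (rename Fin.castSucc) =
      (IsScalarTower.toAlgHom k S T).comp φ := by
    apply MvPolynomial.algHom_ext
    intro i
    simp [awayHom]
  exact DFunLike.congr_fun h p

theorem awayHom_X_last :
    awayHom φ G T (X (Fin.last n)) = IsLocalization.Away.invSelf (φ G) := by
  simp [awayHom]

theorem awayHom_awayRel (hr : ∀ i, φ (r i) = 0) (j : Fin (c + 1)) :
    awayHom φ G T (awayRel r G j) = 0 := by
  induction j using Fin.lastCases with
  | last =>
    simp only [awayRel, Fin.snoc_last, map_sub, map_mul, map_one, awayHom_rename, awayHom_X_last]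
    rw [mul_comm, IsLocalization.Away.mul_invSelf, sub_self]
  | cast i =>
    simp only [awayRel, Fin.snoc_castSucc, awayHom_rename, hr i, map_zero]

include T in
theorem awayHom_surjective (hφ : Function.Surjective φ) :
    Function.Surjective (awayHom φ G T) := by
  intro t
  obtain ⟨s, ⟨_, m, rfl⟩, rfl⟩ := IsLocalization.exists_mk'_eq (Submonoid.powers (φ G)) t
  obtain ⟨p, rfl⟩ := hφ s
  refine ⟨rename Fin.castSucc p * X (Fin.last n) ^ m, ?_⟩
  rw [map_mul, map_pow, awayHom_rename, awayHom_X_last, IsLocalization.eq_mk'_iff_mul_eq]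
  simp only [map_pow]
  rw [mul_assoc, ← mul_pow, mul_comm (IsLocalization.Away.invSelf (φ G)),
    IsLocalization.Away.mul_invSelf, one_pow, mul_one]

theorem ker_awayHom' (hφ : Function.Surjective φ) (hr : ∀ i, φ (r i) = 0)
    (hG : ∀ x ∈ RingHom.ker φ, G * x ∈ Ideal.span (Set.range r)) :
    RingHom.ker (awayHom φ G T) = Ideal.span (Set.range (awayRel r G)) := by
  apply le_antisymm
  · set K := Ideal.span (Set.range (awayRel r G)) with hK
    -- the map `P → Q = P'/K`
    let β : MvPolynomial (Fin n) k →+* MvPolynomial (Fin (n + 1)) k ⧸ K :=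
      (Ideal.Quotient.mk K).comp (rename Fin.castSucc : _ →ₐ[k] _).toRingHom
    have hlastK : X (Fin.last n) * rename Fin.castSucc G - 1 ∈ K := by
      apply Ideal.subset_span
      exact ⟨Fin.last c, by simp [awayRel]⟩
    have hrK : ∀ y ∈ Ideal.span (Set.range r), rename Fin.castSucc y ∈ K := by
      intro y hy
      induction hy using Submodule.span_induction with
      | mem y hy =>
        obtain ⟨i, rfl⟩ := hy
        apply Ideal.subset_span
        exact ⟨Fin.castSucc i, by simp [awayRel]⟩
      | zero => simp
      | add y z _ _ hy hz => rw [map_add]; exact K.add_mem hy hz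
      | smul a y _ hy => rw [smul_eq_mul, map_mul]; exact K.mul_mem_left _ hy
    have hβ : RingHom.ker (φ : MvPolynomial (Fin n) k →+* S) ≤ RingHom.ker β := by
      intro x hx
      rw [RingHom.mem_ker]
      change Ideal.Quotient.mk K (rename Fin.castSucc x) = 0
      rw [Ideal.Quotient.eq_zero_iff_mem]
      have h1 := hrK _ (hG x hx)
      rw [map_mul] at h1
      have h2 : rename Fin.castSucc x =
          X (Fin.last n) * (rename Fin.castSucc G * rename Fin.castSucc x) -
            (X (Fin.last n) * rename Fin.castSucc G - 1) * rename Fin.castSucc x := by ring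
      rw [h2]
      exact K.sub_mem (K.mul_mem_left _ h1) (K.mul_mem_right _ hlastK)
    let α : S →+* MvPolynomial (Fin (n + 1)) k ⧸ K :=
      RingHom.liftOfSurjective (φ : MvPolynomial (Fin n) k →+* S) hφ ⟨β, hβ⟩
    have hα : ∀ p, α (φ p) = Ideal.Quotient.mk K (rename Fin.castSucc p) := fun p =>
      RingHom.liftOfRightInverse_comp_apply _ _ _ ⟨β, hβ⟩ p
    have hinv : Ideal.Quotient.mk K (X (Fin.last n)) * α (φ G) = 1 := by
      rw [hα, ← map_mul, ← sub_eq_zero, ← map_one (Ideal.Quotient.mk K), ← map_sub,
        Ideal.Quotient.eq_zero_iff_mem]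
      exact hlastK
    have hunit : IsUnit (α (φ G)) := IsUnit.of_mul_eq_one _ (by rw [mul_comm]; exact hinv)
    let γ : T →+* MvPolynomial (Fin (n + 1)) k ⧸ K := IsLocalization.Away.lift (φ G) hunit
    have hγ : ∀ s, γ (algebraMap S T s) = α s := fun s => IsLocalization.Away.lift_eq _ hunit s
    have hcomp : γ.comp (awayHom φ G T : MvPolynomial (Fin (n + 1)) k →+* T) =
        Ideal.Quotient.mk K := by
      apply MvPolynomial.ringHom_ext
      · intro a
        have h1 : (awayHom φ G T) (C a) = algebraMap S T (φ (C a)) := by
          rw [← awayHom_rename φ G T, rename_C]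
        change γ (awayHom φ G T (C a)) = _
        rw [h1, hγ, hα, rename_C]
      · intro i
        change γ (awayHom φ G T (X i)) = _
        induction i using Fin.lastCases with
        | last =>
          rw [awayHom_X_last]
          have h2 : γ (IsLocalization.Away.invSelf (φ G)) * α (φ G) = 1 := by
            rw [← hγ, ← map_mul, mul_comm, IsLocalization.Away.mul_invSelf, map_one]
          calc γ (IsLocalization.Away.invSelf (φ G))
              = γ (IsLocalization.Away.invSelf (φ G)) *
                  (Ideal.Quotient.mk K (X (Fin.last n)) * α (φ G)) := by rw [hinv, mul_one]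
            _ = Ideal.Quotient.mk K (X (Fin.last n)) *
                  (γ (IsLocalization.Away.invSelf (φ G)) * α (φ G)) := by ring
            _ = _ := by rw [h2, mul_one]
        | cast j =>
          have h1 : (awayHom φ G T) (X (Fin.castSucc j)) = algebraMap S T (φ (X j)) := by
            rw [← awayHom_rename φ G T, rename_X]
          rw [h1, hγ, hα, rename_X]
    intro x hx
    rw [RingHom.mem_ker] at hx
    have h1 : Ideal.Quotient.mk K x = 0 := by
      rw [← hcomp]
      change γ (awayHom φ G T x) = 0
      rw [hx, map_zero]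
    exact Ideal.Quotient.eq_zero_iff_mem.mp h1
  · rw [Ideal.span_le]
    rintro _ ⟨j, rfl⟩
    exact awayHom_awayRel φ r G T hr j

theorem ker_awayHom (hφ : Function.Surjective φ)
    (hker : RingHom.ker φ = Ideal.span (Set.range r)) :
    RingHom.ker (awayHom φ G T) = Ideal.span (Set.range (awayRel r G)) := by
  have hr : ∀ i, φ (r i) = 0 := fun i => by
    have : r i ∈ RingHom.ker φ := hker ▸ Ideal.subset_span (Set.mem_range_self i)
    exact this
  exact ker_awayHom' φ r G T hφ hr (fun x hx => Ideal.mul_mem_left _ _ (hker ▸ hx))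

end AwayPres

end Groth.Agent.Helper2.Synt
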