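import Mathlib
import Groth.Prelude.Def_CAlg
import Groth.Prelude.Def_RegImm
import Groth.Agent.Lib.Helper8.Depth15
import Groth.Agent.Lib.Helper8.FlatReg5

/-!
# Complete intersections over a field: core local lemmas
-/

set_option autoImplicit false
universe u v

namespace Groth.Agent.Helper2.Synt

open RingTheory.Sequence LocCoh IsLocalRing Groth.Agent.Helper8.Depth

/-- In a Cohen–Macaulay local ring, a list of elements of the maximal ideal cutting the dimension
down by its length is a regular sequence. -/
theorem isRegular_of_dim_add_length (A : Type u) [CommRing A] [IsCohenMacaulayLocalRing A]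
    (xs : List A) (hxs : ∀ x ∈ xs, x ∈ maximalIdeal A)
    (hdim : ringKrullDim (A ⧸ Ideal.ofList xs) + (xs.length : WithBot ℕ∞) = ringKrullDim A) :
    IsRegular A xs := by
  have hM : IsCohenMacaulayModule A A := IsCohenMacaulayLocalRing.supportDim_eq_depth
  obtain ⟨hiff, -⟩ := cm_list xs hxs A hM
  refine ⟨hiff.mpr ?_, ?_⟩
  · rw [supportDim_quot_smul_top_self, Module.supportDim_self_eq_ringKrullDim]
    exact_mod_cast hdim
  · intro h
    have h1 : Ideal.ofList xs = ⊤ := by simpa using h.symm
    have h2 : Ideal.ofList xs ≤ maximalIdeal A := Ideal.span_le.mpr hxs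
    rw [h1] at h2
    exact (maximalIdeal.isMaximal A).ne_top (top_le_iff.mp h2)

/-- The quotient of the localization at the preimage prime by the extended ideal is the
localization of the quotient. -/
instance isLocalization_atPrime_quotient_map {P : Type*} [CommRing P] (I : Ideal P)
    (q : Ideal (P ⧸ I)) [q.IsPrime] :
    IsLocalization.AtPrime
      (Localization.AtPrime (q.comap (Ideal.Quotient.mk I)) ⧸
        I.map (algebraMap P (Localization.AtPrime (q.comap (Ideal.Quotient.mk I))))) q := by
  have h : Algebra.algebraMapSubmonoid (P ⧸ I) (q.comap (Ideal.Quotient.mk I)).primeCompl =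
      q.primeCompl := by
    ext x
    constructor
    · rintro ⟨y, hy, rfl⟩
      exact hy
    · intro hx
      obtain ⟨y, rfl⟩ := Ideal.Quotient.mk_surjective x
      exact ⟨y, hx, rfl⟩
  have : IsLocalization (Algebra.algebraMapSubmonoid (P ⧸ I)
      (q.comap (Ideal.Quotient.mk I)).primeCompl)
      (Localization.AtPrime (q.comap (Ideal.Quotient.mk I)) ⧸
        I.map (algebraMap P (Localization.AtPrime (q.comap (Ideal.Quotient.mk I))))) :=
    inferInstance
  unfold IsLocalization.AtPrime
  rw [← h]
  exact this

theorem ringKrullDim_atPrime_quotient_map {P : Type*} [CommRing P] (I : Ideal P)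
    (q : Ideal (P ⧸ I)) [q.IsPrime] :
    ringKrullDim (Localization.AtPrime (q.comap (Ideal.Quotient.mk I)) ⧸
        I.map (algebraMap P (Localization.AtPrime (q.comap (Ideal.Quotient.mk I))))) =
      q.height :=
  IsLocalization.AtPrime.ringKrullDim_eq_height q _

theorem ofList_ofFn' {R : Type*} [CommSemiring R] {c : ℕ} (f : Fin c → R) :
    Ideal.ofList (List.ofFn f) = Ideal.span (Set.range f) := by
  unfold Ideal.ofList
  congr 1
  ext a
  simp [List.mem_ofFn]

section Poly

variable (k : Type u) [Field k] (n : ℕ) (I : Ideal (MvPolynomial (Fin n) k))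
  (q : Ideal (MvPolynomial (Fin n) k ⧸ I)) [q.IsPrime]

/-- The local ring of the polynomial ring at the preimage of `q`. -/
local notation "Rq" => Localization.AtPrime (q.comap (Ideal.Quotient.mk I))

/-- the extension of `I` to it -/
local notation "Jq" => I.map (algebraMap (MvPolynomial (Fin n) k) Rq)

theorem map_le_maximalIdeal : Jq ≤ maximalIdeal Rq := by
  rw [Ideal.map_le_iff_le_comap]
  intro x hx
  rw [Ideal.mem_comap, ← Localization.AtPrime.map_eq_maximalIdeal]
  apply Ideal.mem_map_of_mem
  rw [Ideal.mem_comap, Ideal.Quotient.eq_zero_iff_mem.mpr hx]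
  exact zero_mem _

/-- A list of `c` generators of `I R` (with `c = ht q' - ht q`) is a regular sequence. -/
theorem isRegular_of_ofList_eq (c : ℕ)
    (hc : (c : ℕ∞) + q.height = (q.comap (Ideal.Quotient.mk I)).height)
    (xs : List Rq) (hlen : xs.length = c) (hxs : Ideal.ofList xs = Jq) : IsRegular Rq xs := by
  haveI : IsCohenMacaulayLocalRing Rq :=
    Groth.Agent.Helper8.FlatReg.isCohenMacaulayLocalRing_of_isRegularLocalRing _
  apply isRegular_of_dim_add_length
  · intro x hx
    apply map_le_maximalIdeal k n I q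
    rw [← hxs]
    exact Ideal.subset_span hx
  · rw [hxs, ringKrullDim_atPrime_quotient_map,
      IsLocalization.AtPrime.ringKrullDim_eq_height (q.comap (Ideal.Quotient.mk I)) Rq, hlen,
      ← hc, add_comm]
    push_cast
    rfl

/-- Nakayama: elements of `I R` generating it modulo the maximal ideal generate it. -/
theorem span_eq_of_sup_mul_eq {c : ℕ} (f : Fin c → Rq) (hf : ∀ i, f i ∈ Jq)
    (hgen : Ideal.span (Set.range f) ⊔ maximalIdeal Rq * Jq = Jq) :
    Ideal.span (Set.range f) = Jq := by
  apply le_antisymm
  · rw [Ideal.span_le]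
    rintro _ ⟨i, rfl⟩
    exact hf i
  · have hfg : (Jq).FG := (isNoetherianRing_iff_ideal_fg _).mp inferInstance _
    refine Submodule.le_of_le_smul_of_le_jacobson_bot (I := maximalIdeal Rq) hfg ?_ ?_
    · rw [IsLocalRing.jacobson_eq_maximalIdeal ⊥ bot_ne_top]
    · rw [smul_eq_mul, hgen]

theorem isRegular_ofFn_of_sup_mul_eq (c : ℕ)
    (hc : (c : ℕ∞) + q.height = (q.comap (Ideal.Quotient.mk I)).height)
    (f : Fin c → Rq) (hf : ∀ i, f i ∈ Jq)
    (hgen : Ideal.span (Set.range f) ⊔ maximalIdeal Rq * Jq = Jq) :
    IsRegular Rq (List.ofFn f) := by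
  apply isRegular_of_ofList_eq k n I q c hc
  · simp
  · rw [ofList_ofFn', span_eq_of_sup_mul_eq k n I q f hf hgen]

end Poly

end Groth.Agent.Helper2.Synt
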