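import Mathlib
import Groth.Agent.Lib.Helper2.Synt.Core
import Groth.Agent.Lib.Helper4.DimFT1
import Groth.Agent.Lib.Helper4.StalkClosedPt1
import Groth.Agent.Lib.Helper8.Depth17

/-!
# Global complete intersections over a field are Cohen–Macaulay
-/

set_option autoImplicit false
universe u v

namespace Groth.Agent.Helper2.Synt

open RingTheory.Sequence LocCoh IsLocalRing Groth.Agent.Helper8.Depth

/-- a proper quotient of a Noetherian local ring that is CM as a module is a CM local ring -/
theorem isCohenMacaulayLocalRing_quotient (A : Type u) [CommRing A] [IsLocalRing A]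
    [IsNoetherianRing A] (J : Ideal A) (hJ : J ≠ ⊤) (h : IsCohenMacaulayModule A (A ⧸ J)) :
    IsCohenMacaulayLocalRing (A ⧸ J) := by
  haveI : Nontrivial (A ⧸ J) := Ideal.Quotient.nontrivial_iff.mpr hJ
  haveI : IsLocalRing (A ⧸ J) :=
    IsLocalRing.of_surjective' (Ideal.Quotient.mk J) Ideal.Quotient.mk_surjective
  haveI : IsLocalHom (algebraMap A (A ⧸ J)) :=
    IsLocalHom.of_surjective (Ideal.Quotient.mk J) Ideal.Quotient.mk_surjective
  refine ⟨?_⟩
  unfold IsCohenMacaulayModule at h
  rw [Module.supportDim_self_eq_ringKrullDim]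
  rw [Module.supportDim_quotient_eq_ringKrullDim] at h
  rw [h]
  unfold depth
  have := depth_eq_of_tower A (A ⧸ J) (A ⧸ J)
  unfold depth at this
  rw [this]

/-- quotient of a CM local ring by a sequence cutting the dimension by its length is CM -/
theorem isCohenMacaulayLocalRing_quotient_of_dim_add_length (A : Type u) [CommRing A]
    [IsCohenMacaulayLocalRing A]
    (xs : List A) (hxs : ∀ x ∈ xs, x ∈ maximalIdeal A)
    (hdim : ringKrullDim (A ⧸ Ideal.ofList xs) + (xs.length : WithBot ℕ∞) = ringKrullDim A) :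
    IsCohenMacaulayLocalRing (A ⧸ Ideal.ofList xs) := by
  have hM : IsCohenMacaulayModule A A := IsCohenMacaulayLocalRing.supportDim_eq_depth
  have hreg := isRegular_of_dim_add_length A xs hxs hdim
  obtain ⟨-, hcm⟩ := cm_list xs hxs A hM
  have h1 := hcm hreg.toIsWeaklyRegular
  have h2 : IsCohenMacaulayModule A (A ⧸ Ideal.ofList xs) :=
    (isCohenMacaulayModule_congr (quotSMulTopRingEquiv (Ideal.ofList xs))).mp h1
  apply isCohenMacaulayLocalRing_quotient A _ _ h2
  intro h
  have h2 : Ideal.ofList xs ≤ maximalIdeal A := Ideal.span_le.mpr hxs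
  rw [h] at h2
  exact (maximalIdeal.isMaximal A).ne_top (top_le_iff.mp h2)

section Poly

variable (k : Type u) [Field k] (n : ℕ) (I : Ideal (MvPolynomial (Fin n) k))
  (q : Ideal (MvPolynomial (Fin n) k ⧸ I)) [q.IsPrime]

theorem ringKrullDim_mvPolynomial : ringKrullDim (MvPolynomial (Fin n) k) = n := by
  rw [MvPolynomial.ringKrullDim_of_isNoetherianRing, ringKrullDim_eq_zero_of_field]
  simp

/-- the quotient of the quotient by `q` is the quotient by the preimage -/
noncomputable def quotQuotEquiv :
    (MvPolynomial (Fin n) k ⧸ q.comap (Ideal.Quotient.mk I)) ≃+*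
      ((MvPolynomial (Fin n) k ⧸ I) ⧸ q) :=
  (Ideal.quotEquivOfEq (by
    rw [← RingHom.comap_ker, Ideal.mk_ker])).trans
    (RingHom.quotientKerEquivOfSurjective
      (f := (Ideal.Quotient.mk q).comp (Ideal.Quotient.mk I))
      ((Ideal.Quotient.mk_surjective).comp Ideal.Quotient.mk_surjective))

/-- general inequality: `ht q + (n - dim P/I) ≤ ht q'`. -/
theorem height_add_le_height_comap (d : ℕ) (hd : ringKrullDim (MvPolynomial (Fin n) k ⧸ I) = d)
    (c : ℕ) (hcd : c + d = n) :
    (c : ℕ∞) + q.height ≤ (q.comap (Ideal.Quotient.mk I)).height := by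
  have h1 := Groth.Agent.Lib.Helper4.DimFT1.height_add_dim_quotient_le q
  rw [hd] at h1
  have h2 := Groth.Agent.Lib.Helper4.DimFT1.height_add_dim_quotient k (MvPolynomial (Fin n) k)
    (q.comap (Ideal.Quotient.mk I))
  have h3 : ringKrullDim (MvPolynomial (Fin n) k ⧸ q.comap (Ideal.Quotient.mk I)) =
      ringKrullDim ((MvPolynomial (Fin n) k ⧸ I) ⧸ q) :=
    ringKrullDim_eq_of_ringEquiv (quotQuotEquiv k n I q)
  rw [ringKrullDim_mvPolynomial, h3] at h2
  haveI : IsDomain ((MvPolynomial (Fin n) k ⧸ I) ⧸ q) := Ideal.Quotient.isDomain q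
  obtain ⟨δ, -, hδ⟩ := Groth.Agent.Lib.Helper4.DimFT1.exists_dim_eq_trdeg k
    ((MvPolynomial (Fin n) k ⧸ I) ⧸ q)
  rw [hδ] at h1 h2
  obtain ⟨a, ha⟩ := ENat.ne_top_iff_exists.mp (Ideal.height_ne_top (Ideal.IsPrime.ne_top ‹_›) :
      q.height ≠ ⊤)
  obtain ⟨b, hb⟩ := ENat.ne_top_iff_exists.mp (Ideal.height_ne_top (Ideal.IsPrime.ne_top
    (Ideal.comap_isPrime (Ideal.Quotient.mk I) q)) : (q.comap (Ideal.Quotient.mk I)).height ≠ ⊤)
  rw [← ha] at h1 ⊢
  rw [← hb] at h2 ⊢
  have h1' : a + δ ≤ d := by exact_mod_cast h1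
  have h2' : b + δ = n := by exact_mod_cast h2
  have : c + a ≤ b := by omega
  exact_mod_cast this

/-- Krull: `ht q' ≤ ht q + c` when `I` is generated by `c` elements. -/
theorem height_comap_le_add {c : ℕ} (r : Fin c → MvPolynomial (Fin n) k)
    (hI : I = Ideal.span (Set.range r)) :
    (q.comap (Ideal.Quotient.mk I)).height ≤ (c : ℕ∞) + q.height := by
  subst hI
  have hsub : Set.range r ⊆ (q.comap (Ideal.Quotient.mk (Ideal.span (Set.range r))) : Set _) := by
    rintro _ ⟨i, rfl⟩
    rw [SetLike.mem_coe, Ideal.mem_comap,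
      Ideal.Quotient.eq_zero_iff_mem.mpr (Ideal.subset_span (Set.mem_range_self i))]
    exact zero_mem _
  have h := Ideal.height_le_height_add_encard_of_subset (Set.range r) hsub
  rw [Ideal.map_comap_of_surjective _ Ideal.Quotient.mk_surjective] at h
  refine h.trans ?_
  rw [add_comm]
  gcongr
  calc (Set.range r).encard ≤ (Set.univ : Set (Fin c)).encard := by
        rw [← Set.image_univ]; exact Set.encard_image_le _ _
    _ = c := by simp

theorem height_comap_eq {c : ℕ} (r : Fin c → MvPolynomial (Fin n) k)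
    (hI : I = Ideal.span (Set.range r)) (d : ℕ)
    (hd : ringKrullDim (MvPolynomial (Fin n) k ⧸ I) = d) (hcd : c + d = n) :
    (c : ℕ∞) + q.height = (q.comap (Ideal.Quotient.mk I)).height :=
  le_antisymm (height_add_le_height_comap k n I q d hd c hcd) (height_comap_le_add k n I q r hI)

/-- the images of the generators in the local ring -/
theorem ofList_ofFn_map {c : ℕ} (r : Fin c → MvPolynomial (Fin n) k)
    (hI : I = Ideal.span (Set.range r)) :
    Ideal.ofList (List.ofFn fun i => algebraMap (MvPolynomial (Fin n) k)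
      (Localization.AtPrime (q.comap (Ideal.Quotient.mk I))) (r i)) =
      I.map (algebraMap (MvPolynomial (Fin n) k)
        (Localization.AtPrime (q.comap (Ideal.Quotient.mk I)))) := by
  rw [ofList_ofFn']
  have h1 : I.map (algebraMap (MvPolynomial (Fin n) k)
        (Localization.AtPrime (q.comap (Ideal.Quotient.mk I)))) =
      (Ideal.span (Set.range r)).map (algebraMap (MvPolynomial (Fin n) k)
        (Localization.AtPrime (q.comap (Ideal.Quotient.mk I)))) :=
    congrArg (Ideal.map _) hI
  rw [h1, Ideal.map_span, ← Set.range_comp]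
  rfl

theorem isCohenMacaulayLocalRing_atPrime_of_globalCI {c : ℕ}
    (r : Fin c → MvPolynomial (Fin n) k)
    (hI : I = Ideal.span (Set.range r)) (d : ℕ)
    (hd : ringKrullDim (MvPolynomial (Fin n) k ⧸ I) = d) (hcd : c + d = n) :
    IsCohenMacaulayLocalRing (Localization.AtPrime q) := by
  have hc := height_comap_eq k n I q r hI d hd hcd
  haveI : IsCohenMacaulayLocalRing (Localization.AtPrime (q.comap (Ideal.Quotient.mk I))) :=
    Groth.Agent.Helper8.FlatReg.isCohenMacaulayLocalRing_of_isRegularLocalRing _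
  have hxs := ofList_ofFn_map k n I q r hI
  have hcm := isCohenMacaulayLocalRing_quotient_of_dim_add_length
    (Localization.AtPrime (q.comap (Ideal.Quotient.mk I)))
    (List.ofFn fun i => algebraMap (MvPolynomial (Fin n) k)
      (Localization.AtPrime (q.comap (Ideal.Quotient.mk I))) (r i))
    (by
      intro x hx
      apply map_le_maximalIdeal k n I q
      rw [← hxs]
      exact Ideal.subset_span hx)
    (by
      rw [hxs, ringKrullDim_atPrime_quotient_map,
        IsLocalization.AtPrime.ringKrullDim_eq_height (q.comap (Ideal.Quotient.mk I)) _,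
        List.length_ofFn, ← hc, add_comm]
      push_cast
      rfl)
  rw [hxs] at hcm
  exact Groth.Agent.Lib.Helper4.StalkClosedPt1.cm_of_ringEquiv _ _
    (IsLocalization.algEquiv q.primeCompl
      (Localization.AtPrime (q.comap (Ideal.Quotient.mk I)) ⧸
        I.map (algebraMap (MvPolynomial (Fin n) k)
          (Localization.AtPrime (q.comap (Ideal.Quotient.mk I)))))
      (Localization.AtPrime q)).toRingEquiv hcm

theorem isCohenMacaulayRing_of_globalCI {c : ℕ}
    (r : Fin c → MvPolynomial (Fin n) k)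
    (hI : I = Ideal.span (Set.range r)) (d : ℕ)
    (hd : ringKrullDim (MvPolynomial (Fin n) k ⧸ I) = d) (hcd : c + d = n) :
    IsCohenMacaulayRing (MvPolynomial (Fin n) k ⧸ I) where
  isCohenMacaulayLocalRing_localization q _ :=
    isCohenMacaulayLocalRing_atPrime_of_globalCI k n I q r hI d hd hcd

end Poly

end Groth.Agent.Helper2.Synt
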