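import Mathlib
import Groth.Agent.Lib.Helper2.Synt.GlobalCI
import Groth.Agent.Lib.Helper8.CplQuot2

/-!
# Local complete intersections over a field are Cohen–Macaulay
-/

set_option autoImplicit false
universe u v

namespace Groth.Agent.Helper2.Synt

open RingTheory.Sequence LocCoh IsLocalRing Groth.Agent.Helper8.Depth

/-- Cohen–Macaulayness can be checked on a cover by basic opens -/
theorem isCohenMacaulayRing_of_forall_away (S : Type u) [CommRing S] [IsNoetherianRing S]
    (h : ∀ p : PrimeSpectrum S, ∃ g : S, g ∉ p.asIdeal ∧
      IsCohenMacaulayRing (Localization.Away g)) : IsCohenMacaulayRing S := by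
  refine ⟨fun p hp => ?_⟩
  obtain ⟨g, hg, hcm⟩ := h ⟨p, hp⟩
  have hdisj : Disjoint (Submonoid.powers g : Set S) (p : Set S) := by
    rw [Set.disjoint_left]
    rintro _ ⟨m, rfl⟩ hm
    exact hg (hp.mem_of_pow_mem m hm)
  haveI hp' : (Ideal.map (algebraMap S (Localization.Away g)) p).IsPrime :=
    IsLocalization.isPrime_of_isPrime_disjoint (Submonoid.powers g) _ p hp hdisj
  have hcomap : (Ideal.map (algebraMap S (Localization.Away g)) p).comap
      (algebraMap S (Localization.Away g)) = p :=
    IsLocalization.under_map_of_isPrime_disjoint (Submonoid.powers g) _ hp hdisj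
  have h1 : IsCohenMacaulayLocalRing (Localization.AtPrime
      (Ideal.map (algebraMap S (Localization.Away g)) p)) :=
    hcm.isCohenMacaulayLocalRing_localization _
  haveI h2 : IsLocalization.AtPrime (Localization.AtPrime
      (Ideal.map (algebraMap S (Localization.Away g)) p))
      ((Ideal.map (algebraMap S (Localization.Away g)) p).comap
        (algebraMap S (Localization.Away g))) :=
    IsLocalization.isLocalization_isLocalization_atPrime_isLocalization (Submonoid.powers g) _
      (Ideal.map (algebraMap S (Localization.Away g)) p)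
  haveI h3 : IsLocalization.AtPrime (Localization.AtPrime
      (Ideal.map (algebraMap S (Localization.Away g)) p)) p := by
    have h2' : IsLocalization ((Ideal.map (algebraMap S (Localization.Away g)) p).comap
        (algebraMap S (Localization.Away g))).primeCompl (Localization.AtPrime
      (Ideal.map (algebraMap S (Localization.Away g)) p)) := h2
    have e : ((Ideal.map (algebraMap S (Localization.Away g)) p).comap
        (algebraMap S (Localization.Away g))).primeCompl = p.primeCompl := by
      ext x
      simp only [Ideal.mem_primeCompl_iff]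
      rw [hcomap]
    unfold IsLocalization.AtPrime
    rw [← e]
    exact h2'
  exact Groth.Agent.Lib.Helper4.StalkClosedPt1.cm_of_ringEquiv _ _
    (IsLocalization.algEquiv p.primeCompl
      (Localization.AtPrime (Ideal.map (algebraMap S (Localization.Away g)) p))
      (Localization.AtPrime p)).toRingEquiv h1

/-- a nontrivial global complete intersection over a field is a quotient of a polynomial ring by
`c` polynomials with dimension `n - c` -/
theorem exists_equiv_of_isGlobalCI (k T : Type u) [Field k] [CommRing T] [Algebra k T]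
    [Nontrivial T] (h : _root_.Synt.IsGlobalCI k T) :
    ∃ (n c d : ℕ) (r : Fin c → MvPolynomial (Fin n) k), c + d = n ∧
      ringKrullDim (MvPolynomial (Fin n) k ⧸ Ideal.span (Set.range r)) = d ∧
      Nonempty ((MvPolynomial (Fin n) k ⧸ Ideal.span (Set.range r)) ≃ₐ[k] T) := by
  rcases h with h | ⟨n, c, hcn, φ, r, hφ, hker, hdim⟩
  · exact absurd h (not_subsingleton T)
  · refine ⟨n, c, n - c, r, by omega, ?_, ?_⟩
    · have hker' : RingHom.ker φ = Ideal.span (Set.range r) := hker
      rw [← hdim, ← hker']
      exact ringKrullDim_eq_of_ringEquiv (Ideal.quotientKerAlgEquivOfSurjective hφ).toRingEquiv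
    · have hker' : RingHom.ker φ = Ideal.span (Set.range r) := hker
      rw [← hker']
      exact ⟨Ideal.quotientKerAlgEquivOfSurjective hφ⟩

theorem isCohenMacaulayRing_of_isGlobalCI (k T : Type u) [Field k] [CommRing T] [Algebra k T]
    [Nontrivial T] (h : _root_.Synt.IsGlobalCI k T) : IsCohenMacaulayRing T := by
  obtain ⟨n, c, d, r, hcd, hdim, ⟨e⟩⟩ := exists_equiv_of_isGlobalCI k T h
  exact Groth.Agent.Helper8.CplQuot.isCohenMacaulayRing_of_ringEquiv e.toRingEquiv
    (isCohenMacaulayRing_of_globalCI k n _ r rfl d hdim hcd)

theorem isCohenMacaulayRing_of_isLCIOver (k S : Type u) [Field k] [CommRing S] [Algebra k S]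
    (h : _root_.Synt.IsLCIOver k S) : IsCohenMacaulayRing S := by
  obtain ⟨hft, h⟩ := h
  haveI : IsNoetherianRing S := Algebra.FiniteType.isNoetherianRing k S
  apply isCohenMacaulayRing_of_forall_away
  intro p
  obtain ⟨g, hg, hci⟩ := h p
  refine ⟨g, hg, ?_⟩
  haveI : Nontrivial (Localization.Away g) := by
    have hdisj : Disjoint (Submonoid.powers g : Set S) (p.asIdeal : Set S) := by
      rw [Set.disjoint_left]
      rintro _ ⟨m, rfl⟩ hm
      exact hg (p.isPrime.mem_of_pow_mem m hm)
    have := IsLocalization.isPrime_of_isPrime_disjoint (Submonoid.powers g)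
      (Localization.Away g) p.asIdeal p.isPrime hdisj
    exact ⟨⟨0, 1, fun h01 => this.ne_top ((Ideal.eq_top_iff_one _).mpr (h01 ▸ zero_mem _))⟩⟩
  exact isCohenMacaulayRing_of_isGlobalCI k _ hci

end Groth.Agent.Helper2.Synt
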