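import Mathlib
import Groth.Agent.Lib.Helper2.Synt.LCICM
import Groth.Agent.Lib.Helper2.Synt.AwayPres

/-!
# Principal localizations of global complete intersections
-/

set_option autoImplicit false
universe u v

namespace Groth.Agent.Helper2.Synt

open RingTheory.Sequence LocCoh IsLocalRing

/-- `IsGlobalCI` is invariant under algebra isomorphisms -/
theorem isGlobalCI_of_algEquiv {k T T' : Type u} [Field k] [CommRing T] [CommRing T']
    [Algebra k T] [Algebra k T'] (e : T ≃ₐ[k] T') (h : _root_.Synt.IsGlobalCI k T) :
    _root_.Synt.IsGlobalCI k T' := by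
  rcases h with h | ⟨n, c, hcn, φ, r, hφ, hker, hdim⟩
  · left
    exact e.symm.toEquiv.subsingleton
  · right
    refine ⟨n, c, hcn, (e : T →ₐ[k] T').comp φ, r, e.surjective.comp hφ, ?_, ?_⟩
    · rw [← hker]
      ext x
      simp only [RingHom.mem_ker]
      change e (φ x) = 0 ↔ φ x = 0
      exact e.map_eq_zero_iff
    · rw [← hdim]
      exact (ringKrullDim_eq_of_ringEquiv e.toRingEquiv).symm

section Poly

variable (k : Type u) [Field k] (n : ℕ) (I : Ideal (MvPolynomial (Fin n) k))

/-- maximal ideals of a global complete intersection have height `n - c` -/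
theorem height_of_isMaximal_of_globalCI {c : ℕ} (r : Fin c → MvPolynomial (Fin n) k)
    (hI : I = Ideal.span (Set.range r)) (d : ℕ)
    (hd : ringKrullDim (MvPolynomial (Fin n) k ⧸ I) = d) (hcd : c + d = n)
    (m : Ideal (MvPolynomial (Fin n) k ⧸ I)) [hm : m.IsMaximal] : m.height = d := by
  have h1 := height_comap_eq k n I m r hI d hd hcd
  haveI : (m.comap (Ideal.Quotient.mk I)).IsMaximal :=
    Ideal.comap_isMaximal_of_surjective _ Ideal.Quotient.mk_surjective
  rw [Groth.Agent.Lib.Helper4.DimFT1.mvPolynomial_height_of_isMaximal k n] at h1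
  obtain ⟨a, ha⟩ := ENat.ne_top_iff_exists.mp (Ideal.height_ne_top hm.ne_top :
      m.height ≠ ⊤)
  rw [← ha] at h1 ⊢
  have : c + a = n := by exact_mod_cast h1
  have : a = d := by omega
  rw [this]

theorem ringKrullDim_away_of_globalCI {c : ℕ} (r : Fin c → MvPolynomial (Fin n) k)
    (hI : I = Ideal.span (Set.range r)) (d : ℕ)
    (hd : ringKrullDim (MvPolynomial (Fin n) k ⧸ I) = d) (hcd : c + d = n)
    (g : MvPolynomial (Fin n) k ⧸ I) (T : Type*) [CommRing T]
    [Algebra (MvPolynomial (Fin n) k ⧸ I) T] [IsLocalization.Away g T] [Nontrivial T] :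
    ringKrullDim T = d := by
  apply le_antisymm
  · rw [ringKrullDim_le_iff_height_le]
    intro p hp
    rw [← IsLocalization.height_under (Submonoid.powers g) p, ← hd]
    exact Ideal.height_le_ringKrullDim_of_ne_top (Ideal.IsPrime.ne_top')
  · -- a maximal ideal avoiding `g`
    have hnil : g ∉ (⊥ : Ideal (MvPolynomial (Fin n) k ⧸ I)).radical := by
      rintro ⟨m, hm⟩
      have h0 : (0 : MvPolynomial (Fin n) k ⧸ I) ∈ Submonoid.powers g := ⟨m, hm⟩
      exact not_subsingleton T (IsLocalization.subsingleton (M := Submonoid.powers g) h0)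
    have hjac : (⊥ : Ideal (MvPolynomial (Fin n) k ⧸ I)).radical.jacobson =
        (⊥ : Ideal (MvPolynomial (Fin n) k ⧸ I)).radical :=
      IsJacobsonRing.out' _ (Ideal.radical_isRadical _)
    rw [← hjac, Ideal.jacobson, Submodule.mem_sInf] at hnil
    push Not at hnil
    obtain ⟨m, ⟨-, hmax⟩, hgm⟩ := hnil
    haveI := hmax
    have hdisj : Disjoint (Submonoid.powers g : Set (MvPolynomial (Fin n) k ⧸ I))
        (m : Set (MvPolynomial (Fin n) k ⧸ I)) := by
      rw [Set.disjoint_left]
      rintro _ ⟨j, rfl⟩ hj
      exact hgm (hmax.isPrime.mem_of_pow_mem j hj)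
    have hprime : (Ideal.map (algebraMap (MvPolynomial (Fin n) k ⧸ I) T) m).IsPrime :=
      IsLocalization.isPrime_of_isPrime_disjoint (Submonoid.powers g) T m hmax.isPrime hdisj
    have h1 := IsLocalization.height_map_of_disjoint (S := T) (Submonoid.powers g) m hdisj
    rw [height_of_isMaximal_of_globalCI k n I r hI d hd hcd m] at h1
    have h2 := Ideal.height_le_ringKrullDim_of_ne_top hprime.ne_top
    rw [h1] at h2
    exact_mod_cast h2

end Poly

section Main

variable (k S : Type u) [Field k] [CommRing S] [Algebra k S]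

theorem isGlobalCI_away' (g : S) (T : Type u) [CommRing T] [Algebra S T] [Algebra k T]
    [IsScalarTower k S T] [IsLocalization.Away g T]
    (h : _root_.Synt.IsGlobalCI k S) : _root_.Synt.IsGlobalCI k T := by
  rcases subsingleton_or_nontrivial T with hT | hT
  · exact Or.inl hT
  haveI : Nontrivial S := by
    by_contra hS
    rw [not_nontrivial_iff_subsingleton] at hS
    have : (0 : S) ∈ Submonoid.powers g := ⟨1, Subsingleton.elim _ _⟩
    exact not_subsingleton T (IsLocalization.subsingleton (M := Submonoid.powers g) this)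
  obtain ⟨n, c, d, r, hcd, hdim, ⟨e⟩⟩ := exists_equiv_of_isGlobalCI k S h
  obtain ⟨G, hG⟩ := Ideal.Quotient.mk_surjective (e.symm g)
  have hG' : e (Ideal.Quotient.mkₐ k (Ideal.span (Set.range r)) G) = g := by
    change e (Ideal.Quotient.mk _ G) = g
    rw [hG, AlgEquiv.apply_symm_apply]
  have H : Submonoid.map e (Submonoid.powers
      (Ideal.Quotient.mkₐ k (Ideal.span (Set.range r)) G)) = Submonoid.powers g := by
    rw [Submonoid.map_powers]
    congr 1
  let ι : Localization.Away (Ideal.Quotient.mkₐ k (Ideal.span (Set.range r)) G) ≃ₐ[k] T :=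
    IsLocalization.algEquivOfAlgEquiv _ _ e H
  haveI : Nontrivial (Localization.Away (Ideal.Quotient.mkₐ k (Ideal.span (Set.range r)) G)) :=
    ι.toEquiv.nontrivial
  apply isGlobalCI_of_algEquiv ι
  right
  refine ⟨n + 1, c + 1, by omega,
    awayHom (Ideal.Quotient.mkₐ k (Ideal.span (Set.range r))) G _, awayRel r G,
    awayHom_surjective _ G _ (Ideal.Quotient.mkₐ_surjective k _),
    ker_awayHom _ r G _ (Ideal.Quotient.mkₐ_surjective k _) (Ideal.Quotient.mkₐ_ker k _), ?_⟩
  rw [ringKrullDim_away_of_globalCI k n _ r rfl d hdim hcd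
    (Ideal.Quotient.mkₐ k (Ideal.span (Set.range r)) G)]
  congr 2
  omega

theorem isGlobalCI_away (g : S) (h : _root_.Synt.IsGlobalCI k S) :
    _root_.Synt.IsGlobalCI k (Localization.Away g) :=
  isGlobalCI_away' k S g _ h

theorem isLCIOver_away [Algebra.FiniteType k S] (g : S) (h : _root_.Synt.IsLCIOver k S) :
    _root_.Synt.IsLCIOver k (Localization.Away g) := by
  obtain ⟨-, h⟩ := h
  refine ⟨?_, fun p' => ?_⟩
  · haveI : Algebra.FiniteType S (Localization.Away g) := IsLocalization.finiteType_of_monoid_fg
      (Submonoid.powers g) _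
    exact Algebra.FiniteType.trans (R := k) (S := S) (A := Localization.Away g)
      inferInstance inferInstance
  · obtain ⟨f, hf, hci⟩ := h ⟨p'.asIdeal.comap (algebraMap S (Localization.Away g)),
      Ideal.comap_isPrime _ _⟩
    refine ⟨algebraMap S (Localization.Away g) f, hf, ?_⟩
    -- both double localizations are the localization at `g * f`
    haveI h1 : IsLocalization.Away (g * f)
        (Localization.Away (algebraMap S (Localization.Away g) f)) :=
      IsLocalization.Away.mul' (Localization.Away g) _ g f
    haveI h2 : IsLocalization.Away (g * f)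
        (Localization.Away (algebraMap S (Localization.Away f) g)) :=
      IsLocalization.Away.mul (Localization.Away f) _ f g
    have hci2 : _root_.Synt.IsGlobalCI k (Localization.Away (algebraMap S (Localization.Away f) g)) :=
      isGlobalCI_away k (Localization.Away f) _ hci
    let ι : Localization.Away (algebraMap S (Localization.Away f) g) ≃ₐ[S]
        Localization.Away (algebraMap S (Localization.Away g) f) :=
      IsLocalization.algEquiv (Submonoid.powers (g * f)) _ _
    exact isGlobalCI_of_algEquiv (ι.restrictScalars k) hci2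

end Main

end Groth.Agent.Helper2.Synt
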