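import Mathlib

/-!
# Two regular local presentations essentially of finite type over a field are dominated by a third
-/

set_option autoImplicit false
universe u v

namespace Groth.Agent.Helper2.Synt

open IsLocalRing MvPolynomial

section LocSurj

variable {k : Type*} [CommRing k] {R : Type*} [CommRing R] [IsLocalRing R] [Algebra k R]
  {ι : Type*} (v : ι → R) (𝔭 : Ideal (MvPolynomial ι k)) [𝔭.IsPrime]
  (h𝔭 : ∀ x, x ∈ 𝔭 ↔ aeval v x ∈ maximalIdeal R)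

include h𝔭 in
theorem isUnit_aeval_of_mem_primeCompl (y : 𝔭.primeCompl) :
    IsUnit ((aeval v : MvPolynomial ι k →ₐ[k] R) (y : MvPolynomial ι k)) := by
  by_contra h
  exact y.2 ((h𝔭 _).mpr ((mem_maximalIdeal _).mpr h))

/-- the induced map from the localization -/
noncomputable def locLift : Localization.AtPrime 𝔭 →+* R :=
  IsLocalization.lift (M := 𝔭.primeCompl) (g := (aeval v : MvPolynomial ι k →ₐ[k] R).toRingHom)
    (isUnit_aeval_of_mem_primeCompl v 𝔭 h𝔭)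

theorem locLift_algebraMap (x : MvPolynomial ι k) :
    locLift v 𝔭 h𝔭 (algebraMap _ _ x) = aeval v x :=
  IsLocalization.lift_eq _ x

theorem locLift_surjective (σ : Finset R) (hσv : (σ : Set R) ⊆ Set.range v)
    (hσ : ∀ s : R, ∃ t ∈ Algebra.adjoin k (σ : Set R), IsUnit t ∧
      s * t ∈ Algebra.adjoin k (σ : Set R)) :
    Function.Surjective (locLift v 𝔭 h𝔭) := by
  have hadj : Algebra.adjoin k (σ : Set R) ≤ (aeval v : MvPolynomial ι k →ₐ[k] R).range := by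
    rw [Algebra.adjoin_le_iff]
    intro a ha
    obtain ⟨i, rfl⟩ := hσv ha
    exact ⟨X i, by simp⟩
  intro s
  obtain ⟨t, ht, htu, hst⟩ := hσ s
  obtain ⟨t', rfl⟩ := hadj ht
  obtain ⟨a', ha'⟩ := hadj hst
  have ht'𝔭 : t' ∉ 𝔭 := by
    intro h
    have := (h𝔭 t').mp h
    exact (mem_maximalIdeal _).mp this htu
  refine ⟨IsLocalization.mk' _ a' (⟨t', ht'𝔭⟩ : 𝔭.primeCompl), ?_⟩
  unfold locLift
  rw [IsLocalization.lift_mk'_spec]
  change aeval v a' = aeval v t' * s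
  have : (aeval v : MvPolynomial ι k →ₐ[k] R) a' = s * aeval v t' := ha'
  rw [this, mul_comm]

end LocSurj

section Dom

variable (k : Type u) [Field k] (R₁ R₂ A : Type u) [CommRing R₁] [CommRing R₂] [CommRing A]
  [IsLocalRing R₁] [IsLocalRing R₂] [Nontrivial A] [Algebra k R₁] [Algebra k R₂] [Algebra k A]
  [Algebra.EssFiniteType k R₁] [Algebra.EssFiniteType k R₂]

/-- **Domination**: two local `k`-algebras essentially of finite type surjecting onto the same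
`k`-algebra receive compatible surjections from a localization of a polynomial ring. -/
theorem exists_dominating (π₁ : R₁ →ₐ[k] A) (π₂ : R₂ →ₐ[k] A)
    (hπ₁ : Function.Surjective π₁) (hπ₂ : Function.Surjective π₂) :
    ∃ (R₃ : Type u) (_ : CommRing R₃) (_ : IsRegularLocalRing R₃) (ρ₁ : R₃ →+* R₁)
      (ρ₂ : R₃ →+* R₂), Function.Surjective ρ₁ ∧ Function.Surjective ρ₂ ∧
      (π₁ : R₁ →+* A).comp ρ₁ = (π₂ : R₂ →+* A).comp ρ₂ := by
  classical
  obtain ⟨σ₁, hσ₁⟩ := (Algebra.essFiniteType_iff k R₁).mp inferInstance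
  obtain ⟨σ₂, hσ₂⟩ := (Algebra.essFiniteType_iff k R₂).mp inferInstance
  have ht : ∀ b : σ₂, ∃ t : R₁, π₁ t = π₂ b := fun b => hπ₁ _
  have hu : ∀ a : σ₁, ∃ u : R₂, π₂ u = π₁ a := fun a => hπ₂ _
  choose t ht using ht
  choose u hu using hu
  let v₁ : σ₁ ⊕ σ₂ → R₁ := Sum.elim (fun a => (a : R₁)) t
  let v₂ : σ₁ ⊕ σ₂ → R₂ := Sum.elim u (fun b => (b : R₂))
  have hcomm : π₁.comp (aeval v₁ : MvPolynomial (σ₁ ⊕ σ₂) k →ₐ[k] R₁) =
      π₂.comp (aeval v₂ : MvPolynomial (σ₁ ⊕ σ₂) k →ₐ[k] R₂) := by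
    apply MvPolynomial.algHom_ext
    rintro (a | b)
    · simp [v₁, v₂, hu]
    · simp [v₁, v₂, ht]
  haveI : IsLocalHom (π₁ : R₁ →+* A) := IsLocalHom.of_surjective _ hπ₁
  haveI : IsLocalHom (π₂ : R₂ →+* A) := IsLocalHom.of_surjective _ hπ₂
  have hmem₁ : ∀ r : R₁, r ∈ maximalIdeal R₁ ↔ ¬ IsUnit (π₁ r) := by
    intro r
    rw [mem_maximalIdeal, mem_nonunits_iff]
    exact not_congr ⟨fun h => h.map π₁, fun h => IsLocalHom.map_nonunit (f := (π₁ : R₁ →+* A)) r h⟩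
  have hmem₂ : ∀ r : R₂, r ∈ maximalIdeal R₂ ↔ ¬ IsUnit (π₂ r) := by
    intro r
    rw [mem_maximalIdeal, mem_nonunits_iff]
    exact not_congr ⟨fun h => h.map π₂, fun h => IsLocalHom.map_nonunit (f := (π₂ : R₂ →+* A)) r h⟩
  let 𝔭 : Ideal (MvPolynomial (σ₁ ⊕ σ₂) k) :=
    (maximalIdeal R₁).comap (aeval v₁ : MvPolynomial (σ₁ ⊕ σ₂) k →ₐ[k] R₁)
  haveI : 𝔭.IsPrime := Ideal.comap_isPrime _ _
  have h𝔭₁ : ∀ x, x ∈ 𝔭 ↔ aeval v₁ x ∈ maximalIdeal R₁ := fun x => Iff.rfl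
  have h𝔭₂ : ∀ x, x ∈ 𝔭 ↔ aeval v₂ x ∈ maximalIdeal R₂ := by
    intro x
    rw [h𝔭₁, hmem₁, hmem₂]
    have := DFunLike.congr_fun hcomm x
    simp only [AlgHom.comp_apply] at this
    rw [this]
  refine ⟨Localization.AtPrime 𝔭, inferInstance, inferInstance,
    locLift v₁ 𝔭 h𝔭₁, locLift v₂ 𝔭 h𝔭₂, ?_, ?_, ?_⟩
  · apply locLift_surjective v₁ 𝔭 h𝔭₁ σ₁ _ hσ₁
    intro a ha
    exact ⟨Sum.inl ⟨a, ha⟩, rfl⟩
  · apply locLift_surjective v₂ 𝔭 h𝔭₂ σ₂ _ hσ₂
    intro b hb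
    exact ⟨Sum.inr ⟨b, hb⟩, rfl⟩
  · apply IsLocalization.ringHom_ext 𝔭.primeCompl
    ext x
    · simp only [RingHom.comp_apply, locLift_algebraMap]
      have := DFunLike.congr_fun hcomm (C x)
      simpa using this
    · simp only [RingHom.comp_apply, locLift_algebraMap]
      have := DFunLike.congr_fun hcomm (X x)
      simpa using this

end Dom

end Groth.Agent.Helper2.Synt
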