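import Mathlib
import Groth.Agent.Lib.Helper8.RegularLocal3
import Groth.Agent.Lib.Helper8.RegularLocal4

/-!
# Exchange lemma for generators of ideals in local rings, and the number of generators of an
ideal of a regular local ring modulo part of a regular system of parameters
-/

set_option autoImplicit false
universe u v

namespace Groth.Agent.Helper2.Synt

open IsLocalRing

/-- Exchange lemma: elements of `K` independent modulo `𝔪 K` can be completed to a generating
set of `K` with the minimal number of elements. -/
theorem exists_finset_sup_span_eq {R : Type*} [CommRing R] [IsLocalRing R] (K : Ideal R)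
    (U : Finset R) (hU : Ideal.span (U : Set R) = K) :
    ∀ (c : ℕ) (z : Fin c → R), (∀ i, z i ∈ K) →
      (∀ a : Fin c → R, ∑ i, a i * z i ∈ maximalIdeal R * K → ∀ i, a i ∈ maximalIdeal R) →
      ∃ W : Finset R, W.card + c ≤ U.card ∧
        Ideal.span (Set.range z) ⊔ Ideal.span (W : Set R) = K := by
  classical
  intro c
  induction c with
  | zero =>
    intro z _ _
    refine ⟨U, le_rfl, ?_⟩
    have : Set.range z = ∅ := Set.range_eq_empty z
    rw [this, Ideal.span_empty, bot_sup_eq, hU]
  | succ c ih =>
    intro z hz H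
    -- restrict to the first `c`
    have H' : ∀ a : Fin c → R, ∑ i, a i * (z (Fin.castSucc i)) ∈ maximalIdeal R * K →
        ∀ i, a i ∈ maximalIdeal R := by
      intro a ha i
      have h1 := H (Fin.snoc (α := fun _ => R) a 0) (by
        rw [Fin.sum_univ_castSucc]
        simpa using ha) (Fin.castSucc i)
      simpa using h1
    obtain ⟨W, hWcard, hW⟩ := ih (fun i => z (Fin.castSucc i)) (fun i => hz _) H'
    have hWK : Ideal.span (W : Set R) ≤ K := hW ▸ le_sup_right
    have hlast : z (Fin.last c) ∈
        Ideal.span (Set.range fun i => z (Fin.castSucc i)) ⊔ Ideal.span (W : Set R) := by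
      rw [hW]; exact hz _
    obtain ⟨y, hy, w, hw, hyw⟩ := Submodule.mem_sup.mp hlast
    obtain ⟨a', ha'⟩ := (Ideal.mem_span_range_iff_exists_fun).mp hy
    obtain ⟨b, -, hb⟩ := Submodule.mem_span_finset.mp hw
    simp only [smul_eq_mul] at hb
    -- some coefficient `b u` is a unit
    have hex : ∃ u ∈ W, b u ∉ maximalIdeal R := by
      by_contra hcon
      push Not at hcon
      have hwm : w ∈ maximalIdeal R * K := by
        rw [← hb]
        apply Ideal.sum_mem
        intro u hu
        exact Ideal.mul_mem_mul (hcon u hu) (hWK (Ideal.subset_span hu))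
      have h1 := H (Fin.snoc (α := fun _ => R) (fun i => - a' i) 1) (by
        rw [Fin.sum_univ_castSucc]
        simp only [Fin.snoc_castSucc, Fin.snoc_last, neg_mul, Finset.sum_neg_distrib, one_mul]
        rw [ha', ← hyw]
        simpa using hwm) (Fin.last c)
      simp only [Fin.snoc_last] at h1
      exact (maximalIdeal.isMaximal R).ne_top ((Ideal.eq_top_iff_one _).mpr h1)
    obtain ⟨u0, hu0W, hu0⟩ := hex
    have hunit : IsUnit (b u0) := by
      by_contra h
      exact hu0 ((mem_maximalIdeal _).mpr h)
    refine ⟨W.erase u0, ?_, ?_⟩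
    · have : 0 < W.card := Finset.card_pos.mpr ⟨u0, hu0W⟩
      rw [Finset.card_erase_of_mem hu0W]
      omega
    · set T := Ideal.span (Set.range z) ⊔ Ideal.span ((W.erase u0 : Finset R) : Set R) with hT
      have hzT : ∀ i, z i ∈ T := fun i => le_sup_left (a := Ideal.span (Set.range z))
        (Ideal.subset_span (Set.mem_range_self i))
      have hWT : ∀ u ∈ W, u ≠ u0 → u ∈ T := fun u hu hne =>
        le_sup_right (a := Ideal.span (Set.range z))
          (Ideal.subset_span (Finset.mem_coe.mpr (Finset.mem_erase.mpr ⟨hne, hu⟩)))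
      have hyT : y ∈ T := by
        rw [← ha']
        exact Ideal.sum_mem _ fun i _ => Ideal.mul_mem_left _ _ (hzT _)
      have hu0T : u0 ∈ T := by
        have h1 : b u0 * u0 = z (Fin.last c) - y - ∑ u ∈ W.erase u0, b u * u := by
          rw [← hyw, ← hb, ← Finset.add_sum_erase W _ hu0W]
          ring
        have h2 : b u0 * u0 ∈ T := by
          rw [h1]
          refine Ideal.sub_mem _ (Ideal.sub_mem _ (hzT _) hyT) (Ideal.sum_mem _ fun u hu => ?_)
          exact Ideal.mul_mem_left _ _ (hWT u (Finset.mem_of_mem_erase hu)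
            (Finset.ne_of_mem_erase hu))
        obtain ⟨v, hv⟩ := hunit
        have h3 : u0 = (↑v⁻¹ : R) * (b u0 * u0) := by
          rw [← mul_assoc, ← hv, Units.inv_mul, one_mul]
        rw [h3]
        exact Ideal.mul_mem_left _ _ h2
      apply le_antisymm
      · apply sup_le
        · rw [Ideal.span_le]
          rintro _ ⟨i, rfl⟩
          exact hz i
        · rw [Ideal.span_le]
          intro u hu
          exact hWK (Ideal.subset_span (Finset.mem_of_mem_erase (Finset.mem_coe.mp hu)))
      · rw [← hW]
        apply sup_le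
        · rw [Ideal.span_le]
          rintro _ ⟨i, rfl⟩
          exact hzT _
        · rw [Ideal.span_le]
          intro u hu
          by_cases hne : u = u0
          · rw [hne]; exact hu0T
          · exact hWT u (Finset.mem_coe.mp hu) hne

/-- part of a regular system of parameters is independent modulo `𝔪 K` for `K ≤ 𝔪`. -/
theorem mem_maximalIdeal_of_sum_mem {R : Type*} [CommRing R] [IsLocalRing R] {c : ℕ}
    (z : Fin c → maximalIdeal R)
    (hli : LinearIndependent (ResidueField R) (fun i => (maximalIdeal R).toCotangent (z i)))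
    (K : Ideal R) (hK : K ≤ maximalIdeal R) (a : Fin c → R)
    (ha : ∑ i, a i * (z i : R) ∈ maximalIdeal R * K) : ∀ i, a i ∈ maximalIdeal R := by
  have h1 : ∑ i, a i * (z i : R) ∈ maximalIdeal R ^ 2 := by
    rw [pow_two]
    exact Ideal.mul_mono_right hK ha
  have h2 : ∑ i, (residue R (a i)) • (maximalIdeal R).toCotangent (z i) = 0 := by
    have h3 : ∀ i, (residue R (a i)) • (maximalIdeal R).toCotangent (z i) =
        (maximalIdeal R).toCotangent (a i • z i) := by
      intro i
      rw [map_smul]
      exact algebraMap_smul (ResidueField R) (a i) ((maximalIdeal R).toCotangent (z i))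
    simp_rw [h3]
    rw [← map_sum, Ideal.toCotangent_eq_zero]
    simpa using h1
  intro i
  have h4 := Fintype.linearIndependent_iff.mp hli (fun i => residue R (a i)) h2 i
  exact (residue_eq_zero_iff _).mp h4

/-- **Number of generators modulo part of a regular system of parameters.** -/
theorem spanFinrank_add_eq_of_quotient_regular (R : Type u) [CommRing R] [IsRegularLocalRing R]
    (d e : ℕ) (hd : ringKrullDim R = d) (L K : Ideal R) [IsRegularLocalRing (R ⧸ L)]
    (he : ringKrullDim (R ⧸ L) = e) (hLK : L ≤ K) (hK : K ≤ maximalIdeal R) :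
    K.spanFinrank + e = (K.map (Ideal.Quotient.mk L)).spanFinrank + d := by
  classical
  obtain ⟨x, c, hc, hxm, hxL⟩ :=
    Groth.Agent.Helper8.RLR.exists_generators_of_quotient_regular R d hd L
  have hmem : ∀ i, x i ∈ maximalIdeal R := fun i => hxm ▸ Ideal.subset_span ⟨i, rfl⟩
  have hfr : Module.finrank (ResidueField R) (CotangentSpace R) = d := by
    have h1 : ((maximalIdeal R).spanFinrank : WithBot ℕ∞) = ringKrullDim R :=
      IsRegularLocalRing.spanFinrank_maximalIdeal
    rw [spanFinrank_maximalIdeal_eq_finrank_cotangentSpace, hd] at h1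
    exact_mod_cast h1
  have hli := Groth.Agent.Helper8.RLR.linearIndependent_of_span_eq
    (fun i => (⟨x i, hmem i⟩ : maximalIdeal R)) hxm (by simp [hfr])
  have hli' := hli.comp (Fin.castLE hc) (Fin.castLE_injective hc)
  obtain ⟨-, hdim⟩ := Groth.Agent.Helper8.RLR.quotient_of_linearIndependent
    (fun i : Fin c => (⟨x (Fin.castLE hc i), hmem _⟩ : maximalIdeal R)) hli'
  have hL' : Ideal.span (Set.range fun i : Fin c =>
      ((⟨x (Fin.castLE hc i), hmem _⟩ : maximalIdeal R) : R)) = L := hxL.symm
  rw [hL', he, hd] at hdim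
  have hec : e + c = d := by
    simp only [Fintype.card_fin] at hdim
    exact_mod_cast hdim
  have hKfg : K.FG := (isNoetherianRing_iff_ideal_fg R).mp inferInstance K
  have hK'fg : (K.map (Ideal.Quotient.mk L)).FG :=
    (isNoetherianRing_iff_ideal_fg _).mp inferInstance _
  have hle : K.spanFinrank ≤ (K.map (Ideal.Quotient.mk L)).spanFinrank + c := by
    obtain ⟨s', hs'card, hs'⟩ := Submodule.FG.exists_span_finset_card_eq_spanFinrank hK'fg
    have hlift : ∀ y : (s' : Set (R ⧸ L)), ∃ r : R, r ∈ K ∧ Ideal.Quotient.mk L r = y := by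
      intro y
      have : (y : R ⧸ L) ∈ K.map (Ideal.Quotient.mk L) := by
        rw [← hs']; exact Ideal.subset_span y.2
      exact (Ideal.mem_map_iff_of_surjective _ Ideal.Quotient.mk_surjective).mp this
    choose ℓ hℓK hℓ using hlift
    have hKeq : K = Ideal.span (Set.range ℓ) ⊔ L := by
      have h1 : (Ideal.span (Set.range ℓ)).map (Ideal.Quotient.mk L) =
          K.map (Ideal.Quotient.mk L) := by
        rw [Ideal.map_span, ← hs']
        congr 1
        ext y
        constructor
        · rintro ⟨_, ⟨i, rfl⟩, rfl⟩
          rw [hℓ]; exact i.2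
        · intro hy
          exact ⟨ℓ ⟨y, hy⟩, ⟨_, rfl⟩, hℓ _⟩
      have h2 := congrArg (Ideal.comap (Ideal.Quotient.mk L)) h1
      rw [Ideal.comap_map_of_surjective _ Ideal.Quotient.mk_surjective,
        Ideal.comap_map_of_surjective _ Ideal.Quotient.mk_surjective,
        ← RingHom.ker_eq_comap_bot, Ideal.mk_ker, sup_of_le_left hLK] at h2
      exact h2.symm
    have hLfg : L.FG := (isNoetherianRing_iff_ideal_fg R).mp inferInstance L
    have h3 : (Ideal.span (Set.range ℓ)).spanFinrank ≤ s'.card := by
      refine (Submodule.spanFinrank_span_le_ncard_of_finite (Set.finite_range _)).trans ?_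
      rw [← Set.image_univ]
      refine (Set.ncard_image_le Set.finite_univ).trans ?_
      rw [Set.ncard_univ]
      simp
    have h4 : L.spanFinrank ≤ c := by
      rw [hxL]
      refine (Submodule.spanFinrank_span_le_ncard_of_finite (Set.finite_range _)).trans ?_
      rw [← Set.image_univ]
      refine (Set.ncard_image_le Set.finite_univ).trans ?_
      simp [Set.ncard_univ]
    have h5 : (Ideal.span (Set.range ℓ) ⊔ L).spanFinrank ≤
        (Ideal.span (Set.range ℓ)).spanFinrank + L.spanFinrank :=
      Groth.Agent.Helper8.RLR.spanFinrank_sup_le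
        (Submodule.fg_span (Set.finite_range ℓ)) hLfg
    rw [← hKeq] at h5
    omega
  have hge : (K.map (Ideal.Quotient.mk L)).spanFinrank + c ≤ K.spanFinrank := by
    obtain ⟨U, hUcard, hU⟩ := Submodule.FG.exists_span_finset_card_eq_spanFinrank hKfg
    obtain ⟨W, hWcard, hW⟩ := exists_finset_sup_span_eq K U hU c
      (fun i => x (Fin.castLE hc i))
      (fun i => hLK (hxL ▸ Ideal.subset_span ⟨i, rfl⟩))
      (mem_maximalIdeal_of_sum_mem
        (fun i : Fin c => (⟨x (Fin.castLE hc i), hmem _⟩ : maximalIdeal R)) hli' K hK)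
    have h1 : K.map (Ideal.Quotient.mk L) =
        Ideal.span ((Ideal.Quotient.mk L) '' (W : Set R)) := by
      rw [← hW, Ideal.map_sup, ← hxL, Ideal.map_quotient_self, bot_sup_eq, Ideal.map_span]
    rw [h1]
    have h2 : (Ideal.span ((Ideal.Quotient.mk L) '' (W : Set R))).spanFinrank ≤ W.card := by
      refine (Submodule.spanFinrank_span_le_ncard_of_finite
        ((Finset.finite_toSet W).image _)).trans ?_
      refine (Set.ncard_image_le (Finset.finite_toSet W)).trans ?_
      rw [Set.ncard_coe_finset]
    omega
  omega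

end Groth.Agent.Helper2.Synt
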