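import Mathlib
import Groth.Agent.Lib.Helper2.Synt.Exchange

/-!
# Independence of the complete intersection defect from the regular presentation
-/

set_option autoImplicit false
universe u v

namespace Groth.Agent.Helper2.Synt

open IsLocalRing

theorem exists_dim_eq_nat (R : Type*) [CommRing R] [IsLocalRing R] [IsNoetherianRing R] :
    ∃ d : ℕ, ringKrullDim R = d := by
  have h1 : ringKrullDim R ≠ ⊥ := ringKrullDim_ne_bot
  have h2 : ringKrullDim R ≠ ⊤ := ringKrullDim_ne_top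
  obtain ⟨d, hd⟩ := WithBot.ne_bot_iff_exists.mp h1
  have h3 : d ≠ ⊤ := by
    rintro rfl
    exact h2 hd.symm
  obtain ⟨n, hn⟩ := ENat.ne_top_iff_exists.mp h3
  exact ⟨n, by rw [← hd, ← hn]; rfl⟩

/-- surjection version of `spanFinrank_add_eq_of_quotient_regular` -/
theorem spanFinrank_add_eq_of_surjective (R R' : Type u) [CommRing R] [CommRing R']
    [IsRegularLocalRing R] [IsRegularLocalRing R'] (ρ : R →+* R') (hρ : Function.Surjective ρ)
    (d e : ℕ) (hd : ringKrullDim R = d) (he : ringKrullDim R' = e) (K : Ideal R)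
    (hker : RingHom.ker ρ ≤ K) (hK : K ≤ maximalIdeal R) :
    K.spanFinrank + e = (K.map ρ).spanFinrank + d := by
  let ε : R ⧸ RingHom.ker ρ ≃+* R' := RingHom.quotientKerEquivOfSurjective hρ
  haveI : IsRegularLocalRing (R ⧸ RingHom.ker ρ) := IsRegularLocalRing.of_ringEquiv ε.symm
  have he' : ringKrullDim (R ⧸ RingHom.ker ρ) = e := by
    rw [ringKrullDim_eq_of_ringEquiv ε, he]
  have h1 := spanFinrank_add_eq_of_quotient_regular R d e hd (RingHom.ker ρ) K he' hker hK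
  have h2 : K.map ρ = (K.map (Ideal.Quotient.mk (RingHom.ker ρ))).map ε := by
    have h3 : (K.map (Ideal.Quotient.mk (RingHom.ker ρ))).map ε =
        (K.map (Ideal.Quotient.mk (RingHom.ker ρ))).map (ε : _ →+* R') := rfl
    rw [h3, Ideal.map_map]
    congr 1
  rw [h2, Ideal.spanFinrank_map_eq_of_ringEquiv]
  exact h1

/-- **Invariance of the complete intersection defect.** -/
theorem spanFinrank_ker_add_eq (R₁ R₂ R₃ A : Type u) [CommRing R₁] [CommRing R₂] [CommRing R₃]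
    [CommRing A] [Nontrivial A] [IsRegularLocalRing R₁] [IsRegularLocalRing R₂]
    [IsRegularLocalRing R₃] (ρ₁ : R₃ →+* R₁) (ρ₂ : R₃ →+* R₂) (π₁ : R₁ →+* A) (π₂ : R₂ →+* A)
    (hρ₁ : Function.Surjective ρ₁) (hρ₂ : Function.Surjective ρ₂)
    (hcomm : π₁.comp ρ₁ = π₂.comp ρ₂) (d₁ d₂ : ℕ) (hd₁ : ringKrullDim R₁ = d₁)
    (hd₂ : ringKrullDim R₂ = d₂) :
    (RingHom.ker π₁).spanFinrank + d₂ = (RingHom.ker π₂).spanFinrank + d₁ := by
  obtain ⟨d₃, hd₃⟩ := exists_dim_eq_nat R₃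
  set K := RingHom.ker (π₁.comp ρ₁) with hK
  have hKtop : K ≠ ⊤ := RingHom.ker_ne_top _
  have hKm : K ≤ maximalIdeal R₃ := le_maximalIdeal hKtop
  have hK1 : K = (RingHom.ker π₁).comap ρ₁ := by rw [hK, RingHom.comap_ker]
  have hK2 : K = (RingHom.ker π₂).comap ρ₂ := by rw [hK, hcomm, RingHom.comap_ker]
  have h1 := spanFinrank_add_eq_of_surjective R₃ R₁ ρ₁ hρ₁ d₃ d₁ hd₃ hd₁ K
    (by rw [hK1, RingHom.ker_eq_comap_bot]; exact Ideal.comap_mono bot_le) hKm
  have h2 := spanFinrank_add_eq_of_surjective R₃ R₂ ρ₂ hρ₂ d₃ d₂ hd₃ hd₂ K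
    (by rw [hK2, RingHom.ker_eq_comap_bot]; exact Ideal.comap_mono bot_le) hKm
  have h3 : K.map ρ₁ = RingHom.ker π₁ := by
    rw [hK1, Ideal.map_comap_of_surjective _ hρ₁]
  have h4 : K.map ρ₂ = RingHom.ker π₂ := by
    rw [hK2, Ideal.map_comap_of_surjective _ hρ₂]
  rw [h3] at h1
  rw [h4] at h2
  omega

end Groth.Agent.Helper2.Synt
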