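import Mathlib
import Groth.Agent.Lib.Helper2.Synt.GlobalCI
import Groth.Agent.Lib.Helper2.Synt.Invariance
import Groth.Agent.Lib.Helper2.Synt.Dominate

/-!
# Complete intersection ideals of regular local rings
-/

set_option autoImplicit false
universe u v

namespace Groth.Agent.Helper2.Synt

open RingTheory.Sequence LocCoh IsLocalRing Groth.Agent.Helper8.Depth

/-- auxiliary: if `r` lies in `ofList (rs.take j)` and is regular on the quotient, everything
collapses -/
theorem nodup_aux {R M : Type*} [CommRing R] [AddCommGroup M] [Module R M]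
    {rs : List R} {j : ℕ} {r : R}
    (hreg : IsSMulRegular (M ⧸ (Ideal.ofList (rs.take j) • ⊤ : Submodule R M)) r)
    (hmem : r ∈ Ideal.ofList (rs.take j)) :
    (⊤ : Submodule R M) = Ideal.ofList rs • ⊤ := by
  have hsub : Subsingleton (M ⧸ (Ideal.ofList (rs.take j) • ⊤ : Submodule R M)) := by
    refine ⟨fun a b => hreg ?_⟩
    have hz : ∀ c : M ⧸ (Ideal.ofList (rs.take j) • ⊤ : Submodule R M), r • c = 0 := by
      intro c
      obtain ⟨m, rfl⟩ := Submodule.Quotient.mk_surjective _ c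
      rw [← Submodule.Quotient.mk_smul, Submodule.Quotient.mk_eq_zero]
      exact Submodule.smul_mem_smul hmem Submodule.mem_top
    change r • a = r • b
    rw [hz a, hz b]
  have htop : (Ideal.ofList (rs.take j) • ⊤ : Submodule R M) = ⊤ :=
    Submodule.Quotient.subsingleton_iff.mp hsub
  have hle : (Ideal.ofList (rs.take j) • ⊤ : Submodule R M) ≤ Ideal.ofList rs • ⊤ := by
    apply Submodule.smul_mono _ le_rfl
    apply Ideal.span_mono
    intro x hx
    exact List.mem_of_mem_take hx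
  rw [htop] at hle
  exact le_antisymm hle le_top

/-- a regular sequence has no repeated elements -/
theorem nodup_of_isRegular {R M : Type*} [CommRing R] [AddCommGroup M] [Module R M]
    {rs : List R} (h : IsRegular M rs) : rs.Nodup := by
  rw [List.nodup_iff_injective_get]
  -- key: a repetition `rs[i] = rs[j]` with `i < j` is impossible
  have key : ∀ (i j : ℕ) (hi : i < rs.length) (hj : j < rs.length), i < j → rs[i] ≠ rs[j] := by
    intro i j hi hj hlt heq
    apply h.top_ne_smul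
    have hreg := h.regular_mod_prev j hj
    have hmem : rs[j] ∈ Ideal.ofList (rs.take j) := by
      apply Ideal.subset_span
      rw [← heq]
      exact List.mem_take_iff_getElem.mpr ⟨i, by omega, rfl⟩
    exact nodup_aux hreg hmem
  intro i j hij
  simp only [List.get_eq_getElem] at hij
  by_contra hne
  rcases lt_or_gt_of_ne (fun h' => hne (Fin.ext h')) with hlt | hlt
  · exact key i j i.2 j.2 hlt hij
  · exact key j i j.2 i.2 hlt hij.symm

section Reg

variable (R : Type u) [CommRing R] [IsRegularLocalRing R] (J : Ideal R)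

/-- `J` is a complete intersection ideal: `μ(J) + dim R/J = dim R`. -/
def IsCIIdeal : Prop :=
  (J.spanFinrank : WithBot ℕ∞) + ringKrullDim (R ⧸ J) = ringKrullDim R

variable {R J}

theorem exists_nat_dims (hJ : J ≤ maximalIdeal R) :
    ∃ d a : ℕ, ringKrullDim R = d ∧ ringKrullDim (R ⧸ J) = a ∧ d ≤ a + J.spanFinrank := by
  have hJtop : J ≠ ⊤ := fun h =>
    (maximalIdeal.isMaximal R).ne_top (top_le_iff.mp (h ▸ hJ))
  haveI : Nontrivial (R ⧸ J) := Ideal.Quotient.nontrivial_iff.mpr hJtop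
  haveI : IsLocalRing (R ⧸ J) :=
    IsLocalRing.of_surjective' (Ideal.Quotient.mk J) Ideal.Quotient.mk_surjective
  obtain ⟨d, hd⟩ := exists_dim_eq_nat R
  obtain ⟨a, ha⟩ := exists_dim_eq_nat (R ⧸ J)
  refine ⟨d, a, hd, ha, ?_⟩
  have h := ringKrullDim_le_ringKrullDim_quotient_add_spanFinrank J
    (by rw [IsLocalRing.ringJacobson_eq_maximalIdeal]; exact hJ)
  rw [hd, ha] at h
  exact_mod_cast h

theorem isCIIdeal_iff_nat {d a : ℕ} (hd : ringKrullDim R = d) (ha : ringKrullDim (R ⧸ J) = a) :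
    IsCIIdeal R J ↔ J.spanFinrank + a = d := by
  unfold IsCIIdeal
  rw [hd, ha]
  constructor
  · intro h; exact_mod_cast h
  · intro h; exact_mod_cast h

theorem isCIIdeal_iff_exists_isRegular (hJ : J ≤ maximalIdeal R) :
    IsCIIdeal R J ↔ ∃ rs : List R, IsRegular R rs ∧ Ideal.ofList rs = J := by
  classical
  obtain ⟨d, a, hd, ha, hkrull⟩ := exists_nat_dims hJ
  haveI : IsCohenMacaulayLocalRing R :=
    Groth.Agent.Helper8.FlatReg.isCohenMacaulayLocalRing_of_isRegularLocalRing R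
  rw [isCIIdeal_iff_nat hd ha]
  constructor
  · intro h
    have hfg : J.FG := (isNoetherianRing_iff_ideal_fg R).mp inferInstance J
    obtain ⟨s, hscard, hs⟩ := Submodule.FG.exists_span_finset_card_eq_spanFinrank hfg
    have hof : Ideal.ofList s.toList = J := by
      rw [← hs]
      unfold Ideal.ofList
      congr 1
      ext x
      simp
    refine ⟨s.toList, ?_, hof⟩
    apply isRegular_of_dim_add_length
    · intro x hx
      apply hJ
      rw [← hof]
      exact Ideal.subset_span hx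
    · rw [hof, ha, hd, Finset.length_toList, hscard]
      exact_mod_cast (by omega : a + J.spanFinrank = d)
  · rintro ⟨rs, hreg, hof⟩
    have hM : IsCohenMacaulayModule R R := IsCohenMacaulayLocalRing.supportDim_eq_depth
    have hmem : ∀ x ∈ rs, x ∈ maximalIdeal R := fun x hx =>
      hJ (hof ▸ Ideal.subset_span hx)
    obtain ⟨hiff, -⟩ := cm_list rs hmem R hM
    have h1 := hiff.mp hreg.toIsWeaklyRegular
    rw [supportDim_quot_smul_top_self, Module.supportDim_self_eq_ringKrullDim, hof, ha, hd] at h1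
    have h2 : a + rs.length = d := by exact_mod_cast h1
    have h3 : J.spanFinrank ≤ rs.length := by
      rw [← hof]
      exact Groth.Agent.Helper8.RLR.spanFinrank_ofList_le rs
    omega

theorem isCIIdeal_iff_exists_finset (hJ : J ≤ maximalIdeal R) (c : ℕ)
    (hc : (c : WithBot ℕ∞) + ringKrullDim (R ⧸ J) = ringKrullDim R) :
    IsCIIdeal R J ↔ ∃ s : Finset R, s.card = c ∧ Ideal.span (s : Set R) = J := by
  obtain ⟨d, a, hd, ha, hkrull⟩ := exists_nat_dims hJ
  rw [isCIIdeal_iff_nat hd ha]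
  rw [hd, ha] at hc
  have hc' : c + a = d := by exact_mod_cast hc
  constructor
  · intro h
    have hfg : J.FG := (isNoetherianRing_iff_ideal_fg R).mp inferInstance J
    obtain ⟨s, hscard, hs⟩ := Submodule.FG.exists_span_finset_card_eq_spanFinrank hfg
    exact ⟨s, by omega, hs⟩
  · rintro ⟨s, hscard, hs⟩
    have h1 : J.spanFinrank ≤ c := by
      rw [← hs, ← hscard]
      refine (Submodule.spanFinrank_span_le_ncard_of_finite (Finset.finite_toSet s)).trans ?_
      rw [Set.ncard_coe_finset]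
    omega

end Reg

section Transfer

variable (k : Type u) [Field k] (R₁ R₂ A : Type u) [CommRing R₁] [CommRing R₂] [CommRing A]
  [IsRegularLocalRing R₁] [IsRegularLocalRing R₂] [Nontrivial A] [Algebra k R₁] [Algebra k R₂]
  [Algebra k A] [Algebra.EssFiniteType k R₁] [Algebra.EssFiniteType k R₂]

theorem isCIIdeal_ker_of_isCIIdeal_ker (π₁ : R₁ →ₐ[k] A) (π₂ : R₂ →ₐ[k] A)
    (hπ₁ : Function.Surjective π₁) (hπ₂ : Function.Surjective π₂)
    (h : IsCIIdeal R₂ (RingHom.ker (π₂ : R₂ →+* A))) :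
    IsCIIdeal R₁ (RingHom.ker (π₁ : R₁ →+* A)) := by
  obtain ⟨R₃, _, _, ρ₁, ρ₂, hρ₁, hρ₂, hcomm⟩ := exists_dominating k R₁ R₂ A π₁ π₂ hπ₁ hπ₂
  have hm₁ : RingHom.ker (π₁ : R₁ →+* A) ≤ maximalIdeal R₁ :=
    le_maximalIdeal (RingHom.ker_ne_top _)
  have hm₂ : RingHom.ker (π₂ : R₂ →+* A) ≤ maximalIdeal R₂ :=
    le_maximalIdeal (RingHom.ker_ne_top _)
  obtain ⟨d₁, a₁, hd₁, ha₁, -⟩ := exists_nat_dims hm₁
  obtain ⟨d₂, a₂, hd₂, ha₂, -⟩ := exists_nat_dims hm₂
  have e₁ : ringKrullDim (R₁ ⧸ RingHom.ker (π₁ : R₁ →+* A)) = ringKrullDim A :=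
    ringKrullDim_eq_of_ringEquiv
      (RingHom.quotientKerEquivOfSurjective (f := (π₁ : R₁ →+* A)) hπ₁)
  have e₂ : ringKrullDim (R₂ ⧸ RingHom.ker (π₂ : R₂ →+* A)) = ringKrullDim A :=
    ringKrullDim_eq_of_ringEquiv
      (RingHom.quotientKerEquivOfSurjective (f := (π₂ : R₂ →+* A)) hπ₂)
  have haa : a₁ = a₂ := by
    have : (a₁ : WithBot ℕ∞) = a₂ := by rw [← ha₁, ← ha₂, e₁, e₂]
    exact_mod_cast this
  have hinv := spanFinrank_ker_add_eq R₁ R₂ R₃ A ρ₁ ρ₂ (π₁ : R₁ →+* A) (π₂ : R₂ →+* A)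
    hρ₁ hρ₂ hcomm d₁ d₂ hd₁ hd₂
  rw [isCIIdeal_iff_nat hd₂ ha₂] at h
  rw [isCIIdeal_iff_nat hd₁ ha₁]
  omega

theorem isCIIdeal_ker_iff (π₁ : R₁ →ₐ[k] A) (π₂ : R₂ →ₐ[k] A)
    (hπ₁ : Function.Surjective π₁) (hπ₂ : Function.Surjective π₂) :
    IsCIIdeal R₁ (RingHom.ker (π₁ : R₁ →+* A)) ↔ IsCIIdeal R₂ (RingHom.ker (π₂ : R₂ →+* A)) :=
  ⟨isCIIdeal_ker_of_isCIIdeal_ker k R₂ R₁ A π₂ π₁ hπ₂ hπ₁,
    isCIIdeal_ker_of_isCIIdeal_ker k R₁ R₂ A π₁ π₂ hπ₁ hπ₂⟩

end Transfer

end Groth.Agent.Helper2.Synt
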