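import Mathlib

/-!
# Comparing local rings of a localization presented by another algebra
-/

set_option autoImplicit false
universe u v

namespace Groth.Agent.Helper2.Synt

section LocIso

variable {k : Type*} [CommRing k] {S S' T : Type*} [CommRing S] [CommRing S'] [CommRing T]
  [Algebra k S] [Algebra k S'] [Algebra k T] [Algebra S T] [IsScalarTower k S T]
  (M : Submonoid S) [IsLocalization M T] (e : S' ≃ₐ[k] T)
  (q : Ideal S) [q.IsPrime] (hq : Disjoint (M : Set S) (q : Set S))
  (B B' : Type*) [CommRing B] [CommRing B'] [Algebra S B] [Algebra S' B'] [Algebra k B]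
  [Algebra k B'] [IsScalarTower k S B] [IsScalarTower k S' B']
  [IsLocalization.AtPrime B q]

/-- the prime of `S'` corresponding to `q` -/
def primeOver : Ideal S' := (q.map (algebraMap S T)).comap (e : S' →+* T)

include hq in
theorem isPrime_map : (q.map (algebraMap S T)).IsPrime :=
  IsLocalization.isPrime_of_isPrime_disjoint M T q inferInstance hq

include hq in
theorem isPrime_primeOver : (primeOver e q).IsPrime := by
  haveI := isPrime_map (T := T) M q hq
  exact Ideal.comap_isPrime _ _

include hq in
/-- the local ring of `S'` at the corresponding prime is the local ring of `S` at `q` -/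
theorem nonempty_algEquiv_of_isLocalization [hp : (primeOver e q).IsPrime]
    [IsLocalization.AtPrime B' (primeOver e q)] : Nonempty (B' ≃ₐ[k] B) := by
  haveI hqT := isPrime_map (T := T) M q hq
  have hcomap : (q.map (algebraMap S T)).comap (algebraMap S T) = q :=
    IsLocalization.under_map_of_isPrime_disjoint M T inferInstance hq
  -- step 1
  let e₁ : B' ≃ₐ[S'] Localization.AtPrime (primeOver e q) :=
    IsLocalization.algEquiv (primeOver e q).primeCompl _ _
  -- step 2
  have H : Submonoid.map e (primeOver e q).primeCompl = (q.map (algebraMap S T)).primeCompl := by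
    ext x
    constructor
    · rintro ⟨y, hy, rfl⟩
      exact hy
    · intro hx
      refine ⟨e.symm x, ?_, by simp⟩
      change e.symm x ∉ primeOver e q
      unfold primeOver
      rw [Ideal.mem_comap]
      simpa using hx
  let e₂ : Localization.AtPrime (primeOver e q) ≃ₐ[k] Localization.AtPrime (q.map (algebraMap S T)) :=
    IsLocalization.algEquivOfAlgEquiv _ _ e H
  -- step 3
  haveI h2 : IsLocalization.AtPrime (Localization.AtPrime (q.map (algebraMap S T)))
      ((q.map (algebraMap S T)).comap (algebraMap S T)) :=
    IsLocalization.isLocalization_isLocalization_atPrime_isLocalization M _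
      (q.map (algebraMap S T))
  haveI h3 : IsLocalization.AtPrime (Localization.AtPrime (q.map (algebraMap S T))) q := by
    have h2' : IsLocalization ((q.map (algebraMap S T)).comap (algebraMap S T)).primeCompl
        (Localization.AtPrime (q.map (algebraMap S T))) := h2
    have e' : ((q.map (algebraMap S T)).comap (algebraMap S T)).primeCompl = q.primeCompl := by
      ext x
      simp only [Ideal.mem_primeCompl_iff]
      rw [hcomap]
    unfold IsLocalization.AtPrime
    rw [← e']
    exact h2'
  let e₃ : Localization.AtPrime (q.map (algebraMap S T)) ≃ₐ[S] B :=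
    IsLocalization.algEquiv q.primeCompl _ _
  exact ⟨((e₁.restrictScalars k).trans e₂).trans (e₃.restrictScalars k)⟩

end LocIso

end Groth.Agent.Helper2.Synt
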