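import Mathlib
import Groth.Agent.Lib.Helper2.Synt.CIDefect
import Groth.Agent.Lib.Helper2.Synt.LCICM
import Groth.Agent.Lib.Helper2.Synt.LocIso

/-!
# Complete intersection points of an affine algebra over a field
-/

set_option autoImplicit false
universe u v

namespace Groth.Agent.Helper2.Synt

open RingTheory.Sequence LocCoh IsLocalRing Groth.Agent.Helper8.Depth

instance isScalarTower_quotient_map {k : Type*} [CommRing k] {P : Type*} [CommRing P]
    [Algebra k P] (I : Ideal P) (R : Type*) [CommRing R] [Algebra P R] [Algebra k R]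
    [IsScalarTower k P R] : IsScalarTower k (P ⧸ I) (R ⧸ I.map (algebraMap P R)) := by
  apply IsScalarTower.of_algebraMap_eq
  intro x
  rw [IsScalarTower.algebraMap_apply k P (P ⧸ I),
    IsScalarTower.algebraMap_apply k R (R ⧸ I.map (algebraMap P R)),
    IsScalarTower.algebraMap_apply k P R]
  rfl

section Poly

variable (k : Type u) [Field k] (n : ℕ) (I : Ideal (MvPolynomial (Fin n) k))
  (q : Ideal (MvPolynomial (Fin n) k ⧸ I)) [q.IsPrime]

/-- The local ring of the polynomial ring at the preimage of `q`. -/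
local notation "Rq" => Localization.AtPrime (q.comap (Ideal.Quotient.mk I))

/-- the extension of `I` to it -/
local notation "Jq" => I.map (algebraMap (MvPolynomial (Fin n) k) Rq)

/-- a global complete intersection is a complete intersection at each of its points -/
theorem isCIIdeal_of_globalCI {c : ℕ} (r : Fin c → MvPolynomial (Fin n) k)
    (hI : I = Ideal.span (Set.range r)) (d : ℕ)
    (hd : ringKrullDim (MvPolynomial (Fin n) k ⧸ I) = d) (hcd : c + d = n) :
    IsCIIdeal Rq Jq := by
  rw [isCIIdeal_iff_exists_isRegular (map_le_maximalIdeal k n I q)]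
  refine ⟨List.ofFn fun i => algebraMap (MvPolynomial (Fin n) k) Rq (r i), ?_,
    ofList_ofFn_map k n I q r hI⟩
  exact isRegular_of_ofList_eq k n I q c (height_comap_eq k n I q r hI d hd hcd) _
    (by simp) (ofList_ofFn_map k n I q r hI)

theorem isCIIdeal_of_exists_away
    (h : ∃ g : MvPolynomial (Fin n) k ⧸ I, g ∉ q ∧
      _root_.Synt.IsGlobalCI k (Localization.Away g)) : IsCIIdeal Rq Jq := by
  obtain ⟨g, hg, hci⟩ := h
  have hdisj : Disjoint (Submonoid.powers g : Set (MvPolynomial (Fin n) k ⧸ I))
      (q : Set (MvPolynomial (Fin n) k ⧸ I)) := by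
    rw [Set.disjoint_left]
    rintro _ ⟨m, rfl⟩ hm
    exact hg (Ideal.IsPrime.mem_of_pow_mem inferInstance m hm)
  haveI : Nontrivial (Localization.Away g) := by
    have := IsLocalization.isPrime_of_isPrime_disjoint (Submonoid.powers g)
      (Localization.Away g) q inferInstance hdisj
    exact ⟨⟨0, 1, fun h01 => this.ne_top ((Ideal.eq_top_iff_one _).mpr (h01 ▸ zero_mem _))⟩⟩
  obtain ⟨n', c', d', r, hcd, hdim, ⟨e⟩⟩ := exists_equiv_of_isGlobalCI k _ hci
  haveI h𝔮 : (primeOver e q).IsPrime := isPrime_primeOver (Submonoid.powers g) e q hdisj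
  obtain ⟨ι⟩ := nonempty_algEquiv_of_isLocalization (k := k) (Submonoid.powers g) e q hdisj
    (Rq ⧸ Jq)
    (Localization.AtPrime ((primeOver e q).comap (Ideal.Quotient.mk (Ideal.span (Set.range r)))) ⧸
      (Ideal.span (Set.range r)).map (algebraMap (MvPolynomial (Fin n') k)
        (Localization.AtPrime ((primeOver e q).comap
          (Ideal.Quotient.mk (Ideal.span (Set.range r)))))))
  have h2 := isCIIdeal_of_globalCI k n' (Ideal.span (Set.range r)) (primeOver e q) r rfl d'
    hdim hcd
  haveI : Nontrivial (Rq ⧸ Jq) := by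
    apply Ideal.Quotient.nontrivial_iff.mpr
    intro htop
    have := map_le_maximalIdeal k n I q
    rw [htop] at this
    exact (maximalIdeal.isMaximal _).ne_top (top_le_iff.mp this)
  let π₂ : Localization.AtPrime ((primeOver e q).comap
      (Ideal.Quotient.mk (Ideal.span (Set.range r)))) →ₐ[k] Rq ⧸ Jq :=
    ι.toAlgHom.comp (Ideal.Quotient.mkₐ k
      ((Ideal.span (Set.range r)).map (algebraMap (MvPolynomial (Fin n') k)
        (Localization.AtPrime ((primeOver e q).comap
          (Ideal.Quotient.mk (Ideal.span (Set.range r))))))))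
  have hπ₂ : Function.Surjective π₂ :=
    ι.surjective.comp (Ideal.Quotient.mkₐ_surjective k _)
  have hker : RingHom.ker (π₂ : _ →+* Rq ⧸ Jq) =
      (Ideal.span (Set.range r)).map (algebraMap (MvPolynomial (Fin n') k)
        (Localization.AtPrime ((primeOver e q).comap
          (Ideal.Quotient.mk (Ideal.span (Set.range r)))))) := by
    ext x
    rw [RingHom.mem_ker]
    change ι (Ideal.Quotient.mk _ x) = 0 ↔ _
    rw [EmbeddingLike.map_eq_zero_iff, Ideal.Quotient.eq_zero_iff_mem]
  have h1 := isCIIdeal_ker_of_isCIIdeal_ker k Rq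
    (Localization.AtPrime ((primeOver e q).comap (Ideal.Quotient.mk (Ideal.span (Set.range r)))))
    (Rq ⧸ Jq) (Ideal.Quotient.mkₐ k Jq) π₂
    (Ideal.Quotient.mkₐ_surjective k _) hπ₂ (by rw [hker]; exact h2)
  have hker1 : RingHom.ker ((Ideal.Quotient.mkₐ k Jq : Rq →ₐ[k] Rq ⧸ Jq) : Rq →+* Rq ⧸ Jq) =
      Jq := Ideal.mk_ker
  rw [hker1] at h1
  exact h1

end Poly

end Groth.Agent.Helper2.Synt
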