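import Mathlib
import Groth.Agent.Lib.Helper2.Synt.CIPoint
import Groth.Agent.Lib.Helper2.Synt.AwayCI
import Groth.Agent.Lib.Helper2.CM.OpenLocus
import Groth.Agent.Lib.Helper4.DimFT2
import Groth.Agent.Lib.Helper8.Depth32

/-!
# Spreading out a complete intersection point to a global complete intersection neighbourhood
-/

set_option autoImplicit false
universe u v

namespace Groth.Agent.Helper2.Synt

open RingTheory.Sequence LocCoh IsLocalRing Groth.Agent.Helper8.Depth

/-- minimal primes of a complete intersection ideal of a regular local ring have height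
`dim R - dim R/J` -/
theorem height_of_mem_minimalPrimes_of_isCIIdeal {R : Type u} [CommRing R] [IsRegularLocalRing R]
    {J : Ideal R} (hJ : J ≤ maximalIdeal R) (h : IsCIIdeal R J) (𝔭 : Ideal R)
    (h𝔭 : 𝔭 ∈ J.minimalPrimes) :
    (𝔭.height : WithBot ℕ∞) + ringKrullDim (R ⧸ J) = ringKrullDim R := by
  haveI : IsCohenMacaulayLocalRing R :=
    Groth.Agent.Helper8.FlatReg.isCohenMacaulayLocalRing_of_isRegularLocalRing R
  have hM : IsCohenMacaulayModule R R := IsCohenMacaulayLocalRing.supportDim_eq_depth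
  obtain ⟨rs, hreg, hof⟩ := (isCIIdeal_iff_exists_isRegular hJ).mp h
  have hmem : ∀ x ∈ rs, x ∈ maximalIdeal R := fun x hx => hJ (hof ▸ Ideal.subset_span hx)
  obtain ⟨-, hcm⟩ := cm_list rs hmem R hM
  have h1 : IsCohenMacaulayModule R (R ⧸ Ideal.ofList rs) :=
    (isCohenMacaulayModule_congr (quotSMulTopRingEquiv (Ideal.ofList rs))).mp
      (hcm hreg.toIsWeaklyRegular)
  rw [hof] at h1
  haveI := h𝔭.1.1
  have hass : 𝔭 ∈ associatedPrimes R (R ⧸ J) := by
    apply Module.associatedPrimes.minimalPrimes_annihilator_subset_associatedPrimes R (R ⧸ J)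
    rw [Ideal.annihilator_quotient]
    exact h𝔭
  have h2 := cm_dim_quotient_eq h1 𝔭 hass
  rw [Module.supportDim_quotient_eq_ringKrullDim] at h2
  have hsupp : Module.support R R = Set.univ := by
    rw [Module.support_eq_zeroLocus, Module.annihilator_eq_bot.mpr inferInstance]
    simp
  have h3 := cm_height_add_dim_quotient hM hsupp ⟨𝔭, inferInstance⟩
  rw [← h2]
  exact h3

section Poly

variable (k : Type u) [Field k] (n : ℕ) (I : Ideal (MvPolynomial (Fin n) k))
  (q : Ideal (MvPolynomial (Fin n) k ⧸ I)) [q.IsPrime]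

/-- The local ring of the polynomial ring at the preimage of `q`. -/
local notation "Rq" => Localization.AtPrime (q.comap (Ideal.Quotient.mk I))

/-- the extension of `I` to it -/
local notation "Jq" => I.map (algebraMap (MvPolynomial (Fin n) k) Rq)

/-- Step 1–2: generators of `I R` coming from `I`, and an element `G₁` moving `I` into the
ideal they generate -/
theorem exists_generators_from_ideal (c₀ : ℕ) (hc₀ : (Jq).spanFinrank = c₀) :
    ∃ (F : Fin c₀ → MvPolynomial (Fin n) k) (G₁ : MvPolynomial (Fin n) k),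
      (∀ i, F i ∈ I) ∧ G₁ ∉ q.comap (Ideal.Quotient.mk I) ∧
      ∀ x ∈ I, G₁ * x ∈ Ideal.span (Set.range F) := by
  classical
  have hfg : (Jq).FG := (isNoetherianRing_iff_ideal_fg _).mp inferInstance _
  obtain ⟨s, hscard, hs⟩ := Submodule.FG.exists_span_finset_card_eq_spanFinrank hfg
  rw [hc₀] at hscard
  let eqv := (Finset.equivFinOfCardEq hscard).symm
  have hmemJ : ∀ i, ((eqv i : Rq)) ∈ Jq := fun i => hs.le (Ideal.subset_span (eqv i).2)
  have hex : ∀ i, ∃ (F u : MvPolynomial (Fin n) k), F ∈ I ∧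
      u ∉ q.comap (Ideal.Quotient.mk I) ∧
      (eqv i : Rq) * algebraMap _ Rq u = algebraMap _ Rq F := by
    intro i
    obtain ⟨⟨x, m⟩, hx⟩ := (IsLocalization.mem_map_algebraMap_iff
      (q.comap (Ideal.Quotient.mk I)).primeCompl Rq).mp (hmemJ i)
    exact ⟨x.1, m.1, x.2, m.2, hx⟩
  choose F u hFI hu hFu using hex
  have hunit : ∀ i, IsUnit (algebraMap (MvPolynomial (Fin n) k) Rq (u i)) := fun i =>
    IsLocalization.map_units Rq (⟨u i, hu i⟩ : (q.comap (Ideal.Quotient.mk I)).primeCompl)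
  -- the images of the `F i` generate
  have hspan : (Ideal.span (Set.range F)).map (algebraMap (MvPolynomial (Fin n) k) Rq) = Jq := by
    apply le_antisymm
    · apply Ideal.map_mono
      rw [Ideal.span_le]
      rintro _ ⟨i, rfl⟩
      exact hFI i
    · refine le_trans hs.ge ?_
      change Ideal.span (s : Set Rq) ≤ _
      rw [Ideal.span_le]
      intro y hy
      have hy' : y = (eqv (eqv.symm ⟨y, hy⟩) : Rq) := by simp
      obtain ⟨v, hv⟩ := hunit (eqv.symm ⟨y, hy⟩)
      have h1 : y = algebraMap _ Rq (F (eqv.symm ⟨y, hy⟩)) * (↑v⁻¹ : Rq) := by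
        rw [← hFu, ← hy', ← hv, mul_assoc, Units.mul_inv, mul_one]
      rw [SetLike.mem_coe, h1]
      apply Ideal.mul_mem_right
      apply Ideal.mem_map_of_mem
      exact Ideal.subset_span ⟨_, rfl⟩
  -- each element of `I` is moved into `span F` by something outside `q'`
  have hmove : ∀ x ∈ I, ∃ v : MvPolynomial (Fin n) k, v ∉ q.comap (Ideal.Quotient.mk I) ∧
      v * x ∈ Ideal.span (Set.range F) := by
    intro x hx
    have h1 : algebraMap _ Rq x ∈
        (Ideal.span (Set.range F)).map (algebraMap (MvPolynomial (Fin n) k) Rq) := by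
      rw [hspan]; exact Ideal.mem_map_of_mem _ hx
    obtain ⟨⟨y, m⟩, hy⟩ := (IsLocalization.mem_map_algebraMap_iff
      (q.comap (Ideal.Quotient.mk I)).primeCompl Rq).mp h1
    rw [← map_mul] at hy
    obtain ⟨m', hm'⟩ := (IsLocalization.eq_iff_exists
      (q.comap (Ideal.Quotient.mk I)).primeCompl Rq).mp hy
    refine ⟨m' * m, ?_, ?_⟩
    · exact ((q.comap (Ideal.Quotient.mk I)).primeCompl.mul_mem m'.2 m.2)
    · have : (m' : MvPolynomial (Fin n) k) * m * x = m' * (x * m) := by ring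
      rw [this, hm']
      exact Ideal.mul_mem_left _ _ y.2
  have hIfg : I.FG := (isNoetherianRing_iff_ideal_fg _).mp inferInstance _
  obtain ⟨gens, hgens⟩ := hIfg
  have hgensI : ∀ a ∈ gens, a ∈ I := fun a ha => hgens ▸ Ideal.subset_span ha
  have hv : ∀ a : gens, ∃ v : MvPolynomial (Fin n) k, v ∉ q.comap (Ideal.Quotient.mk I) ∧
      v * a ∈ Ideal.span (Set.range F) := fun a => hmove a (hgensI a a.2)
  choose v hvq hva using hv
  refine ⟨F, ∏ a : gens, v a, hFI, ?_, ?_⟩
  · intro hmem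
    obtain ⟨a, -, ha⟩ := (Ideal.IsPrime.prod_mem_iff).mp hmem
    exact hvq a ha
  · intro x hx
    rw [← hgens] at hx
    induction hx using Submodule.span_induction with
    | mem y hy =>
      have hdvd : v ⟨y, hy⟩ ∣ ∏ a : gens, v a := Finset.dvd_prod_of_mem _ (Finset.mem_univ _)
      obtain ⟨w, hw⟩ := hdvd
      rw [hw]
      have : v ⟨y, hy⟩ * w * y = w * (v ⟨y, hy⟩ * y) := by ring
      rw [this]
      exact Ideal.mul_mem_left _ _ (hva ⟨y, hy⟩)
    | zero => simp
    | add y z _ _ hy hz => rw [mul_add]; exact Ideal.add_mem _ hy hz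
    | smul b y _ hy =>
      rw [smul_eq_mul, mul_left_comm]
      exact Ideal.mul_mem_left _ _ hy

/-- minimal primes of `I` inside `q'` have height `μ(I R)` when `q` is a complete intersection
point -/
theorem height_minimalPrime_eq (h : IsCIIdeal Rq Jq) (p' : Ideal (MvPolynomial (Fin n) k))
    (hp' : p' ∈ I.minimalPrimes) (hle : p' ≤ q.comap (Ideal.Quotient.mk I)) :
    p'.height = (Jq).spanFinrank := by
  haveI := hp'.1.1
  have hJm := map_le_maximalIdeal k n I q
  obtain ⟨d, a, hd, ha, -⟩ := exists_nat_dims hJm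
  have hnat := (isCIIdeal_iff_nat hd ha).mp h
  have hdisj : Disjoint ((q.comap (Ideal.Quotient.mk I)).primeCompl : Set (MvPolynomial (Fin n) k))
      (p' : Set (MvPolynomial (Fin n) k)) := by
    rw [Set.disjoint_left]
    intro x hx hx'
    exact hx (hle hx')
  have hmin : p'.map (algebraMap (MvPolynomial (Fin n) k) Rq) ∈ (Jq).minimalPrimes := by
    rw [IsLocalization.minimalPrimes_map (q.comap (Ideal.Quotient.mk I)).primeCompl Rq I,
      Set.mem_preimage,
      IsLocalization.under_map_of_isPrime_disjoint (q.comap (Ideal.Quotient.mk I)).primeCompl Rq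
        inferInstance hdisj]
    exact hp'
  have h1 := height_of_mem_minimalPrimes_of_isCIIdeal hJm h _ hmin
  rw [IsLocalization.height_map_of_disjoint (q.comap (Ideal.Quotient.mk I)).primeCompl p' hdisj,
    ha, hd] at h1
  obtain ⟨b, hb⟩ := ENat.ne_top_iff_exists.mp (Ideal.height_ne_top (Ideal.IsPrime.ne_top ‹_›) :
      p'.height ≠ ⊤)
  rw [← hb] at h1 ⊢
  have : b + a = d := by exact_mod_cast h1
  have : b = (Jq).spanFinrank := by omega
  rw [this]

/-- upper bound for heights of primes near a complete intersection point -/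
theorem height_add_le_of_isCIIdeal (h : IsCIIdeal Rq Jq) (G₂ : MvPolynomial (Fin n) k)
    (hG₂ : ∀ 𝔭 ∈ I.minimalPrimes, ¬ 𝔭 ≤ q.comap (Ideal.Quotient.mk I) → G₂ ∈ 𝔭)
    (𝔫 : Ideal (MvPolynomial (Fin n) k ⧸ I)) [𝔫.IsPrime] (h𝔫 : Ideal.Quotient.mk I G₂ ∉ 𝔫) :
    𝔫.height + ((Jq).spanFinrank : ℕ∞) ≤ n := by
  obtain ⟨p, hpmin, hp𝔫, hht⟩ :=
    Groth.Agent.Lib.Helper4.DimFT2.exists_minimalPrimes_height_eq 𝔫
  haveI hpprime : p.IsPrime := hpmin.1.1
  have hp'min : p.comap (Ideal.Quotient.mk I) ∈ I.minimalPrimes := by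
    have h1 := Ideal.minimalPrimes_comap_of_surjective
      (f := Ideal.Quotient.mk I) Ideal.Quotient.mk_surjective hpmin
    rwa [← RingHom.ker_eq_comap_bot, Ideal.mk_ker] at h1
  have hp'le : p.comap (Ideal.Quotient.mk I) ≤ q.comap (Ideal.Quotient.mk I) := by
    by_contra hcon
    exact h𝔫 (hp𝔫 (hG₂ _ hp'min hcon))
  have h1 := height_minimalPrime_eq k n I q h _ hp'min hp'le
  -- dimension of `S/p`
  have h2 := Groth.Agent.Lib.Helper4.DimFT1.height_add_dim_quotient k (MvPolynomial (Fin n) k)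
    (p.comap (Ideal.Quotient.mk I))
  have h3 : ringKrullDim (MvPolynomial (Fin n) k ⧸ p.comap (Ideal.Quotient.mk I)) =
      ringKrullDim ((MvPolynomial (Fin n) k ⧸ I) ⧸ p) :=
    ringKrullDim_eq_of_ringEquiv (quotQuotEquiv k n I p)
  rw [ringKrullDim_mvPolynomial, h3, h1] at h2
  have h4 := Groth.Agent.Lib.Helper4.DimFT2.height_map_add_dim k (MvPolynomial (Fin n) k ⧸ I)
    p 𝔫 hp𝔫
  rw [hht] at h4
  -- numerics
  haveI : IsDomain ((MvPolynomial (Fin n) k ⧸ I) ⧸ p) := Ideal.Quotient.isDomain p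
  obtain ⟨δ, -, hδ⟩ := Groth.Agent.Lib.Helper4.DimFT1.exists_dim_eq_trdeg k
    ((MvPolynomial (Fin n) k ⧸ I) ⧸ p)
  haveI : IsDomain ((MvPolynomial (Fin n) k ⧸ I) ⧸ 𝔫) := Ideal.Quotient.isDomain 𝔫
  obtain ⟨ε, -, hε⟩ := Groth.Agent.Lib.Helper4.DimFT1.exists_dim_eq_trdeg k
    ((MvPolynomial (Fin n) k ⧸ I) ⧸ 𝔫)
  obtain ⟨b, hb⟩ := ENat.ne_top_iff_exists.mp (Ideal.height_ne_top (Ideal.IsPrime.ne_top ‹_›) :
      𝔫.height ≠ ⊤)
  rw [hδ] at h2 h4
  rw [hε, ← hb] at h4
  rw [← hb]
  have h2' : (Jq).spanFinrank + δ = n := by exact_mod_cast h2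
  have h4' : b + ε = δ := by exact_mod_cast h4
  have : b + (Jq).spanFinrank ≤ n := by omega
  exact_mod_cast this

/-- **Spreading out**: a complete intersection point has a basic open neighbourhood which is a
global complete intersection. -/
theorem exists_away_globalCI_of_isCIIdeal (h : IsCIIdeal Rq Jq) :
    ∃ g : MvPolynomial (Fin n) k ⧸ I, g ∉ q ∧
      _root_.Synt.IsGlobalCI k (Localization.Away g) := by
  classical
  have hJm := map_le_maximalIdeal k n I q
  obtain ⟨d, a, hd, ha, -⟩ := exists_nat_dims hJm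
  have hnat := (isCIIdeal_iff_nat hd ha).mp h
  obtain ⟨c₀, hc₀⟩ : ∃ c₀, (Jq).spanFinrank = c₀ := ⟨_, rfl⟩
  -- `c₀ ≤ n`
  have hc₀n : c₀ ≤ n := by
    have h1 : ringKrullDim Rq ≤ ringKrullDim (MvPolynomial (Fin n) k) := by
      rw [IsLocalization.AtPrime.ringKrullDim_eq_height (q.comap (Ideal.Quotient.mk I)) Rq]
      exact Ideal.height_le_ringKrullDim_of_ne_top (Ideal.IsPrime.ne_top')
    rw [hd, ringKrullDim_mvPolynomial] at h1
    have : d ≤ n := by exact_mod_cast h1
    omega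
  obtain ⟨F, G₁, hFI, hG₁, hG₁I⟩ := exists_generators_from_ideal k n I q c₀ hc₀
  obtain ⟨G₂, hG₂q, hG₂⟩ :=
    Groth.Agent.Helper2.CM.exists_notMem_forall_minimalPrimes I (q.comap (Ideal.Quotient.mk I))
  have hGq : G₂ * G₁ ∉ q.comap (Ideal.Quotient.mk I) := fun hmem =>
    (Ideal.IsPrime.mem_or_mem inferInstance hmem).elim hG₂q hG₁
  refine ⟨Ideal.Quotient.mkₐ k I (G₂ * G₁), hGq, ?_⟩
  have hdisj : Disjoint (Submonoid.powers (Ideal.Quotient.mkₐ k I (G₂ * G₁)) :
      Set (MvPolynomial (Fin n) k ⧸ I)) (q : Set (MvPolynomial (Fin n) k ⧸ I)) := by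
    rw [Set.disjoint_left]
    rintro _ ⟨m, rfl⟩ hm
    exact hGq (Ideal.IsPrime.mem_of_pow_mem inferInstance m hm)
  haveI hnt : Nontrivial (Localization.Away (Ideal.Quotient.mkₐ k I (G₂ * G₁))) := by
    have := IsLocalization.isPrime_of_isPrime_disjoint
      (Submonoid.powers (Ideal.Quotient.mkₐ k I (G₂ * G₁)))
      (Localization.Away (Ideal.Quotient.mkₐ k I (G₂ * G₁))) q inferInstance hdisj
    exact ⟨⟨0, 1, fun h01 => this.ne_top ((Ideal.eq_top_iff_one _).mpr (h01 ▸ zero_mem _))⟩⟩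
  have hsurj := awayHom_surjective (Ideal.Quotient.mkₐ k I) (G₂ * G₁)
    (Localization.Away (Ideal.Quotient.mkₐ k I (G₂ * G₁))) (Ideal.Quotient.mkₐ_surjective k I)
  have hker := ker_awayHom' (Ideal.Quotient.mkₐ k I) F (G₂ * G₁)
    (Localization.Away (Ideal.Quotient.mkₐ k I (G₂ * G₁))) (Ideal.Quotient.mkₐ_surjective k I)
    (fun i => Ideal.Quotient.eq_zero_iff_mem.mpr (hFI i))
    (fun x hx => by
      have hxI : x ∈ I := by
        rw [← Ideal.Quotient.mkₐ_ker k I]; exact hx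
      rw [mul_assoc]
      exact Ideal.mul_mem_left _ _ (hG₁I x hxI))
  right
  refine ⟨n + 1, c₀ + 1, by omega, _, _, hsurj, hker, ?_⟩
  -- the dimension
  generalize hm : n + 1 - (c₀ + 1) = m
  have hm' : m + c₀ = n := by omega
  have hdimeq : ringKrullDim (MvPolynomial (Fin (n + 1)) k ⧸
      Ideal.span (Set.range (awayRel F (G₂ * G₁)))) =
      ringKrullDim (Localization.Away (Ideal.Quotient.mkₐ k I (G₂ * G₁))) := by
    have hker' : RingHom.ker (awayHom (Ideal.Quotient.mkₐ k I) (G₂ * G₁)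
        (Localization.Away (Ideal.Quotient.mkₐ k I (G₂ * G₁)))) =
        Ideal.span (Set.range (awayRel F (G₂ * G₁))) := hker
    rw [← hker']
    exact ringKrullDim_eq_of_ringEquiv (Ideal.quotientKerAlgEquivOfSurjective hsurj).toRingEquiv
  apply le_antisymm
  · -- upper bound
    rw [ringKrullDim_le_iff_height_le]
    intro 𝔓 h𝔓
    haveI : (𝔓.under (MvPolynomial (Fin n) k ⧸ I)).IsPrime := Ideal.comap_isPrime _ _
    rw [← IsLocalization.height_under (Submonoid.powers (Ideal.Quotient.mkₐ k I (G₂ * G₁))) 𝔓]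
    have hg𝔫 : Ideal.Quotient.mk I G₂ ∉ 𝔓.under (MvPolynomial (Fin n) k ⧸ I) := by
      intro hmem
      have h1 : Ideal.Quotient.mkₐ k I (G₂ * G₁) ∈ 𝔓.under (MvPolynomial (Fin n) k ⧸ I) := by
        have h0 : Ideal.Quotient.mk I G₂ * Ideal.Quotient.mk I G₁ ∈
            𝔓.under (MvPolynomial (Fin n) k ⧸ I) := Ideal.mul_mem_right _ _ hmem
        convert h0 using 1
        exact map_mul (Ideal.Quotient.mk I) G₂ G₁
      have h2 : IsUnit (algebraMap (MvPolynomial (Fin n) k ⧸ I)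
          (Localization.Away (Ideal.Quotient.mkₐ k I (G₂ * G₁)))
          (Ideal.Quotient.mkₐ k I (G₂ * G₁))) :=
        IsLocalization.Away.algebraMap_isUnit _
      exact h𝔓.ne_top (Ideal.eq_top_of_isUnit_mem _ h1 h2)
    have h3 := height_add_le_of_isCIIdeal k n I q h G₂ hG₂ _ hg𝔫
    rw [hc₀] at h3
    obtain ⟨b, hb⟩ := ENat.ne_top_iff_exists.mp (Ideal.height_ne_top (Ideal.IsPrime.ne_top ‹_›) :
      (𝔓.under (MvPolynomial (Fin n) k ⧸ I)).height ≠ ⊤)
    rw [← hb] at h3 ⊢
    have h3' : b + c₀ ≤ n := by exact_mod_cast h3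
    have : b ≤ m := by omega
    exact_mod_cast this
  · -- lower bound
    rw [← hdimeq]
    haveI : Nontrivial (MvPolynomial (Fin (n + 1)) k ⧸
        Ideal.span (Set.range (awayRel F (G₂ * G₁)))) := by
      have hker' : RingHom.ker (awayHom (Ideal.Quotient.mkₐ k I) (G₂ * G₁)
          (Localization.Away (Ideal.Quotient.mkₐ k I (G₂ * G₁)))) =
          Ideal.span (Set.range (awayRel F (G₂ * G₁))) := hker
      rw [← hker']
      exact (Ideal.quotientKerAlgEquivOfSurjective hsurj).toEquiv.nontrivial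
    obtain ⟨𝔪, h𝔪⟩ := Ideal.exists_maximal (MvPolynomial (Fin (n + 1)) k ⧸
        Ideal.span (Set.range (awayRel F (G₂ * G₁))))
    haveI := h𝔪
    have h1 := height_comap_le_add k (n + 1) _ 𝔪 (awayRel F (G₂ * G₁)) rfl
    haveI : (𝔪.comap (Ideal.Quotient.mk (Ideal.span (Set.range
        (awayRel F (G₂ * G₁)))))).IsMaximal :=
      Ideal.comap_isMaximal_of_surjective _ Ideal.Quotient.mk_surjective
    rw [Groth.Agent.Lib.Helper4.DimFT1.mvPolynomial_height_of_isMaximal k (n + 1)] at h1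
    have h2 := Ideal.height_le_ringKrullDim_of_ne_top h𝔪.ne_top
    refine le_trans ?_ h2
    obtain ⟨b, hb⟩ := ENat.ne_top_iff_exists.mp (Ideal.height_ne_top h𝔪.ne_top :
      𝔪.height ≠ ⊤)
    rw [← hb] at h1 ⊢
    have h1' : n + 1 ≤ c₀ + 1 + b := by exact_mod_cast h1
    have : m ≤ b := by omega
    exact_mod_cast this

end Poly

end Groth.Agent.Helper2.Synt
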