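import Mathlib
import Groth.Agent.Lib.Helper2.Synt.Spread

/-!
# `Synt.IsCIOver` for local rings of affine algebras over a field
-/

set_option autoImplicit false
universe u v

namespace Groth.Agent.Helper2.Synt

open RingTheory.Sequence LocCoh IsLocalRing Groth.Agent.Helper8.Depth

/-- `IsCIOver` is invariant under isomorphisms of local `k`-algebras -/
theorem isCIOver_of_algEquiv {k S S' : Type u} [Field k] [CommRing S] [CommRing S']
    [IsLocalRing S] [IsLocalRing S'] [Algebra k S] [Algebra k S'] (e : S ≃ₐ[k] S')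
    (h : _root_.Synt.IsCIOver k S) : _root_.Synt.IsCIOver k S' := by
  obtain ⟨R, hR1, hR2, hR3, hess, rs, hmem, hreg, ⟨ι⟩⟩ := h
  unfold _root_.Synt.IsCIOver
  refine ⟨R, hR1, hR2, hR3, hess, rs, hmem, hreg, ⟨?_⟩⟩
  exact e.symm.trans ι

/-- a presentation `π : R → S` of a local `k`-algebra by a regular local ring with complete
intersection kernel exhibits `S` as a complete intersection over `k` -/
theorem isCIOver_of_isCIIdeal_ker {k S R : Type u} [Field k] [CommRing S] [IsLocalRing S]
    [Algebra k S] [CommRing R] [IsRegularLocalRing R] [Algebra k R] [Algebra.EssFiniteType k R]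
    (π : R →ₐ[k] S) (hπ : Function.Surjective π) (h : IsCIIdeal R (RingHom.ker (π : R →+* S))) :
    _root_.Synt.IsCIOver k S := by
  have hm : RingHom.ker (π : R →+* S) ≤ maximalIdeal R := le_maximalIdeal (RingHom.ker_ne_top _)
  obtain ⟨rs, hreg, hof⟩ := (isCIIdeal_iff_exists_isRegular hm).mp h
  unfold _root_.Synt.IsCIOver
  refine ⟨R, inferInstance, inferInstance, inferInstance, inferInstance, rs,
    fun r hr => hm (hof ▸ Ideal.subset_span hr), hreg, ⟨?_⟩⟩
  exact ((Ideal.quotientKerAlgEquivOfSurjective hπ).symm).trans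
    (Ideal.quotientEquivAlgOfEq k hof.symm)

/-- conversely, a complete intersection over `k` has a presentation with complete intersection
kernel -/
theorem exists_presentation_of_isCIOver {k S : Type u} [Field k] [CommRing S] [IsLocalRing S]
    [Algebra k S] (h : _root_.Synt.IsCIOver k S) :
    ∃ (R : Type u) (_ : CommRing R) (_ : IsRegularLocalRing R) (_ : Algebra k R)
      (_ : Algebra.EssFiniteType k R) (π : R →ₐ[k] S), Function.Surjective π ∧
      IsCIIdeal R (RingHom.ker (π : R →+* S)) ∧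
      ∃ rs : List R, IsRegular R rs ∧ RingHom.ker (π : R →+* S) = Ideal.ofList rs := by
  obtain ⟨R, hR1, hR2, hR3, hess, rs, hmem, hreg, ⟨ι⟩⟩ := h
  let π : R →ₐ[k] S := ι.symm.toAlgHom.comp (Ideal.Quotient.mkₐ k (Ideal.ofList rs))
  have hπ : Function.Surjective π :=
    ι.symm.surjective.comp (Ideal.Quotient.mkₐ_surjective k _)
  have hker : RingHom.ker (π : R →+* S) = Ideal.ofList rs := by
    ext x
    rw [RingHom.mem_ker]
    change ι.symm (Ideal.Quotient.mk _ x) = 0 ↔ _
    rw [EmbeddingLike.map_eq_zero_iff, Ideal.Quotient.eq_zero_iff_mem]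
  refine ⟨R, hR1, hR2, hR3, hess, π, hπ, ?_, rs, hreg, hker⟩
  rw [hker]
  exact (isCIIdeal_iff_exists_isRegular (J := Ideal.ofList rs) (Ideal.span_le.mpr hmem)).mpr
    ⟨rs, hreg, rfl⟩

section Poly

variable (k : Type u) [Field k] (n : ℕ) (I : Ideal (MvPolynomial (Fin n) k))
  (q : Ideal (MvPolynomial (Fin n) k ⧸ I)) [q.IsPrime]

/-- The local ring of the polynomial ring at the preimage of `q`. -/
local notation "Rq" => Localization.AtPrime (q.comap (Ideal.Quotient.mk I))

/-- the extension of `I` to it -/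
local notation "Jq" => I.map (algebraMap (MvPolynomial (Fin n) k) Rq)

theorem nontrivial_quotient : Nontrivial (Rq ⧸ Jq) := by
  apply Ideal.Quotient.nontrivial_iff.mpr
  intro htop
  have := map_le_maximalIdeal k n I q
  rw [htop] at this
  exact (maximalIdeal.isMaximal _).ne_top (top_le_iff.mp this)

/-- the local ring at `q` is `R/J` -/
noncomputable def atPrimeEquivQuotient : Localization.AtPrime q ≃ₐ[k] Rq ⧸ Jq :=
  (IsLocalization.algEquiv q.primeCompl (Localization.AtPrime q) (Rq ⧸ Jq)).restrictScalars k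

theorem isCIOver_atPrime_iff_isCIIdeal :
    _root_.Synt.IsCIOver k (Localization.AtPrime q) ↔ IsCIIdeal Rq Jq := by
  haveI := nontrivial_quotient k n I q
  constructor
  · intro h
    obtain ⟨R, _, _, _, hess, π, hπ, hci, -⟩ := exists_presentation_of_isCIOver h
    let π₂ : R →ₐ[k] Rq ⧸ Jq := (atPrimeEquivQuotient k n I q).toAlgHom.comp π
    have hπ₂ : Function.Surjective π₂ := (atPrimeEquivQuotient k n I q).surjective.comp hπ
    have hker : RingHom.ker (π₂ : R →+* Rq ⧸ Jq) =
        RingHom.ker (π : R →+* Localization.AtPrime q) := by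
      ext x
      rw [RingHom.mem_ker, RingHom.mem_ker]
      change atPrimeEquivQuotient k n I q (π x) = 0 ↔ _
      rw [EmbeddingLike.map_eq_zero_iff]
      rfl
    have h1 := isCIIdeal_ker_of_isCIIdeal_ker k Rq R (Rq ⧸ Jq) (Ideal.Quotient.mkₐ k Jq) π₂
      (Ideal.Quotient.mkₐ_surjective k _) hπ₂ (by rw [hker]; exact hci)
    have hker1 : RingHom.ker ((Ideal.Quotient.mkₐ k Jq : Rq →ₐ[k] Rq ⧸ Jq) : Rq →+* Rq ⧸ Jq) =
        Jq := Ideal.mk_ker
    rw [hker1] at h1
    exact h1
  · intro h
    haveI : IsLocalRing (Rq ⧸ Jq) :=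
      IsLocalRing.of_surjective' (Ideal.Quotient.mk Jq) Ideal.Quotient.mk_surjective
    have e2 : (Rq ⧸ Jq) ≃ₐ[k] Localization.AtPrime q := (atPrimeEquivQuotient k n I q).symm
    have hker1 : RingHom.ker ((Ideal.Quotient.mkₐ k Jq : Rq →ₐ[k] Rq ⧸ Jq) : Rq →+* Rq ⧸ Jq) =
        Jq := Ideal.mk_ker
    have h3 : _root_.Synt.IsCIOver k (Rq ⧸ Jq) :=
      isCIOver_of_isCIIdeal_ker (Ideal.Quotient.mkₐ k Jq) (Ideal.Quotient.mkₐ_surjective k _)
        (by rw [hker1]; exact h)
    exact isCIOver_of_algEquiv e2 h3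

theorem isCIOver_atPrime_iff_exists_away :
    _root_.Synt.IsCIOver k (Localization.AtPrime q) ↔
      ∃ g : MvPolynomial (Fin n) k ⧸ I, g ∉ q ∧
        _root_.Synt.IsGlobalCI k (Localization.Away g) :=
  (isCIOver_atPrime_iff_isCIIdeal k n I q).trans
    ⟨exists_away_globalCI_of_isCIIdeal k n I q, isCIIdeal_of_exists_away k n I q⟩

end Poly

end Groth.Agent.Helper2.Synt
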