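import Mathlib
import Groth.Agent.Lib.Helper2.Synt.CIOver

/-!
# Complete intersection points of a finite type algebra over a field
-/

set_option autoImplicit false
universe u v

namespace Groth.Agent.Helper2.Synt

open RingTheory.Sequence LocCoh IsLocalRing

section Transport

variable {k S S' : Type u} [Field k] [CommRing S] [CommRing S'] [Algebra k S] [Algebra k S']
  (e : S' ≃ₐ[k] S)

/-- transport of localizations at primes along an algebra isomorphism -/
noncomputable def atPrimeAlgEquiv (q : Ideal S) [q.IsPrime]
    [hq' : (q.comap (e : S' →+* S)).IsPrime] :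
    Localization.AtPrime (q.comap (e : S' →+* S)) ≃ₐ[k] Localization.AtPrime q :=
  IsLocalization.algEquivOfAlgEquiv (M := (q.comap (e : S' →+* S)).primeCompl)
      (T := q.primeCompl) (Localization.AtPrime (q.comap (e : S' →+* S)))
      (Localization.AtPrime q) e (by
    ext x
    constructor
    · rintro ⟨y, hy, rfl⟩
      exact hy
    · intro hx
      refine ⟨e.symm x, ?_, by simp⟩
      change e.symm x ∉ q.comap (e : S' →+* S)
      rw [Ideal.mem_comap]
      simpa using hx)

/-- transport of principal localizations along an algebra isomorphism -/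
noncomputable def awayAlgEquiv (g : S') :
    Localization.Away g ≃ₐ[k] Localization.Away (e g) :=
  IsLocalization.algEquivOfAlgEquiv (M := Submonoid.powers g) (T := Submonoid.powers (e g))
      (Localization.Away g) (Localization.Away (e g)) e (by
    rw [Submonoid.map_powers])

end Transport

/-- **Complete intersection points of a finite type algebra.** -/
theorem isCIOver_atPrime_iff_exists_away_of_finiteType (k S : Type u) [Field k] [CommRing S]
    [Algebra k S] [Algebra.FiniteType k S] (q : Ideal S) [q.IsPrime] :
    _root_.Synt.IsCIOver k (Localization.AtPrime q) ↔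
      ∃ g : S, g ∉ q ∧ _root_.Synt.IsGlobalCI k (Localization.Away g) := by
  obtain ⟨n, φ, hφ⟩ := (Algebra.FiniteType.iff_quotient_mvPolynomial'' (R := k) (S := S)).mp
    inferInstance
  let e : (MvPolynomial (Fin n) k ⧸ RingHom.ker φ) ≃ₐ[k] S :=
    Ideal.quotientKerAlgEquivOfSurjective hφ
  haveI hq₀ : (q.comap (e : (MvPolynomial (Fin n) k ⧸ RingHom.ker φ) →+* S)).IsPrime :=
    Ideal.comap_isPrime _ _
  have h1 := isCIOver_atPrime_iff_exists_away k n (RingHom.ker φ)
    (q.comap (e : (MvPolynomial (Fin n) k ⧸ RingHom.ker φ) →+* S))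
  constructor
  · intro h
    obtain ⟨g₀, hg₀, hci⟩ := h1.mp (isCIOver_of_algEquiv (atPrimeAlgEquiv e q).symm h)
    exact ⟨e g₀, hg₀, isGlobalCI_of_algEquiv (awayAlgEquiv e g₀) hci⟩
  · rintro ⟨g, hg, hci⟩
    apply isCIOver_of_algEquiv (atPrimeAlgEquiv e q)
    apply h1.mpr
    refine ⟨e.symm g, ?_, ?_⟩
    · rw [Ideal.mem_comap]
      simpa using hg
    · have hci' : _root_.Synt.IsGlobalCI k (Localization.Away (e (e.symm g))) := by
        rw [AlgEquiv.apply_symm_apply]
        exact hci
      exact isGlobalCI_of_algEquiv (awayAlgEquiv e (e.symm g)).symm hci'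

section LCI

variable (k S : Type u) [Field k] [CommRing S] [Algebra k S] [Algebra.FiniteType k S]

instance finiteType_away (g : S) : Algebra.FiniteType k (Localization.Away g) := by
  haveI : Algebra.FiniteType S (Localization.Away g) := IsLocalization.finiteType_of_monoid_fg
    (Submonoid.powers g) _
  exact Algebra.FiniteType.trans (R := k) (S := S) (A := Localization.Away g)
    inferInstance inferInstance

omit [Algebra.FiniteType k S] in
theorem isGlobalCI_away_congr {x y : S} (hxy : x = y)
    (h : _root_.Synt.IsGlobalCI k (Localization.Away x)) :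
    _root_.Synt.IsGlobalCI k (Localization.Away y) := by
  subst hxy
  exact h

theorem isLCIOver_of_isGlobalCI (h : _root_.Synt.IsGlobalCI k S) : _root_.Synt.IsLCIOver k S :=
  ⟨inferInstance, fun p => ⟨1, fun h1 => p.isPrime.ne_top ((Ideal.eq_top_iff_one _).mpr h1),
    isGlobalCI_away k S 1 h⟩⟩

theorem exists_away_globalCI_of_exists_away_lci (q : Ideal S) [q.IsPrime]
    (h : ∃ g : S, g ∉ q ∧ _root_.Synt.IsLCIOver k (Localization.Away g)) :
    ∃ g : S, g ∉ q ∧ _root_.Synt.IsGlobalCI k (Localization.Away g) := by
  obtain ⟨g, hg, -, hlci⟩ := h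
  have hdisj : Disjoint (Submonoid.powers g : Set S) (q : Set S) := by
    rw [Set.disjoint_left]
    rintro _ ⟨m, rfl⟩ hm
    exact hg (Ideal.IsPrime.mem_of_pow_mem inferInstance m hm)
  have hQ : (q.map (algebraMap S (Localization.Away g))).IsPrime :=
    IsLocalization.isPrime_of_isPrime_disjoint (Submonoid.powers g) _ q inferInstance hdisj
  have hQcomap : (q.map (algebraMap S (Localization.Away g))).comap
      (algebraMap S (Localization.Away g)) = q :=
    IsLocalization.under_map_of_isPrime_disjoint (Submonoid.powers g) _ inferInstance hdisj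
  obtain ⟨h, hh, hci⟩ := hlci ⟨_, hQ⟩
  obtain ⟨⟨h', ⟨_, m, rfl⟩⟩, hm⟩ := IsLocalization.surj (Submonoid.powers g) h
  simp only [map_pow] at hm
  -- localize further at the unit `u = g^m`
  set u := (algebraMap S (Localization.Away g) g) ^ m with hu
  have hci2 : _root_.Synt.IsGlobalCI k (Localization.Away
      (algebraMap (Localization.Away g) (Localization.Away h) u)) :=
    isGlobalCI_away k (Localization.Away h) _ hci
  haveI h1 : IsLocalization.Away (h * u)
      (Localization.Away (algebraMap (Localization.Away g) (Localization.Away h) u)) :=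
    IsLocalization.Away.mul' (Localization.Away h) _ h u
  have hci3 : _root_.Synt.IsGlobalCI k (Localization.Away (h * u)) :=
    isGlobalCI_of_algEquiv ((IsLocalization.algEquiv (Submonoid.powers (h * u))
      (Localization.Away (algebraMap (Localization.Away g) (Localization.Away h) u))
      (Localization.Away (h * u))).restrictScalars k) hci2
  have hci4 : _root_.Synt.IsGlobalCI k
      (Localization.Away (algebraMap S (Localization.Away g) h')) :=
    isGlobalCI_away_congr k (Localization.Away g) hm hci3
  haveI h2 : IsLocalization.Away (g * h')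
      (Localization.Away (algebraMap S (Localization.Away g) h')) :=
    IsLocalization.Away.mul' (Localization.Away g) _ g h'
  refine ⟨g * h', ?_, ?_⟩
  · intro hmem
    rcases Ideal.IsPrime.mem_or_mem inferInstance hmem with h3 | h3
    · exact hg h3
    · have h4 : algebraMap S (Localization.Away g) h' ∈
          q.map (algebraMap S (Localization.Away g)) := Ideal.mem_map_of_mem _ h3
      rw [← hm] at h4
      rcases hQ.mem_or_mem h4 with h5 | h5
      · exact hh h5
      · have hunit : IsUnit u :=
          (IsLocalization.Away.algebraMap_isUnit (S := Localization.Away g) g).pow m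
        exact hQ.ne_top (Ideal.eq_top_of_isUnit_mem _ h5 hunit)
  · exact isGlobalCI_of_algEquiv ((IsLocalization.algEquiv (Submonoid.powers (g * h'))
      (Localization.Away (algebraMap S (Localization.Away g) h'))
      (Localization.Away (g * h'))).restrictScalars k) hci4

theorem exists_away_lci_iff_exists_away_globalCI (q : Ideal S) [q.IsPrime] :
    (∃ g : S, g ∉ q ∧ _root_.Synt.IsLCIOver k (Localization.Away g)) ↔
      ∃ g : S, g ∉ q ∧ _root_.Synt.IsGlobalCI k (Localization.Away g) :=
  ⟨exists_away_globalCI_of_exists_away_lci k S q, fun ⟨g, hg, hci⟩ =>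
    ⟨g, hg, isLCIOver_of_isGlobalCI k _ hci⟩⟩

end LCI

end Groth.Agent.Helper2.Synt
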