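import Mathlib
import Groth.Agent.Lib.Helper2.Synt.CIOverFT

/-!
# Being syntomic is local on the target ring
-/

set_option autoImplicit false
universe u

namespace Groth.Agent.Helper2.Synt

open TensorProduct

/-- transport of local complete intersections along an algebra isomorphism -/
theorem isLCIOver_of_algEquiv {k S S' : Type u} [Field k] [CommRing S] [CommRing S']
    [Algebra k S] [Algebra k S'] (e : S' ≃ₐ[k] S) (h : _root_.Synt.IsLCIOver k S') :
    _root_.Synt.IsLCIOver k S := by
  obtain ⟨hft, hloc⟩ := h
  refine ⟨Algebra.FiniteType.equiv hft e, fun p => ?_⟩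
  have hp : (p.asIdeal.comap (e : S' →+* S)).IsPrime := Ideal.comap_isPrime _ _
  obtain ⟨g, hg, hci⟩ := hloc ⟨p.asIdeal.comap (e : S' →+* S), hp⟩
  refine ⟨e g, hg, isGlobalCI_of_algEquiv (awayAlgEquiv e g) hci⟩

/-- **Being syntomic is local on the target ring.** -/
theorem isSyntomic_of_span_eq_top (R S : Type u) [CommRing R] [CommRing S] [Algebra R S]
    (s : Finset S) (hs : Ideal.span (s : Set S) = ⊤)
    (h : ∀ g ∈ s, _root_.Synt.IsSyntomic R (Localization.Away g)) :
    _root_.Synt.IsSyntomic R S := by
  have hfp : Algebra.FinitePresentation R S :=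
    Algebra.FinitePresentation.of_span_eq_top_target (s : Set S) hs (fun g hg => (h g hg).2.1)
  refine ⟨?_, hfp, fun p => ?_⟩
  · exact Module.flat_of_isLocalized_span S S (s : Set S) hs (fun g => Localization.Away g.1)
      (fun g => Algebra.linearMap S (Localization.Away g.1)) (fun g => (h g.1 g.2).1)
  · have hft : Algebra.FiniteType p.asIdeal.ResidueField (p.asIdeal.Fiber S) := inferInstance
    refine ⟨hft, fun P => ?_⟩
    have := P.isPrime
    -- some `1 ⊗ g` lies outside `P`
    obtain ⟨g, hg, hgP⟩ : ∃ g ∈ s, ((1 : p.asIdeal.ResidueField) ⊗ₜ[R] g : p.asIdeal.Fiber S) ∉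
        P.asIdeal := by
      by_contra hcon
      push Not at hcon
      have hle : Ideal.span (s : Set S) ≤
          P.asIdeal.comap (Algebra.TensorProduct.includeRight :
            S →ₐ[R] p.asIdeal.Fiber S).toRingHom := by
        rw [Ideal.span_le]
        intro g hg
        exact hcon g hg
      rw [hs] at hle
      have h1 : (1 : S) ∈ P.asIdeal.comap (Algebra.TensorProduct.includeRight :
            S →ₐ[R] p.asIdeal.Fiber S).toRingHom := hle trivial
      rw [Ideal.mem_comap, map_one] at h1
      exact P.isPrime.ne_top ((Ideal.eq_top_iff_one _).mpr h1)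
    have hlci : _root_.Synt.IsLCIOver p.asIdeal.ResidueField
        (Localization.Away ((1 : p.asIdeal.ResidueField) ⊗ₜ[R] g : p.asIdeal.Fiber S)) :=
      isLCIOver_of_algEquiv
        (IsLocalization.Away.tensorProductEquivTMulRight R p.asIdeal.ResidueField g
          (Localization.Away g)) ((h g hg).2.2 p)
    exact exists_away_globalCI_of_exists_away_lci p.asIdeal.ResidueField (p.asIdeal.Fiber S)
      P.asIdeal ⟨_, hgP, hlci⟩

end Groth.Agent.Helper2.Synt
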