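import Mathlib
import Groth.Agent.Lib.Helper3.KosBC2
import Groth.Agent.Lib.Lead.LciDesc3
import Groth.Agent.Lib.Helper2.Synt.Spread
import Groth.Agent.Lib.Helper2.Synt.SyntLocal
import Groth.Agent.Lib.Helper2.Synt.CIOverFT

set_option autoImplicit false
set_option linter.style.haveILetI false
set_option linter.unusedSectionVars false
universe u

namespace Groth.Agent.Helper2.Synt

open RingTheory.Sequence IsLocalRing

section KRReg

variable {S : Type u} [CommRing S] [IsNoetherianRing S] [IsLocalRing S]

theorem ofList_reverse {A : Type*} [CommRing A] (l : List A) :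
    Ideal.ofList l.reverse = Ideal.ofList l := by
  unfold Ideal.ofList
  congr 1
  ext x
  simp

/-- In a Noetherian local ring, a Koszul-regular sequence in the maximal ideal is, in reverse
order, a regular sequence. -/
theorem isWeaklyRegular_reverse_of_koszulRegular (l : List S) (hl : ∀ x ∈ l, x ∈ maximalIdeal S)
    (h : LCI.IsKoszulRegularSeq S l) : IsWeaklyRegular S l.reverse := by
  rw [Groth.Agent.Helper3.KosBC.isKoszulRegularSeq_iff] at h
  induction l with
  | nil => exact IsWeaklyRegular.nil S S
  | cons x xs ih =>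
    obtain ⟨h1, h2⟩ := Groth.Agent.Helper3.KosBC.koszulRegular_cons x xs
      (hl x List.mem_cons_self) h
    have ih' := ih (fun y hy => hl y (List.mem_cons_of_mem x hy)) h1
    rw [List.reverse_cons, isWeaklyRegular_append_iff]
    refine ⟨ih', ?_⟩
    rw [isWeaklyRegular_cons_iff]
    refine ⟨?_, IsWeaklyRegular.nil S _⟩
    have hsm : (Ideal.ofList xs.reverse • ⊤ : Submodule S S) = Ideal.ofList xs := by
      rw [smul_eq_mul, Ideal.mul_top, ofList_reverse]
    exact (LinearEquiv.isSMulRegular_congr (Submodule.quotEquivOfEq _ _ hsm) x).mpr h2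

theorem isRegular_reverse_of_koszulRegular (l : List S) (hl : ∀ x ∈ l, x ∈ maximalIdeal S)
    (h : LCI.IsKoszulRegularSeq S l) : IsRegular S l.reverse := by
  refine ⟨isWeaklyRegular_reverse_of_koszulRegular l hl h, ?_⟩
  intro htop
  have h3 : Ideal.ofList l.reverse = ⊤ := by simpa using htop.symm
  rw [ofList_reverse] at h3
  have h4 : Ideal.ofList l ≤ maximalIdeal S := Ideal.span_le.mpr hl
  rw [h3] at h4
  exact (maximalIdeal.isMaximal _).ne_top (top_le_iff.mp h4)

end KRReg

section FieldCase

open Groth.Agent.Lib.Helper4.KosQuot2 in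
/-- over a field, a local complete intersection algebra in the Koszul sense is a local complete
intersection in the sense of global complete intersection neighbourhoods -/
theorem isLCIOver_of_isLCI (K T : Type u) [Field K] [CommRing T] [Algebra K T]
    (h : LCI.IsLCI K T) : _root_.Synt.IsLCIOver K T := by
  obtain ⟨hft, n, f, hf, hKR⟩ := h
  set I : Ideal (MvPolynomial (Fin n) K) := RingHom.ker f.toRingHom with hI
  let e : (MvPolynomial (Fin n) K ⧸ I) ≃ₐ[K] T := Ideal.quotientKerAlgEquivOfSurjective hf
  refine isLCIOver_of_algEquiv e ?_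
  haveI : Algebra.FiniteType K (MvPolynomial (Fin n) K ⧸ I) :=
    Algebra.FiniteType.of_surjective (Ideal.Quotient.mkₐ K I) (Ideal.Quotient.mkₐ_surjective K I)
  refine ⟨inferInstance, fun q => ?_⟩
  haveI := q.isPrime
  rw [isKoszulRegularIdeal_iff] at hKR
  have hle : I ≤ q.asIdeal.comap (Ideal.Quotient.mk I) := by
    intro x hx
    rw [Ideal.mem_comap, Ideal.Quotient.eq_zero_iff_mem.mpr hx]
    exact zero_mem _
  obtain ⟨g, hg, hloc⟩ := hKR (q.asIdeal.comap (Ideal.Quotient.mk I)) inferInstance hle
  obtain ⟨l, hl, hJ⟩ := Groth.Agent.Lead.LciDesc.exists_kr_atPrime I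
    (q.asIdeal.comap (Ideal.Quotient.mk I)) g hg hloc
  have hJm := map_le_maximalIdeal K n I q.asIdeal
  have hlm : ∀ x ∈ l, x ∈ maximalIdeal
      (Localization.AtPrime (q.asIdeal.comap (Ideal.Quotient.mk I))) := by
    intro x hx
    apply hJm
    rw [hJ]
    exact Ideal.subset_span hx
  have hreg := isRegular_reverse_of_koszulRegular l hlm hl
  have hCI : IsCIIdeal (Localization.AtPrime (q.asIdeal.comap (Ideal.Quotient.mk I)))
      (I.map (algebraMap _ (Localization.AtPrime (q.asIdeal.comap (Ideal.Quotient.mk I))))) :=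
    (isCIIdeal_iff_exists_isRegular hJm).mpr ⟨l.reverse, hreg, by rw [ofList_reverse, hJ]⟩
  exact exists_away_globalCI_of_isCIIdeal K n I q.asIdeal hCI

end FieldCase

end Groth.Agent.Helper2.Synt
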