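import Mathlib
import Groth.Agent.Lib.Helper2.Synt.KosField
import Groth.Agent.Lib.Lead.LciDesc4
import Groth.Agent.Lib.Helper3.KosBC6

set_option autoImplicit false
set_option linter.style.haveILetI false
set_option linter.unusedSectionVars false
universe u

namespace Groth.Agent.Helper2.Synt

/-- flat + Koszul local complete intersection implies syntomic -/
theorem isSyntomic_of_flat_of_isLCI (R S : Type u) [CommRing R] [CommRing S] [Algebra R S]
    [Module.Flat R S] (h : LCI.IsLCI R S) : _root_.Synt.IsSyntomic R S := by
  refine ⟨inferInstance, ?_, ?_⟩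
  · obtain ⟨hft, n, f, hf, hKR⟩ := h
    exact Algebra.FinitePresentation.of_surjective hf
      (Groth.Agent.Lead.LciDesc.fg_of_krIdeal _ hKR)
  · intro p
    exact isLCIOver_of_isLCI _ _
      (Groth.Agent.Helper3.KosBC.isLCI_baseChange R S p.asIdeal.ResidueField h)

end Groth.Agent.Helper2.Synt
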