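import Mathlib
import Groth.Agent.Lib.Helper4.Chev1

set_option autoImplicit false
universe u

namespace Groth.Agent.Helper2.Synt

open TensorProduct

/-- the dimension of a finite type algebra over a field is invariant under extension of the base
field -/
theorem ringKrullDim_tensor_field_eq (k K C : Type u) [Field k] [Field K] [Algebra k K]
    [CommRing C] [Algebra k C] [Algebra.FiniteType k C] :
    ringKrullDim (K ⊗[k] C) = ringKrullDim C := by
  rcases subsingleton_or_nontrivial C with hC | hC
  · haveI : Subsingleton (K ⊗[k] C) := by
      refine ⟨fun a b => ?_⟩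
      have h0 : ∀ x : K ⊗[k] C, x = 0 := by
        intro x
        induction x using TensorProduct.induction_on with
        | zero => rfl
        | tmul a s => rw [Subsingleton.elim s 0, tmul_zero]
        | add x y hx hy => rw [hx, hy, add_zero]
      rw [h0 a, h0 b]
    rw [ringKrullDim_eq_bot_of_subsingleton, ringKrullDim_eq_bot_of_subsingleton]
  · obtain ⟨s, alg, tower, fin, inj, hdim⟩ := Groth.Agent.Lib.Helper4.Chev1.exists_noether'' k C
    let g : K ⊗[k] MvPolynomial (Fin s) k →ₐ[k] K ⊗[k] C :=
      Algebra.TensorProduct.map (AlgHom.id k K) (IsScalarTower.toAlgHom k (MvPolynomial (Fin s) k) C)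
    have hgfin : g.toRingHom.Finite := by
      apply RingHom.Finite.tensorProductMap
      · exact RingHom.Finite.id K
      · exact RingHom.finite_algebraMap.mpr fin
    have hginj : Function.Injective g := by
      have h1 : Function.Injective ((IsScalarTower.toAlgHom k (MvPolynomial (Fin s) k)
          C).toLinearMap.lTensor K) :=
        Module.Flat.lTensor_preserves_injective_linearMap _ inj
      exact h1
    letI := g.toRingHom.toAlgebra
    haveI : Module.Finite (K ⊗[k] MvPolynomial (Fin s) k) (K ⊗[k] C) := hgfin
    haveI : Algebra.IsIntegral (K ⊗[k] MvPolynomial (Fin s) k) (K ⊗[k] C) :=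
      Algebra.IsIntegral.of_finite _ _
    rw [Groth.Agent.Lib.Helper4.DimFT1.ringKrullDim_eq_of_isIntegral_of_injective
      (K ⊗[k] MvPolynomial (Fin s) k) (K ⊗[k] C) hginj, hdim,
      ringKrullDim_eq_of_ringEquiv
        (MvPolynomial.algebraTensorAlgEquiv (σ := Fin s) k K).toRingEquiv,
      MvPolynomial.ringKrullDim_of_isNoetherianRing, ringKrullDim_eq_zero_of_field, zero_add,
      Nat.card_fin]

end Groth.Agent.Helper2.Synt
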