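import Mathlib
import Groth.Agent.Lib.Helper2.Synt.GlobalCI
import Groth.Prelude.Def_RegImm

/-!
# Relative global complete intersections: base change of the presentation, Krull's bound
-/

set_option autoImplicit false
universe u

namespace Groth.Agent.Helper2.Synt

open TensorProduct MvPolynomial

section BaseChange

variable (R : Type u) [CommRing R] (n c : ℕ) (F : Fin c → MvPolynomial (Fin n) R)
  (A : Type u) [CommRing A] [Algebra R A]

/-- the base changed relations -/
noncomputable def mapRel : Fin c → MvPolynomial (Fin n) A :=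
  fun i => MvPolynomial.map (algebraMap R A) (F i)

theorem map_span_includeRight :
    (Ideal.span (Set.range F)).map
      (Algebra.TensorProduct.includeRight (R := R) (A := A) (B := MvPolynomial (Fin n) R)) =
    (Ideal.span (Set.range (mapRel R n c F A))).comap
      (MvPolynomial.algebraTensorAlgEquiv (σ := Fin n) R A : A ⊗[R] MvPolynomial (Fin n) R →+*
        MvPolynomial (Fin n) A) := by
  have hcomap : (Ideal.span (Set.range (mapRel R n c F A))).comap
      (MvPolynomial.algebraTensorAlgEquiv (σ := Fin n) R A : A ⊗[R] MvPolynomial (Fin n) R →+*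
        MvPolynomial (Fin n) A) =
      (Ideal.span (Set.range (mapRel R n c F A))).map
        ((MvPolynomial.algebraTensorAlgEquiv (σ := Fin n) R A).symm :
          MvPolynomial (Fin n) A →+* A ⊗[R] MvPolynomial (Fin n) R) := by
    exact (Ideal.map_symm (MvPolynomial.algebraTensorAlgEquiv (σ := Fin n) R A).toRingEquiv).symm
  rw [hcomap, Ideal.map_span, Ideal.map_span, ← Set.range_comp, ← Set.range_comp]
  congr 2
  ext i
  simp [mapRel]

/-- **Base change of a relative global complete intersection presentation.** -/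
noncomputable def fiberEquiv :
    A ⊗[R] _root_.Synt.RelGCIRing R n c F ≃ₐ[A] _root_.Synt.RelGCIRing A n c (mapRel R n c F A) :=
  (Algebra.TensorProduct.tensorQuotientEquiv (R := R) A (MvPolynomial (Fin n) R) A
    (Ideal.span (Set.range F))).trans
    (Ideal.quotientEquivAlg _ _ (MvPolynomial.algebraTensorAlgEquiv (σ := Fin n) R A) (by
      rw [map_span_includeRight]
      exact (Ideal.map_comap_of_surjective _
        (MvPolynomial.algebraTensorAlgEquiv (σ := Fin n) R A).surjective _).symm))

theorem fiberEquiv_tmul_mk (a : A) (P : MvPolynomial (Fin n) R) :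
    fiberEquiv R n c F A (a ⊗ₜ Ideal.Quotient.mk _ P) =
      Ideal.Quotient.mk _ (a • MvPolynomial.map (algebraMap R A) P) := by
  simp [fiberEquiv]

end BaseChange

/-- Krull's bound: a nonzero quotient of a polynomial ring in `n` variables over a field by `c`
relations has dimension at least `n - c`. -/
theorem le_dim_add_of_nontrivial (k : Type u) [Field k] (n c : ℕ)
    (r : Fin c → MvPolynomial (Fin n) k) [Nontrivial (_root_.Synt.RelGCIRing k n c r)] :
    (n : WithBot ℕ∞) ≤ ringKrullDim (_root_.Synt.RelGCIRing k n c r) + (c : WithBot ℕ∞) := by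
  set I := Ideal.span (Set.range r) with hI
  obtain ⟨m, hm⟩ := Ideal.exists_maximal (MvPolynomial (Fin n) k ⧸ I)
  obtain ⟨q, hq, -⟩ := Ideal.exists_minimalPrimes_le (bot_le : (⊥ : Ideal _) ≤ m)
  have : q.IsPrime := hq.1.1
  have hq0 : q.height = 0 := by
    rw [Ideal.height_eq_zero_iff]
    exact hq
  have h1 := height_comap_le_add k n I q r hI
  rw [hq0, add_zero] at h1
  have h2 := Groth.Agent.Lib.Helper4.DimFT1.height_add_dim_quotient k (MvPolynomial (Fin n) k)
    (q.comap (Ideal.Quotient.mk I))
  rw [ringKrullDim_mvPolynomial] at h2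
  have h3 : ringKrullDim (MvPolynomial (Fin n) k ⧸ q.comap (Ideal.Quotient.mk I)) ≤
      ringKrullDim (MvPolynomial (Fin n) k ⧸ I) := by
    have h4 : ringKrullDim (MvPolynomial (Fin n) k ⧸ q.comap (Ideal.Quotient.mk I)) =
        ringKrullDim ((MvPolynomial (Fin n) k ⧸ I) ⧸ q) :=
      ringKrullDim_eq_of_ringEquiv (quotQuotEquiv k n I q)
    rw [h4]
    exact ringKrullDim_quotient_le q
  rw [← h2, add_comm]
  refine add_le_add h3 ?_
  exact_mod_cast h1

/-- the dimension of a nontrivial fibre of a presentation is at least `n - c` -/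
theorem le_dim_fiber_add (R : Type u) [CommRing R] (n c : ℕ) (F : Fin c → MvPolynomial (Fin n) R)
    (p : Ideal R) [p.IsPrime] [Nontrivial (p.Fiber (_root_.Synt.RelGCIRing R n c F))] :
    (n : WithBot ℕ∞) ≤ ringKrullDim (p.Fiber (_root_.Synt.RelGCIRing R n c F)) +
      (c : WithBot ℕ∞) := by
  have e := fiberEquiv R n c F p.ResidueField
  haveI : Nontrivial (_root_.Synt.RelGCIRing p.ResidueField n c (mapRel R n c F p.ResidueField)) :=
    e.injective.nontrivial
  have h := le_dim_add_of_nontrivial p.ResidueField n c (mapRel R n c F p.ResidueField)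
  have he : ringKrullDim (p.Fiber (_root_.Synt.RelGCIRing R n c F)) =
      ringKrullDim (_root_.Synt.RelGCIRing p.ResidueField n c (mapRel R n c F p.ResidueField)) :=
    ringKrullDim_eq_of_ringEquiv e.toRingEquiv
  rwa [← he] at h

theorem exists_nat_eq_of_le {x : WithBot ℕ∞} {a : ℕ} (h0 : 0 ≤ x) (hle : x ≤ (a : WithBot ℕ∞)) :
    ∃ m : ℕ, x = m := by
  induction x using WithBot.recBotCoe with
  | bot => simp at h0
  | coe x =>
    induction x using ENat.recTopCoe with
    | top =>
      exfalso
      have : (⊤ : ℕ∞) ≤ (a : ℕ∞) := by exact_mod_cast hle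
      simp at this
    | coe m => exact ⟨m, rfl⟩

/-- criterion: a presentation all of whose fibres have dimension at most `n - c` is a relative
global complete intersection -/
theorem isRelGCI_of_fibre_dim_le (R : Type u) [CommRing R] (n c : ℕ)
    (F : Fin c → MvPolynomial (Fin n) R) (hcn : c ≤ n)
    (h : ∀ (p : Ideal R) [p.IsPrime],
      ringKrullDim (p.Fiber (_root_.Synt.RelGCIRing R n c F)) ≤ ((n - c : ℕ) : WithBot ℕ∞)) :
    _root_.Synt.IsRelGCI R n c F := by
  intro p hnt
  haveI := p.isPrime
  refine ⟨hcn, le_antisymm (h p.asIdeal) ?_⟩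
  have h1 := le_dim_fiber_add R n c F p.asIdeal
  obtain ⟨m, hm⟩ : ∃ m : ℕ, ringKrullDim (p.asIdeal.Fiber (_root_.Synt.RelGCIRing R n c F)) = m :=
    exists_nat_eq_of_le ringKrullDim_nonneg_of_nontrivial (h p.asIdeal)
  rw [hm] at h1 ⊢
  have h2 : n ≤ m + c := by exact_mod_cast h1
  have : n - c ≤ m := by omega
  exact_mod_cast this

end Groth.Agent.Helper2.Synt
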