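import Mathlib
import Groth.Agent.Lib.Helper2.Synt.RelGCI
import Groth.Agent.Lib.Helper2.Synt.FieldExtDim

set_option autoImplicit false
set_option linter.style.haveILetI false
set_option linter.unusedSectionVars false
universe u

namespace Groth.Agent.Helper2.Synt

open TensorProduct MvPolynomial

/-- finitely many polynomials are defined over a finite type `ℤ`-subalgebra -/
theorem exists_finiteType_descent (R : Type u) [CommRing R] (σ : Type*) {c : ℕ}
    (F : Fin c → MvPolynomial σ R) :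
    ∃ (R₀ : Subalgebra ℤ R) (F₀ : Fin c → MvPolynomial σ R₀), Algebra.FiniteType ℤ R₀ ∧
      ∀ i, MvPolynomial.map (algebraMap R₀ R) (F₀ i) = F i := by
  classical
  let s : Finset R := Finset.univ.biUnion fun i => (F i).coeffs
  let R₀ : Subalgebra ℤ R := Algebra.adjoin ℤ (s : Set R)
  have hfg : R₀.FG := Subalgebra.fg_adjoin_finset s
  have hF : ∀ i, F i ∈ Set.range (MvPolynomial.map (σ := σ) (algebraMap R₀ R)) := by
    intro i
    rw [MvPolynomial.mem_range_map_iff_coeffs_subset]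
    intro x hx
    refine ⟨⟨x, Algebra.subset_adjoin ?_⟩, rfl⟩
    simp only [s, Finset.coe_biUnion, Finset.coe_univ, Set.mem_univ, Set.iUnion_true,
      Set.mem_iUnion]
    exact ⟨i, hx⟩
  choose F₀ hF₀ using hF
  exact ⟨R₀, F₀, (Subalgebra.fg_iff_finiteType R₀).mp hfg, hF₀⟩

/-- the dimension of the fibre of a presentation does not change under base change -/
theorem ringKrullDim_fiber_descent (R₀ R : Type u) [CommRing R₀] [CommRing R] [Algebra R₀ R]
    (n c : ℕ) (F₀ : Fin c → MvPolynomial (Fin n) R₀) (p : Ideal R) [p.IsPrime] :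
    ringKrullDim ((p.comap (algebraMap R₀ R)).Fiber (_root_.Synt.RelGCIRing R₀ n c F₀)) =
      ringKrullDim (p.Fiber (_root_.Synt.RelGCIRing R n c (mapRel R₀ n c F₀ R))) := by
  set p₀ := p.comap (algebraMap R₀ R) with hp₀
  set K₀ := p₀.ResidueField with hK₀
  set K := p.ResidueField with hK
  letI alg : Algebra K₀ K := (Ideal.ResidueField.map p₀ p (algebraMap R₀ R) rfl).toAlgebra
  set r₀ := mapRel R₀ n c F₀ K₀ with hr₀
  have h1 : ringKrullDim (p₀.Fiber (_root_.Synt.RelGCIRing R₀ n c F₀)) =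
      ringKrullDim (_root_.Synt.RelGCIRing K₀ n c r₀) :=
    ringKrullDim_eq_of_ringEquiv (fiberEquiv R₀ n c F₀ K₀).toRingEquiv
  have h2 : ringKrullDim (p.Fiber (_root_.Synt.RelGCIRing R n c (mapRel R₀ n c F₀ R))) =
      ringKrullDim (_root_.Synt.RelGCIRing K n c (mapRel R n c (mapRel R₀ n c F₀ R) K)) :=
    ringKrullDim_eq_of_ringEquiv (fiberEquiv R n c (mapRel R₀ n c F₀ R) K).toRingEquiv
  haveI : Algebra.FiniteType K₀ (_root_.Synt.RelGCIRing K₀ n c r₀) :=
    Algebra.FiniteType.of_surjective (Ideal.Quotient.mkₐ K₀ _) (Ideal.Quotient.mkₐ_surjective K₀ _)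
  have h3 : ringKrullDim (K ⊗[K₀] _root_.Synt.RelGCIRing K₀ n c r₀) =
      ringKrullDim (_root_.Synt.RelGCIRing K₀ n c r₀) :=
    ringKrullDim_tensor_field_eq K₀ K _
  have h4 : ringKrullDim (K ⊗[K₀] _root_.Synt.RelGCIRing K₀ n c r₀) =
      ringKrullDim (_root_.Synt.RelGCIRing K n c (mapRel K₀ n c r₀ K)) :=
    ringKrullDim_eq_of_ringEquiv (fiberEquiv K₀ n c r₀ K).toRingEquiv
  have h5 : mapRel K₀ n c r₀ K = mapRel R n c (mapRel R₀ n c F₀ R) K := by
    have hcomp : (algebraMap K₀ K).comp (algebraMap R₀ K₀) =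
        (algebraMap R K).comp (algebraMap R₀ R) := by
      apply RingHom.ext
      intro a
      simp only [RingHom.comp_apply]
      rw [RingHom.algebraMap_toAlgebra]
      exact Ideal.ResidueField.map_algebraMap p₀ p (algebraMap R₀ R) rfl a
    funext i
    simp only [mapRel, hr₀, MvPolynomial.map_map, hcomp]
  rw [h1, h2, ← h5, ← h4, h3]

end Groth.Agent.Helper2.Synt
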