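import Mathlib

set_option autoImplicit false
set_option linter.style.haveILetI false
set_option linter.unusedSectionVars false
universe u

namespace Groth.Agent.Helper2.Synt

open TensorProduct

section BC

variable (R₀ R T₀ : Type u) [CommRing R₀] [CommRing R] [CommRing T₀] [Algebra R₀ R]
  [Algebra R₀ T₀] (M₀ : Submonoid T₀) (L₀ : Type u) [CommRing L₀] [Algebra T₀ L₀] [Algebra R₀ L₀]
  [IsScalarTower R₀ T₀ L₀] [IsLocalization M₀ L₀]
  (M : Submonoid (R ⊗[R₀] T₀)) (L : Type u) [CommRing L] [Algebra (R ⊗[R₀] T₀) L] [Algebra R L]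
  [IsScalarTower R (R ⊗[R₀] T₀) L] [IsLocalization M L]

/-- A localization of `R ⊗ T₀` at a submonoid containing the image of `M₀` receives a flat map
from `R ⊗ L₀`, compatible with the structure maps. -/
theorem exists_flat_algebra_tensor
    (hM : M₀.map (Algebra.TensorProduct.includeRight (R := R₀) (A := R)) ≤ M) :
    ∃ (ψ : R ⊗[R₀] L₀ →+* L),
      (∀ (a : R) (t : T₀), ψ (a ⊗ₜ algebraMap T₀ L₀ t) = algebraMap (R ⊗[R₀] T₀) L (a ⊗ₜ t)) ∧
      ψ.Flat := by
  letI : Algebra (R ⊗[R₀] T₀) (R ⊗[R₀] L₀) :=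
    (Algebra.TensorProduct.map (AlgHom.id R₀ R) (IsScalarTower.toAlgHom R₀ T₀ L₀)).toAlgebra
  haveI : IsScalarTower R (R ⊗[R₀] T₀) (R ⊗[R₀] L₀) :=
    .of_algebraMap_eq <| by intro; simp [RingHom.algebraMap_toAlgebra]
  haveI := IsLocalization.tensorProduct_tensorProduct_right R₀ R M₀ L₀
    (by ext; simp [RingHom.algebraMap_toAlgebra])
  have hu : ∀ y : M₀.map (Algebra.TensorProduct.includeRight (R := R₀) (A := R)),
      IsUnit (algebraMap (R ⊗[R₀] T₀) L y) := fun y =>
    IsLocalization.map_units L (⟨y.1, hM y.2⟩ : M)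
  let ψ : R ⊗[R₀] L₀ →+* L := IsLocalization.lift hu
  letI : Algebra (R ⊗[R₀] L₀) L := ψ.toAlgebra
  haveI : IsScalarTower (R ⊗[R₀] T₀) (R ⊗[R₀] L₀) L :=
    .of_algebraMap_eq <| by
      intro x
      rw [RingHom.algebraMap_toAlgebra ψ]
      exact (IsLocalization.lift_eq hu x).symm
  haveI := IsLocalization.isLocalization_of_submonoid_le (R ⊗[R₀] L₀) L
    (M₀.map (Algebra.TensorProduct.includeRight (R := R₀) (A := R))) M hM
  refine ⟨ψ, ?_, ?_⟩
  · intro a t
    have h1 : (a ⊗ₜ[R₀] algebraMap T₀ L₀ t : R ⊗[R₀] L₀) =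
        algebraMap (R ⊗[R₀] T₀) (R ⊗[R₀] L₀) (a ⊗ₜ t) := by
      simp [RingHom.algebraMap_toAlgebra]
    rw [h1]
    exact IsLocalization.lift_eq hu _
  · exact IsLocalization.flat L (M.map (algebraMap (R ⊗[R₀] T₀) (R ⊗[R₀] L₀)))

/-- flatness passes to the localization of the base change -/
theorem flat_of_tensor_localization
    (hM : M₀.map (Algebra.TensorProduct.includeRight (R := R₀) (A := R)) ≤ M)
    [Module.Flat R₀ L₀] : Module.Flat R L := by
  obtain ⟨ψ, hψ, hflat⟩ := exists_flat_algebra_tensor R₀ R T₀ M₀ L₀ M L hM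
  letI : Algebra (R ⊗[R₀] L₀) L := ψ.toAlgebra
  haveI : Module.Flat (R ⊗[R₀] L₀) L := hflat
  haveI : IsScalarTower R (R ⊗[R₀] L₀) L :=
    .of_algebraMap_eq <| by
      intro a
      rw [RingHom.algebraMap_toAlgebra ψ, Algebra.TensorProduct.algebraMap_apply,
        Algebra.algebraMap_self, RingHom.id_apply,
        IsScalarTower.algebraMap_apply R (R ⊗[R₀] T₀) L,
        Algebra.TensorProduct.algebraMap_apply, Algebra.algebraMap_self, RingHom.id_apply]
      have := hψ a 1
      rw [map_one] at this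
      exact this.symm
  exact Module.Flat.trans R (R ⊗[R₀] L₀) L

/-- a nonzerodivisor with flat cokernel stays a nonzerodivisor after base change and
localization -/
theorem isSMulRegular_of_tensor_localization
    (hM : M₀.map (Algebra.TensorProduct.includeRight (R := R₀) (A := R)) ≤ M) (t : T₀)
    (hreg : IsSMulRegular L₀ (algebraMap T₀ L₀ t))
    (hflat : Module.Flat R₀ (L₀ ⧸ Ideal.span {algebraMap T₀ L₀ t})) :
    IsSMulRegular L (algebraMap (R ⊗[R₀] T₀) L (1 ⊗ₜ t)) := by
  obtain ⟨ψ, hψ, hψflat⟩ := exists_flat_algebra_tensor R₀ R T₀ M₀ L₀ M L hM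
  letI : Algebra (R ⊗[R₀] L₀) L := ψ.toAlgebra
  haveI : Module.Flat (R ⊗[R₀] L₀) L := hψflat
  set r := algebraMap T₀ L₀ t with hr
  have h1 : IsSMulRegular (R ⊗[R₀] L₀) ((1 : R) ⊗ₜ[R₀] r) := by
    have hinj : Function.Injective ((LinearMap.mulLeft R₀ r).lTensor R) := by
      refine LinearMap.lTensor_injective_of_exact_of_flat
        (Ideal.Quotient.mkₐ R₀ (Ideal.span {r})).toLinearMap
        (Ideal.Quotient.mkₐ_surjective R₀ _) (LinearMap.mulLeft R₀ r) ?_ ?_ R
      · intro a b hab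
        exact hreg hab
      · intro x
        constructor
        · intro hx
          have hx' : Ideal.Quotient.mk (Ideal.span {r}) x = 0 := hx
          rw [Ideal.Quotient.eq_zero_iff_mem, Ideal.mem_span_singleton'] at hx'
          obtain ⟨y, hy⟩ := hx'
          exact ⟨y, by rw [LinearMap.mulLeft_apply, mul_comm, hy]⟩
        · rintro ⟨y, rfl⟩
          show Ideal.Quotient.mk (Ideal.span {r}) (r * y) = 0
          rw [Ideal.Quotient.eq_zero_iff_mem]
          exact Ideal.mul_mem_right _ _ (Ideal.subset_span rfl)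
    intro a b hab
    apply hinj
    have key : ∀ x : R ⊗[R₀] L₀, (LinearMap.mulLeft R₀ r).lTensor R x = ((1 : R) ⊗ₜ[R₀] r) • x := by
      intro x
      induction x using TensorProduct.induction_on with
      | zero => simp
      | tmul a l => simp [Algebra.TensorProduct.tmul_mul_tmul]
      | add x y hx hy => rw [map_add, hx, hy, smul_add]
    rw [key, key]
    exact hab
  have h2 := IsSMulRegular.of_flat (S := L) h1
  rw [RingHom.algebraMap_toAlgebra ψ] at h2
  have h3 := hψ 1 t
  rw [← h3]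
  exact h2

end BC

end Groth.Agent.Helper2.Synt
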