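import Mathlib
import Groth.Agent.Lib.Helper2.Synt.BaseChangeLoc

set_option autoImplicit false
set_option linter.style.haveILetI false
set_option linter.unusedSectionVars false
universe u

namespace Groth.Agent.Helper2.Synt

open TensorProduct

section BCQ

variable (R₀ R P₀ P : Type u) [CommRing R₀] [CommRing R] [CommRing P₀] [CommRing P]
  [Algebra R₀ R] [Algebra R₀ P₀] [Algebra R P] (φ : P₀ →+* P) (J₀ : Ideal P₀)
  (e : R ⊗[R₀] (P₀ ⧸ J₀) ≃+* P ⧸ J₀.map φ)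
  (he : ∀ (a : R) (f : P₀), e (a ⊗ₜ Ideal.Quotient.mk J₀ f) =
    Ideal.Quotient.mk (J₀.map φ) (algebraMap R P a * φ f))
  (q' : Ideal P) [q'.IsPrime]
  (B₀ : Type u) [CommRing B₀] [Algebra P₀ B₀] [IsLocalization.AtPrime B₀ (q'.comap φ)]
  [Algebra R₀ B₀] [IsScalarTower R₀ P₀ B₀]
  (B : Type u) [CommRing B] [Algebra P B] [IsLocalization.AtPrime B q'] [Algebra R B]
  [IsScalarTower R P B]

include he in
theorem bcq_aux :
    ∃ (_ : Algebra (R ⊗[R₀] (P₀ ⧸ J₀)) (B ⧸ (J₀.map φ).map (algebraMap P B)))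
      (_ : IsScalarTower R (R ⊗[R₀] (P₀ ⧸ J₀)) (B ⧸ (J₀.map φ).map (algebraMap P B)))
      (M : Submonoid (R ⊗[R₀] (P₀ ⧸ J₀)))
      (_ : IsLocalization M (B ⧸ (J₀.map φ).map (algebraMap P B))),
      (Algebra.algebraMapSubmonoid (P₀ ⧸ J₀) (q'.comap φ).primeCompl).map
        (Algebra.TensorProduct.includeRight (R := R₀) (A := R)) ≤ M ∧
      ∀ (a : R) (f : P₀), algebraMap (R ⊗[R₀] (P₀ ⧸ J₀)) (B ⧸ (J₀.map φ).map (algebraMap P B))
        (a ⊗ₜ Ideal.Quotient.mk J₀ f) =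
        Ideal.Quotient.mk ((J₀.map φ).map (algebraMap P B)) (algebraMap P B (algebraMap R P a * φ f)) := by
  have hloc := IsLocalization.isLocalization_of_base_ringEquiv
    (Algebra.algebraMapSubmonoid (P ⧸ J₀.map φ) q'.primeCompl)
    (B ⧸ (J₀.map φ).map (algebraMap P B)) e.symm
  letI alg : Algebra (R ⊗[R₀] (P₀ ⧸ J₀)) (B ⧸ (J₀.map φ).map (algebraMap P B)) :=
    ((algebraMap (P ⧸ J₀.map φ) (B ⧸ (J₀.map φ).map (algebraMap P B))).comp
      e.symm.symm.toRingHom).toAlgebra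
  have halg : ∀ (a : R) (f : P₀),
      algebraMap (R ⊗[R₀] (P₀ ⧸ J₀)) (B ⧸ (J₀.map φ).map (algebraMap P B))
        (a ⊗ₜ Ideal.Quotient.mk J₀ f) =
        Ideal.Quotient.mk ((J₀.map φ).map (algebraMap P B)) (algebraMap P B (algebraMap R P a * φ f)) := by
    intro a f
    show algebraMap (P ⧸ J₀.map φ) (B ⧸ (J₀.map φ).map (algebraMap P B))
      (e (a ⊗ₜ Ideal.Quotient.mk J₀ f)) = _
    rw [he]
    rfl
  have htower : IsScalarTower R (R ⊗[R₀] (P₀ ⧸ J₀)) (B ⧸ (J₀.map φ).map (algebraMap P B)) := by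
    refine @IsScalarTower.of_algebraMap_eq R (R ⊗[R₀] (P₀ ⧸ J₀))
      (B ⧸ (J₀.map φ).map (algebraMap P B)) _ _ _ _ alg
      (inferInstance : Algebra R (B ⧸ (J₀.map φ).map (algebraMap P B))) ?_
    intro a
    rw [Algebra.TensorProduct.algebraMap_apply, Algebra.algebraMap_self, RingHom.id_apply]
    have h1 := halg a 1
    rw [map_one] at h1
    rw [h1, map_one, mul_one, ← IsScalarTower.algebraMap_apply R P B]
    rfl
  refine ⟨alg, htower, _, hloc, ?_, halg⟩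
  · rintro _ ⟨_, ⟨s, hs, rfl⟩, rfl⟩
    refine ⟨Ideal.Quotient.mk (J₀.map φ) (φ s), ⟨φ s, hs, rfl⟩, ?_⟩
    show e.symm (Ideal.Quotient.mk (J₀.map φ) (φ s)) = (1 : R) ⊗ₜ[R₀] (Ideal.Quotient.mk J₀ s)
    rw [RingEquiv.symm_apply_eq, he, map_one, one_mul]

include he q' in
/-- flatness of the quotient of the localization passes to the base change -/
theorem flat_quot_of_baseChange
    [Module.Flat R₀ (B₀ ⧸ J₀.map (algebraMap P₀ B₀))] :
    Module.Flat R (B ⧸ (J₀.map φ).map (algebraMap P B)) := by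
  obtain ⟨alg, htower, M, hloc, hM, halg⟩ := bcq_aux R₀ R P₀ P φ J₀ e he q' B
  letI := alg
  haveI := htower
  haveI := hloc
  haveI : IsScalarTower R₀ (P₀ ⧸ J₀) (B₀ ⧸ J₀.map (algebraMap P₀ B₀)) := by
    refine IsScalarTower.of_algebraMap_eq ?_
    intro a
    rw [IsScalarTower.algebraMap_apply R₀ P₀ (P₀ ⧸ J₀),
      IsScalarTower.algebraMap_apply R₀ B₀ (B₀ ⧸ J₀.map (algebraMap P₀ B₀)),
      IsScalarTower.algebraMap_apply R₀ P₀ B₀]
    rfl
  exact flat_of_tensor_localization R₀ R (P₀ ⧸ J₀)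
    (Algebra.algebraMapSubmonoid (P₀ ⧸ J₀) (q'.comap φ).primeCompl)
    (B₀ ⧸ J₀.map (algebraMap P₀ B₀)) M (B ⧸ (J₀.map φ).map (algebraMap P B)) hM

include he q' in
/-- a nonzerodivisor modulo the ideal with flat cokernel stays so after base change -/
theorem regular_quot_of_baseChange (t : P₀)
    (hreg : ∀ x : B₀, algebraMap P₀ B₀ t * x ∈ J₀.map (algebraMap P₀ B₀) →
      x ∈ J₀.map (algebraMap P₀ B₀))
    (hflat : Module.Flat R₀
      (B₀ ⧸ (J₀.map (algebraMap P₀ B₀) ⊔ Ideal.span {algebraMap P₀ B₀ t}))) :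
    ∀ x : B, algebraMap P B (φ t) * x ∈ (J₀.map φ).map (algebraMap P B) →
      x ∈ (J₀.map φ).map (algebraMap P B) := by
  obtain ⟨alg, htower, M, hloc, hM, halg⟩ := bcq_aux R₀ R P₀ P φ J₀ e he q' B
  letI := alg
  haveI := htower
  haveI := hloc
  haveI : IsScalarTower R₀ (P₀ ⧸ J₀) (B₀ ⧸ J₀.map (algebraMap P₀ B₀)) := by
    refine IsScalarTower.of_algebraMap_eq ?_
    intro a
    rw [IsScalarTower.algebraMap_apply R₀ P₀ (P₀ ⧸ J₀),
      IsScalarTower.algebraMap_apply R₀ B₀ (B₀ ⧸ J₀.map (algebraMap P₀ B₀)),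
      IsScalarTower.algebraMap_apply R₀ P₀ B₀]
    rfl
  have hmk : algebraMap (P₀ ⧸ J₀) (B₀ ⧸ J₀.map (algebraMap P₀ B₀)) (Ideal.Quotient.mk J₀ t) =
      Ideal.Quotient.mk (J₀.map (algebraMap P₀ B₀)) (algebraMap P₀ B₀ t) := rfl
  have hreg' : IsSMulRegular (B₀ ⧸ J₀.map (algebraMap P₀ B₀))
      (algebraMap (P₀ ⧸ J₀) (B₀ ⧸ J₀.map (algebraMap P₀ B₀)) (Ideal.Quotient.mk J₀ t)) := by
    rw [hmk, isSMulRegular_iff_right_eq_zero_of_smul]
    intro m hm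
    obtain ⟨x, rfl⟩ := Ideal.Quotient.mk_surjective m
    rw [smul_eq_mul, ← map_mul, Ideal.Quotient.eq_zero_iff_mem] at hm
    rw [Ideal.Quotient.eq_zero_iff_mem]
    exact hreg x hm
  have hflat' : Module.Flat R₀ ((B₀ ⧸ J₀.map (algebraMap P₀ B₀)) ⧸
      Ideal.span {algebraMap (P₀ ⧸ J₀) (B₀ ⧸ J₀.map (algebraMap P₀ B₀))
        (Ideal.Quotient.mk J₀ t)}) := by
    have h1 : (Ideal.span {algebraMap P₀ B₀ t}).map
        (Ideal.Quotient.mkₐ R₀ (J₀.map (algebraMap P₀ B₀))) =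
        Ideal.span {algebraMap (P₀ ⧸ J₀) (B₀ ⧸ J₀.map (algebraMap P₀ B₀))
          (Ideal.Quotient.mk J₀ t)} := by
      rw [Ideal.map_span, Set.image_singleton, hmk]
      rfl
    rw [← h1]
    exact Module.Flat.of_linearEquiv
      (DoubleQuot.quotQuotEquivQuotSupₐ R₀ (J₀.map (algebraMap P₀ B₀))
        (Ideal.span {algebraMap P₀ B₀ t})).toLinearEquiv
  have key := isSMulRegular_of_tensor_localization R₀ R (P₀ ⧸ J₀)
    (Algebra.algebraMapSubmonoid (P₀ ⧸ J₀) (q'.comap φ).primeCompl)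
    (B₀ ⧸ J₀.map (algebraMap P₀ B₀)) M (B ⧸ (J₀.map φ).map (algebraMap P B)) hM
    (Ideal.Quotient.mk J₀ t) hreg' hflat'
  rw [halg 1 t, map_one, one_mul] at key
  intro x hx
  rw [← Ideal.Quotient.eq_zero_iff_mem] at hx ⊢
  rw [map_mul] at hx
  exact (isSMulRegular_iff_right_eq_zero_of_smul.mp key) _ hx

end BCQ

end Groth.Agent.Helper2.Synt
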