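import Mathlib

set_option autoImplicit false
set_option linter.style.haveILetI false
set_option linter.unusedSectionVars false
universe u

namespace Groth.Agent.Helper2.Synt

section LemmaX

variable {P T : Type*} [CommRing P] [CommRing T] (φ : P →+* T)
  (qb : Ideal T) [qb.IsPrime] (q' : Ideal P) [q'.IsPrime] (h : q' = qb.comap φ)

theorem localRingHom_surjective_of_denominators
    (hden : ∀ t : T, ∃ a g : P, IsUnit (φ a) ∧ φ a * t = φ g) :
    Function.Surjective (Localization.localRingHom q' qb φ h) := by
  intro y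
  obtain ⟨t, s, rfl⟩ := IsLocalization.exists_mk'_eq qb.primeCompl y
  obtain ⟨a, g, ha, hg⟩ := hden t
  obtain ⟨b, k, hb, hk⟩ := hden s.1
  have hnot : ∀ x : P, φ x ∉ qb → x ∉ q' := by
    intro x hx hx'
    rw [h] at hx'
    exact hx hx'
  have hunit : ∀ x : P, IsUnit (φ x) → x ∉ q' := fun x hx =>
    hnot x (fun hmem => (Ideal.IsPrime.ne_top inferInstance) (Ideal.eq_top_of_isUnit_mem _ hmem hx))
  have hk' : k ∉ q' := by
    apply hnot
    rw [← hk]
    intro hmem
    rcases Ideal.IsPrime.mem_or_mem inferInstance hmem with h1 | h1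
    · exact (Ideal.IsPrime.ne_top inferInstance) (Ideal.eq_top_of_isUnit_mem _ h1 hb)
    · exact s.2 h1
  have hak : a * k ∈ q'.primeCompl := Submonoid.mul_mem _ (hunit a ha) hk'
  refine ⟨IsLocalization.mk' _ (b * g) ⟨a * k, hak⟩, ?_⟩
  rw [Localization.localRingHom_mk', IsLocalization.mk'_eq_iff_eq]
  congr 1
  simp only [map_mul]
  rw [← hg, ← hk]
  ring

theorem ker_localRingHom_of_denominators
    (hden : ∀ t : T, ∃ a g : P, IsUnit (φ a) ∧ φ a * t = φ g) :
    RingHom.ker (Localization.localRingHom q' qb φ h) =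
      (RingHom.ker φ).map (algebraMap P (Localization.AtPrime q')) := by
  apply le_antisymm
  · intro y hy
    obtain ⟨x, s, rfl⟩ := IsLocalization.exists_mk'_eq q'.primeCompl y
    rw [RingHom.mem_ker, Localization.localRingHom_mk', IsLocalization.mk'_eq_zero_iff] at hy
    obtain ⟨u, hu⟩ := hy
    obtain ⟨b, k, hb, hk⟩ := hden u.1
    rw [IsLocalization.mk'_mem_map_algebraMap_iff]
    refine ⟨k, ?_, ?_⟩
    · intro hk'
      rw [h] at hk'
      have hk'' : φ k ∈ qb := hk'
      rw [← hk] at hk''
      rcases Ideal.IsPrime.mem_or_mem inferInstance hk'' with h1 | h1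
      · exact (Ideal.IsPrime.ne_top inferInstance) (Ideal.eq_top_of_isUnit_mem _ h1 hb)
      · exact u.2 h1
    · rw [RingHom.mem_ker, map_mul, ← hk, mul_assoc, hu, mul_zero]
  · rw [Ideal.map_le_iff_le_comap]
    intro x hx
    rw [Ideal.mem_comap, RingHom.mem_ker, Localization.localRingHom_to_map,
      (RingHom.mem_ker).mp hx, map_zero]

/-- the quotient of the localization by the extended kernel is the localization of the target -/
noncomputable def quotLocEquiv
    (hden : ∀ t : T, ∃ a g : P, IsUnit (φ a) ∧ φ a * t = φ g) :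
    (Localization.AtPrime q' ⧸ (RingHom.ker φ).map (algebraMap P (Localization.AtPrime q'))) ≃+*
      Localization.AtPrime qb :=
  (Ideal.quotEquivOfEq (ker_localRingHom_of_denominators φ qb q' h hden).symm).trans
    (RingHom.quotientKerEquivOfSurjective
      (localRingHom_surjective_of_denominators φ qb q' h hden))

theorem quotLocEquiv_mk (hden : ∀ t : T, ∃ a g : P, IsUnit (φ a) ∧ φ a * t = φ g) (x : P) :
    quotLocEquiv φ qb q' h hden (Ideal.Quotient.mk _ (algebraMap P (Localization.AtPrime q') x)) =
      algebraMap T (Localization.AtPrime qb) (φ x) := by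
  unfold quotLocEquiv
  rw [RingEquiv.trans_apply, Ideal.quotEquivOfEq_mk]
  erw [RingHom.quotientKerEquivOfSurjective_apply_mk]
  exact Localization.localRingHom_to_map q' qb φ h x

end LemmaX

section ResidueField

variable (R : Type u) [CommRing R] (σ : Type*) (p : Ideal R) [p.IsPrime]

theorem exists_denominators_map_residueField (t : MvPolynomial σ p.ResidueField) :
    ∃ a g : MvPolynomial σ R, IsUnit (MvPolynomial.map (algebraMap R p.ResidueField) a) ∧
      MvPolynomial.map (algebraMap R p.ResidueField) a * t =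
        MvPolynomial.map (algebraMap R p.ResidueField) g := by
  induction t using MvPolynomial.induction_on with
  | C k =>
    obtain ⟨z, rfl⟩ := IsLocalRing.residue_surjective (R := Localization.AtPrime p) k
    obtain ⟨b, s, rfl⟩ := IsLocalization.exists_mk'_eq p.primeCompl z
    refine ⟨MvPolynomial.C s.1, MvPolynomial.C b, ?_, ?_⟩
    · rw [MvPolynomial.map_C]
      apply IsUnit.map
      rw [isUnit_iff_ne_zero]
      intro h0
      rw [Ideal.algebraMap_residueField_eq_zero] at h0
      exact s.2 h0
    · rw [MvPolynomial.map_C, MvPolynomial.map_C, ← MvPolynomial.C_mul]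
      congr 1
      have h1 : algebraMap R p.ResidueField s.1 =
          IsLocalRing.residue (Localization.AtPrime p) (algebraMap R _ s.1) := rfl
      have h2 : algebraMap R p.ResidueField b =
          IsLocalRing.residue (Localization.AtPrime p) (algebraMap R _ b) := rfl
      rw [h1, h2, ← map_mul, mul_comm, IsLocalization.mk'_spec]
  | add t₁ t₂ h₁ h₂ =>
    obtain ⟨a₁, g₁, ha₁, hg₁⟩ := h₁
    obtain ⟨a₂, g₂, ha₂, hg₂⟩ := h₂
    refine ⟨a₁ * a₂, a₂ * g₁ + a₁ * g₂, ?_, ?_⟩
    · rw [map_mul]
      exact ha₁.mul ha₂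
    · simp only [map_mul, map_add]
      rw [← hg₁, ← hg₂]
      ring
  | mul_X t i ht =>
    obtain ⟨a, g, ha, hg⟩ := ht
    refine ⟨a, g * MvPolynomial.X i, ha, ?_⟩
    rw [map_mul, MvPolynomial.map_X, ← hg, mul_assoc]

end ResidueField

end Groth.Agent.Helper2.Synt
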