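import Mathlib
import Groth.Agent.Lib.Helper2.Synt.Core
import Groth.Agent.Lib.Helper2.Synt.GlobalCI
import Groth.Agent.Lib.Helper2.Synt.RelGCI
import Groth.Agent.Lib.Helper2.Synt.LocQuot
import Groth.Agent.Lib.Helper8.Fib1
import Groth.Agent.Lib.Helper4.RegPres1
import Groth.Agent.Lib.Helper8.FlatReg2

set_option autoImplicit false
set_option linter.style.haveILetI false
set_option linter.unusedSectionVars false
universe u

namespace Groth.Agent.Helper2.Synt

open TensorProduct MvPolynomial RingTheory.Sequence

section FibreRegular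

variable (R : Type u) [CommRing R] (n c : ℕ) (F : Fin c → MvPolynomial (Fin n) R)
  (q' : Ideal (MvPolynomial (Fin n) R)) [q'.IsPrime]

/-- the images of the relations in the fibre local ring `B/pB` form a regular sequence, when the
fibre has the expected dimension -/
theorem isWeaklyRegular_fibre_quot (hq' : Ideal.span (Set.range F) ≤ q') (hcn : c ≤ n)
    (hdim : ringKrullDim ((q'.comap (algebraMap R (MvPolynomial (Fin n) R))).Fiber
      (_root_.Synt.RelGCIRing R n c F)) = ((n - c : ℕ) : WithBot ℕ∞)) :
    IsWeaklyRegular
      (Localization.AtPrime q' ⧸ (q'.comap (algebraMap R (MvPolynomial (Fin n) R))).map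
        (algebraMap R (Localization.AtPrime q')))
      (((List.ofFn F).map (algebraMap (MvPolynomial (Fin n) R) (Localization.AtPrime q'))).map
        (Ideal.Quotient.mk ((q'.comap (algebraMap R (MvPolynomial (Fin n) R))).map
        (algebraMap R (Localization.AtPrime q'))))) := by
  set p := q'.comap (algebraMap R (MvPolynomial (Fin n) R)) with hp
  set K := p.ResidueField with hK
  set φK : MvPolynomial (Fin n) R →+* MvPolynomial (Fin n) K :=
    MvPolynomial.map (algebraMap R K) with hφK
  set r := mapRel R n c F K with hr
  set I := Ideal.span (Set.range r) with hI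
  -- dimension of the fibre
  have hd : ringKrullDim (MvPolynomial (Fin n) K ⧸ I) = ((n - c : ℕ) : WithBot ℕ∞) := by
    rw [← hdim]
    exact (ringKrullDim_eq_of_ringEquiv (fiberEquiv R n c F K).toRingEquiv).symm
  -- the prime of `S`
  set J := Ideal.span (Set.range F) with hJ
  set qS : Ideal (_root_.Synt.RelGCIRing R n c F) := q'.map (Ideal.Quotient.mk J) with hqS
  have hqScomap : qS.comap (Ideal.Quotient.mk J) = q' := by
    rw [hqS, Ideal.comap_map_of_surjective _ Ideal.Quotient.mk_surjective]
    apply sup_eq_left.mpr
    rw [← RingHom.ker_eq_comap_bot, Ideal.mk_ker]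
    exact hq'
  haveI hqSprime : qS.IsPrime :=
    Ideal.map_isPrime_of_surjective Ideal.Quotient.mk_surjective (by rw [Ideal.mk_ker]; exact hq')
  have hover : qS.comap (algebraMap R (_root_.Synt.RelGCIRing R n c F)) = p := by
    rw [hp, ← hqScomap, Ideal.comap_comap]
    rfl
  obtain ⟨Q', hQ'prime, hQ'⟩ := Groth.Agent.Helper8.Fib.exists_fiber_prime p qS hover
  -- the prime of the polynomial quotient
  set q : Ideal (MvPolynomial (Fin n) K ⧸ I) :=
    Q'.comap ((fiberEquiv R n c F K).symm : (MvPolynomial (Fin n) K ⧸ I) →+*
      K ⊗[R] _root_.Synt.RelGCIRing R n c F) with hq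
  haveI : q.IsPrime := Ideal.comap_isPrime _ _
  have hcomap : q' = (q.comap (Ideal.Quotient.mk I)).comap φK := by
    ext x
    rw [Ideal.mem_comap, Ideal.mem_comap, hq, Ideal.mem_comap]
    have h1 : ((fiberEquiv R n c F K).symm : (MvPolynomial (Fin n) K ⧸ I) →+*
        K ⊗[R] _root_.Synt.RelGCIRing R n c F) (Ideal.Quotient.mk I (φK x)) =
        (1 : K) ⊗ₜ[R] (Ideal.Quotient.mk J x) := by
      show (fiberEquiv R n c F K).symm (Ideal.Quotient.mk I (φK x)) = _
      rw [AlgEquiv.symm_apply_eq, fiberEquiv_tmul_mk, one_smul]
    rw [h1]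
    have h2 : ((1 : K) ⊗ₜ[R] (Ideal.Quotient.mk J x) : K ⊗[R] _root_.Synt.RelGCIRing R n c F) ∈ Q' ↔
        Ideal.Quotient.mk J x ∈ qS := by
      rw [← hQ']
      rfl
    rw [h2, ← hqScomap]
    rfl
  -- the ring isomorphism
  have hden := exists_denominators_map_residueField R (Fin n) p
  let e := quotLocEquiv φK (q.comap (Ideal.Quotient.mk I)) q' hcomap hden
  have he : ∀ x, e (Ideal.Quotient.mk _ (algebraMap _ (Localization.AtPrime q') x)) =
      algebraMap _ (Localization.AtPrime (q.comap (Ideal.Quotient.mk I))) (φK x) :=
    quotLocEquiv_mk φK (q.comap (Ideal.Quotient.mk I)) q' hcomap hden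
  -- the field case
  have hc := height_comap_eq K n I q r hI (n - c) hd (by omega)
  have hreg := isRegular_of_ofList_eq K n I q c hc
    (List.ofFn fun i => algebraMap (MvPolynomial (Fin n) K)
      (Localization.AtPrime (q.comap (Ideal.Quotient.mk I))) (r i)) (by simp)
    (ofList_ofFn_map K n I q r hI)
  have hker : RingHom.ker φK = p.map (MvPolynomial.C) := by
    rw [hφK, MvPolynomial.ker_map]
    congr 1
    exact Ideal.ker_algebraMap_residueField p
  have hideal : (p.map (algebraMap R (Localization.AtPrime q'))) =
      (RingHom.ker φK).map (algebraMap (MvPolynomial (Fin n) R) (Localization.AtPrime q')) := by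
    rw [hker, Ideal.map_map]
    rfl
  let e' := (Ideal.quotEquivOfEq hideal).trans e
  have he' : ∀ x, e' (Ideal.Quotient.mk _ (algebraMap _ (Localization.AtPrime q') x)) =
      algebraMap _ (Localization.AtPrime (q.comap (Ideal.Quotient.mk I))) (φK x) := by
    intro x
    rw [show e' = (Ideal.quotEquivOfEq hideal).trans e from rfl, RingEquiv.trans_apply,
      Ideal.quotEquivOfEq_mk]
    exact he x
  have h1 := Groth.Agent.Lib.Helper4.RegPres1.isWeaklyRegular_map_ringEquiv
    (R := Localization.AtPrime (q.comap (Ideal.Quotient.mk I)))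
    (S := Localization.AtPrime q' ⧸ p.map (algebraMap R (Localization.AtPrime q'))) e'.symm _
    hreg.toIsWeaklyRegular
  have hl : (((List.ofFn F).map (algebraMap (MvPolynomial (Fin n) R) (Localization.AtPrime q'))).map
        (Ideal.Quotient.mk (p.map (algebraMap R (Localization.AtPrime q'))))) =
      (List.ofFn fun i => algebraMap (MvPolynomial (Fin n) K)
        (Localization.AtPrime (q.comap (Ideal.Quotient.mk I))) (r i)).map e'.symm := by
    rw [List.map_map, List.map_ofFn, List.map_ofFn]
    congr 1
    funext i
    simp only [Function.comp_apply]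
    rw [RingEquiv.eq_symm_apply]
    exact he' (F i)
  rw [hl]
  exact h1

end FibreRegular

section NoethLocal

variable (R : Type u) [CommRing R] [IsNoetherianRing R] (n c : ℕ)
  (F : Fin c → MvPolynomial (Fin n) R)
  (q' : Ideal (MvPolynomial (Fin n) R)) [q'.IsPrime]

open IsLocalRing in
/-- **Noetherian local case**: the relations form a regular sequence at a prime whose fibre has
the expected dimension, and the successive quotients are flat over the base. -/
theorem isWeaklyRegular_and_flat_of_noetherian (hq' : Ideal.span (Set.range F) ≤ q') (hcn : c ≤ n)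
    (hdim : ringKrullDim ((q'.comap (algebraMap R (MvPolynomial (Fin n) R))).Fiber
      (_root_.Synt.RelGCIRing R n c F)) = ((n - c : ℕ) : WithBot ℕ∞)) :
    IsWeaklyRegular (Localization.AtPrime q')
        ((List.ofFn F).map (algebraMap (MvPolynomial (Fin n) R) (Localization.AtPrime q'))) ∧
      ∀ i ≤ c, Module.Flat R (Localization.AtPrime q' ⧸ Ideal.ofList
        (((List.ofFn F).map
          (algebraMap (MvPolynomial (Fin n) R) (Localization.AtPrime q'))).take i)) := by
  set p := q'.comap (algebraMap R (MvPolynomial (Fin n) R)) with hp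
  haveI : q'.LiesOver p := ⟨rfl⟩
  letI := Localization.AtPrime.algebraOfLiesOver p q'
  haveI : IsLocalHom (algebraMap (Localization.AtPrime p) (Localization.AtPrime q')) := by
    rw [RingHom.algebraMap_toAlgebra]
    exact Localization.isLocalHom_localRingHom _ q' (algebraMap R _) Ideal.LiesOver.over
  have hideal : (maximalIdeal (Localization.AtPrime p)).map
      (algebraMap (Localization.AtPrime p) (Localization.AtPrime q')) =
      p.map (algebraMap R (Localization.AtPrime q')) := by
    rw [← Localization.AtPrime.map_eq_maximalIdeal, Ideal.map_map,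
      ← IsScalarTower.algebraMap_eq]
  set bs := (List.ofFn F).map (algebraMap (MvPolynomial (Fin n) R) (Localization.AtPrime q'))
    with hbs
  have h0 := isWeaklyRegular_fibre_quot R n c F q' hq' hcn hdim
  -- to the module statement
  have h1 : IsWeaklyRegular
      (Localization.AtPrime q' ⧸ p.map (algebraMap R (Localization.AtPrime q'))) bs :=
    (isWeaklyRegular_map_algebraMap_iff
      (Localization.AtPrime q' ⧸ p.map (algebraMap R (Localization.AtPrime q'))) _ bs).mp h0
  have hsm : ∀ I : Ideal (Localization.AtPrime q'),
      (I • ⊤ : Submodule (Localization.AtPrime q') (Localization.AtPrime q')) = I := by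
    intro I
    rw [smul_eq_mul, Ideal.mul_top]
  have h2 : IsWeaklyRegular (Localization.AtPrime q' ⧸
      ((maximalIdeal (Localization.AtPrime p)).map
        (algebraMap (Localization.AtPrime p) (Localization.AtPrime q')) •
        (⊤ : Submodule (Localization.AtPrime q') (Localization.AtPrime q')))) bs := by
    refine (LinearEquiv.isWeaklyRegular_congr (Submodule.quotEquivOfEq _ _ ?_) bs).mp h1
    rw [hsm, hideal]
  obtain ⟨h3, h4⟩ := Groth.Agent.Helper8.FlatReg.isWeaklyRegular_and_flat_of_fibre
    (A := Localization.AtPrime p) bs (Localization.AtPrime q') h2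
  refine ⟨h3, fun i hi => ?_⟩
  have h5 := h4 i (by rw [hbs, List.length_map, List.length_ofFn]; exact hi)
  have h6 : Module.Flat R (Localization.AtPrime q' ⧸ (Ideal.ofList (bs.take i) •
      (⊤ : Submodule (Localization.AtPrime q') (Localization.AtPrime q')))) :=
    Module.Flat.trans R (Localization.AtPrime p) _
  exact Module.Flat.of_linearEquiv
    ((Submodule.quotEquivOfEq _ _ (hsm (Ideal.ofList (bs.take i)))).restrictScalars R).symm

end NoethLocal

end Groth.Agent.Helper2.Synt
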