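import Mathlib
import Groth.Agent.Lib.Helper2.Synt.BaseChangeQuot
import Groth.Agent.Lib.Helper2.Synt.RelLocalNoeth
import Groth.Agent.Lib.Helper4.RegSpread1

set_option autoImplicit false
set_option linter.style.haveILetI false
set_option linter.unusedSectionVars false
universe u

namespace Groth.Agent.Helper2.Synt

open TensorProduct MvPolynomial RingTheory.Sequence

section QuotTensor

variable (R₀ R : Type u) [CommRing R₀] [CommRing R] [Algebra R₀ R] (σ : Type*)
  (J₀ : Ideal (MvPolynomial σ R₀))

theorem map_includeRight_map_algebraTensorAlgEquiv :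
    J₀.map (MvPolynomial.map (algebraMap R₀ R)) =
    (J₀.map (Algebra.TensorProduct.includeRight (R := R₀) (A := R)
      (B := MvPolynomial σ R₀))).map
      (MvPolynomial.algebraTensorAlgEquiv (σ := σ) R₀ R : R ⊗[R₀] MvPolynomial σ R₀ →+*
        MvPolynomial σ R) := by
  rw [← Ideal.map_coe (Algebra.TensorProduct.includeRight (R := R₀) (A := R)
      (B := MvPolynomial σ R₀)), Ideal.map_map]
  congr 1
  ext x
  · simp
  · simp

/-- base change of a quotient of a polynomial ring -/
noncomputable def quotTensorEquiv :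
    R ⊗[R₀] (MvPolynomial σ R₀ ⧸ J₀) ≃ₐ[R]
      MvPolynomial σ R ⧸ J₀.map (MvPolynomial.map (algebraMap R₀ R)) :=
  (Algebra.TensorProduct.tensorQuotientEquiv (R := R₀) R (MvPolynomial σ R₀) R J₀).trans
    (Ideal.quotientEquivAlg _ _ (MvPolynomial.algebraTensorAlgEquiv (σ := σ) R₀ R)
      (map_includeRight_map_algebraTensorAlgEquiv R₀ R σ J₀))

theorem quotTensorEquiv_tmul_mk (a : R) (f : MvPolynomial σ R₀) :
    quotTensorEquiv R₀ R σ J₀ (a ⊗ₜ Ideal.Quotient.mk J₀ f) =
      Ideal.Quotient.mk _ (algebraMap R (MvPolynomial σ R) a *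
        MvPolynomial.map (algebraMap R₀ R) f) := by
  simp [quotTensorEquiv, Algebra.smul_def]

end QuotTensor

section ListBC

variable (R₀ R : Type u) [CommRing R₀] [CommRing R] [Algebra R₀ R] (n : ℕ)
  (fs : List (MvPolynomial (Fin n) R₀)) (q' : Ideal (MvPolynomial (Fin n) R)) [q'.IsPrime]

theorem ofList_take_succ {A : Type*} [CommRing A] (l : List A) (i : ℕ) (hi : i < l.length) :
    Ideal.ofList (l.take (i + 1)) = Ideal.ofList (l.take i) ⊔ Ideal.span {l[i]} := by
  rw [List.take_succ_eq_append_getElem hi, Ideal.ofList_append, Ideal.ofList_singleton]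

/-- **Base change of a regular sequence with flat quotients** from a localization of a polynomial
ring to the corresponding localization over a bigger base ring. -/
theorem isWeaklyRegular_and_flat_baseChange
    (h : IsWeaklyRegular
        (Localization.AtPrime (q'.comap (MvPolynomial.map (σ := Fin n) (algebraMap R₀ R))))
        (fs.map (algebraMap (MvPolynomial (Fin n) R₀)
          (Localization.AtPrime (q'.comap (MvPolynomial.map (σ := Fin n) (algebraMap R₀ R)))))) ∧
      ∀ i ≤ fs.length, Module.Flat R₀
        (Localization.AtPrime (q'.comap (MvPolynomial.map (σ := Fin n) (algebraMap R₀ R))) ⧸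
          Ideal.ofList ((fs.map (algebraMap (MvPolynomial (Fin n) R₀)
          (Localization.AtPrime (q'.comap (MvPolynomial.map (σ := Fin n)
            (algebraMap R₀ R)))))).take i))) :
    IsWeaklyRegular (Localization.AtPrime q')
        ((fs.map (MvPolynomial.map (algebraMap R₀ R))).map
          (algebraMap (MvPolynomial (Fin n) R) (Localization.AtPrime q'))) ∧
      ∀ i ≤ fs.length, Module.Flat R (Localization.AtPrime q' ⧸
        Ideal.ofList (((fs.map (MvPolynomial.map (algebraMap R₀ R))).map
          (algebraMap (MvPolynomial (Fin n) R) (Localization.AtPrime q'))).take i)) := by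
  set φ : MvPolynomial (Fin n) R₀ →+* MvPolynomial (Fin n) R :=
    MvPolynomial.map (algebraMap R₀ R) with hφ
  set B₀ := Localization.AtPrime (q'.comap φ) with hB₀
  set B := Localization.AtPrime q' with hB
  obtain ⟨h1, h2⟩ := h
  have hJ₀ : ∀ i, (Ideal.ofList (fs.take i)).map (algebraMap (MvPolynomial (Fin n) R₀) B₀) =
      Ideal.ofList ((fs.map (algebraMap (MvPolynomial (Fin n) R₀) B₀)).take i) := by
    intro i
    rw [Ideal.map_ofList, List.map_take]
  have hJ : ∀ i, ((Ideal.ofList (fs.take i)).map φ).map (algebraMap (MvPolynomial (Fin n) R) B) =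
      Ideal.ofList (((fs.map φ).map (algebraMap (MvPolynomial (Fin n) R) B)).take i) := by
    intro i
    rw [Ideal.map_ofList, Ideal.map_ofList, List.map_take, List.map_take]
  have he : ∀ (J₀ : Ideal (MvPolynomial (Fin n) R₀)) (a : R) (f : MvPolynomial (Fin n) R₀),
      (quotTensorEquiv R₀ R (Fin n) J₀).toRingEquiv (a ⊗ₜ Ideal.Quotient.mk J₀ f) =
        Ideal.Quotient.mk (J₀.map φ) (algebraMap R (MvPolynomial (Fin n) R) a * φ f) :=
    fun J₀ a f => quotTensorEquiv_tmul_mk R₀ R (Fin n) J₀ a f
  constructor
  · rw [Groth.Agent.Lib.Helper4.RegSpread1.isWeaklyRegular_iff_elementwise] at h1 ⊢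
    intro i hi x hx
    rw [List.length_map, List.length_map] at hi
    have hi' : i < (fs.map (algebraMap (MvPolynomial (Fin n) R₀) B₀)).length := by
      rw [List.length_map]; exact hi
    have hreg := h1 i hi'
    have hfl := h2 (i + 1) hi
    rw [ofList_take_succ _ i hi', ← hJ₀, List.getElem_map] at hfl
    rw [← hJ₀, List.getElem_map] at hreg
    rw [← hJ, List.getElem_map, List.getElem_map] at hx
    rw [← hJ]
    exact regular_quot_of_baseChange R₀ R (MvPolynomial (Fin n) R₀) (MvPolynomial (Fin n) R) φ
      (Ideal.ofList (fs.take i)) (quotTensorEquiv R₀ R (Fin n) _).toRingEquiv (he _) q' B₀ B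
      fs[i] hreg hfl x hx
  · intro i hi
    have hfl := h2 i hi
    rw [← hJ₀] at hfl
    rw [← hJ]
    exact flat_quot_of_baseChange R₀ R (MvPolynomial (Fin n) R₀) (MvPolynomial (Fin n) R) φ
      (Ideal.ofList (fs.take i)) (quotTensorEquiv R₀ R (Fin n) _).toRingEquiv (he _) q' B₀ B

end ListBC

end Groth.Agent.Helper2.Synt
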