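import Mathlib
import Groth.Agent.Lib.Helper2.Synt.RelApprox
import Groth.Agent.Lib.Helper2.Synt.RelBaseChange

set_option autoImplicit false
set_option linter.style.haveILetI false
set_option linter.unusedSectionVars false
universe u

namespace Groth.Agent.Helper2.Synt

open TensorProduct MvPolynomial RingTheory.Sequence

section Main

variable (R : Type u) [CommRing R] (n c : ℕ) (F : Fin c → MvPolynomial (Fin n) R)
  (q' : Ideal (MvPolynomial (Fin n) R)) [q'.IsPrime]

/-- **Main local theorem**: over an arbitrary base ring, at a prime containing the relations whose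
fibre has the expected dimension, the relations form a (weakly) regular sequence in the local ring
of the polynomial ring and the successive quotients are flat over the base. -/
theorem isWeaklyRegular_and_flat_of_fibre_dim (hq' : Ideal.span (Set.range F) ≤ q') (hcn : c ≤ n)
    (hdim : ringKrullDim ((q'.comap (algebraMap R (MvPolynomial (Fin n) R))).Fiber
      (_root_.Synt.RelGCIRing R n c F)) = ((n - c : ℕ) : WithBot ℕ∞)) :
    IsWeaklyRegular (Localization.AtPrime q')
        ((List.ofFn F).map (algebraMap (MvPolynomial (Fin n) R) (Localization.AtPrime q'))) ∧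
      ∀ i ≤ c, Module.Flat R (Localization.AtPrime q' ⧸ Ideal.ofList
        (((List.ofFn F).map
          (algebraMap (MvPolynomial (Fin n) R) (Localization.AtPrime q'))).take i)) := by
  obtain ⟨R₀, F₀, hft, hF₀⟩ := exists_finiteType_descent R (Fin n) F
  haveI : IsNoetherianRing R₀ := Algebra.FiniteType.isNoetherianRing ℤ R₀
  have hF : F = mapRel R₀ n c F₀ R := by
    funext i
    exact (hF₀ i).symm
  subst hF
  set φ : MvPolynomial (Fin n) R₀ →+* MvPolynomial (Fin n) R :=
    MvPolynomial.map (algebraMap R₀ R) with hφ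
  have hq₀' : Ideal.span (Set.range F₀) ≤ q'.comap φ := by
    rw [Ideal.span_le]
    rintro _ ⟨i, rfl⟩
    exact hq' (Ideal.subset_span ⟨i, rfl⟩)
  have key : ∀ (I I' : Ideal R₀) [I.IsPrime] [I'.IsPrime], I = I' →
      ringKrullDim (I.Fiber (_root_.Synt.RelGCIRing R₀ n c F₀)) =
        ringKrullDim (I'.Fiber (_root_.Synt.RelGCIRing R₀ n c F₀)) := by
    intro I I' _ _ h
    subst h
    rfl
  have hp₀ : (q'.comap φ).comap (algebraMap R₀ (MvPolynomial (Fin n) R₀)) =
      (q'.comap (algebraMap R (MvPolynomial (Fin n) R))).comap (algebraMap R₀ R) := by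
    rw [Ideal.comap_comap, Ideal.comap_comap]
    congr 1
    ext a
    simp [hφ]
  have hdim₀ : ringKrullDim (((q'.comap φ).comap (algebraMap R₀ (MvPolynomial (Fin n) R₀))).Fiber
      (_root_.Synt.RelGCIRing R₀ n c F₀)) = ((n - c : ℕ) : WithBot ℕ∞) := by
    rw [key _ _ hp₀, ringKrullDim_fiber_descent R₀ R n c F₀, hdim]
  have h0 := isWeaklyRegular_and_flat_of_noetherian R₀ n c F₀ (q'.comap φ) hq₀' hcn hdim₀
  have h1 := isWeaklyRegular_and_flat_baseChange R₀ R n (List.ofFn F₀) q'
    ⟨h0.1, fun i hi => h0.2 i (by simpa using hi)⟩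
  have hl : (List.ofFn F₀).map φ = List.ofFn (mapRel R₀ n c F₀ R) := by
    rw [List.map_ofFn]
    rfl
  rw [hl] at h1
  exact ⟨h1.1, fun i hi => h1.2 i (by simpa using hi)⟩

end Main

end Groth.Agent.Helper2.Synt
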