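import Mathlib
import Groth.Agent.Lib.Helper2.Synt.RelLocalMain
import Groth.Agent.Lib.Lead.LciDesc2
import Groth.Agent.Lib.Helper8.Koszul6

set_option autoImplicit false
set_option linter.style.haveILetI false
set_option linter.unusedSectionVars false
universe u

namespace Groth.Agent.Helper2.Synt

open TensorProduct MvPolynomial RingTheory.Sequence

section RelGCI

variable (R : Type u) [CommRing R] (n c : ℕ) (F : Fin c → MvPolynomial (Fin n) R)
  (q' : Ideal (MvPolynomial (Fin n) R)) [q'.IsPrime]

/-- a prime containing the relations gives a point of the fibre over its contraction -/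
theorem nontrivial_fiber_of_le (hq' : Ideal.span (Set.range F) ≤ q') :
    Nontrivial ((q'.comap (algebraMap R (MvPolynomial (Fin n) R))).Fiber
      (_root_.Synt.RelGCIRing R n c F)) := by
  set p := q'.comap (algebraMap R (MvPolynomial (Fin n) R)) with hp
  set J := Ideal.span (Set.range F) with hJ
  set qS : Ideal (_root_.Synt.RelGCIRing R n c F) := q'.map (Ideal.Quotient.mk J) with hqS
  have hqScomap : qS.comap (Ideal.Quotient.mk J) = q' := by
    rw [hqS, Ideal.comap_map_of_surjective _ Ideal.Quotient.mk_surjective]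
    apply sup_eq_left.mpr
    rw [← RingHom.ker_eq_comap_bot, Ideal.mk_ker]
    exact hq'
  haveI hqSprime : qS.IsPrime :=
    Ideal.map_isPrime_of_surjective Ideal.Quotient.mk_surjective (by rw [Ideal.mk_ker]; exact hq')
  have hover : qS.comap (algebraMap R (_root_.Synt.RelGCIRing R n c F)) = p := by
    rw [hp, ← hqScomap, Ideal.comap_comap]
    rfl
  obtain ⟨Q', hQ'prime, -⟩ := Groth.Agent.Helper8.Fib.exists_fiber_prime p qS hover
  by_contra hnt
  rw [not_nontrivial_iff_subsingleton] at hnt
  exact hQ'prime.ne_top (Subsingleton.elim _ _)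

/-- the hypotheses of the main local theorem hold for a relative global complete intersection -/
theorem fibre_dim_of_isRelGCI (h : _root_.Synt.IsRelGCI R n c F)
    (hq' : Ideal.span (Set.range F) ≤ q') :
    c ≤ n ∧ ringKrullDim ((q'.comap (algebraMap R (MvPolynomial (Fin n) R))).Fiber
      (_root_.Synt.RelGCIRing R n c F)) = ((n - c : ℕ) : WithBot ℕ∞) :=
  h ⟨q'.comap (algebraMap R (MvPolynomial (Fin n) R)), inferInstance⟩
    (nontrivial_fiber_of_le R n c F q' hq')

/-- S9170, parts (1) and (2) -/
theorem isRegular_and_flat_of_isRelGCI (h : _root_.Synt.IsRelGCI R n c F)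
    (hq' : Ideal.span (Set.range F) ≤ q') :
    IsRegular (Localization.AtPrime q')
        ((List.ofFn F).map (algebraMap (MvPolynomial (Fin n) R) (Localization.AtPrime q'))) ∧
      ∀ i ≤ c, Module.Flat R (Localization.AtPrime q' ⧸ Ideal.ofList
        (((List.ofFn F).take i).map
          (algebraMap (MvPolynomial (Fin n) R) (Localization.AtPrime q')))) := by
  obtain ⟨hcn, hdim⟩ := fibre_dim_of_isRelGCI R n c F q' h hq'
  obtain ⟨h1, h2⟩ := isWeaklyRegular_and_flat_of_fibre_dim R n c F q' hq' hcn hdim
  refine ⟨⟨h1, ?_⟩, fun i hi => ?_⟩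
  · intro htop
    have h3 : Ideal.ofList ((List.ofFn F).map
        (algebraMap (MvPolynomial (Fin n) R) (Localization.AtPrime q'))) = ⊤ := by
      simpa using htop.symm
    have h4 : Ideal.ofList ((List.ofFn F).map
        (algebraMap (MvPolynomial (Fin n) R) (Localization.AtPrime q'))) ≤
        IsLocalRing.maximalIdeal (Localization.AtPrime q') := by
      rw [Ideal.ofList, Ideal.span_le]
      intro x hx
      rw [Set.mem_ofPred_eq, List.mem_map] at hx
      obtain ⟨f, hf, rfl⟩ := hx
      rw [List.mem_ofFn] at hf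
      obtain ⟨i, rfl⟩ := hf
      exact (IsLocalization.AtPrime.to_map_mem_maximal_iff _ q' _).mpr
        (hq' (Ideal.subset_span ⟨i, rfl⟩))
    rw [h3] at h4
    exact (IsLocalRing.maximalIdeal.isMaximal _).ne_top (top_le_iff.mp h4)
  · rw [List.map_take]
    exact h2 i hi

/-- S9254 -/
theorem isKoszulRegularSeq_of_isRelGCI (h : _root_.Synt.IsRelGCI R n c F) :
    LCI.IsKoszulRegularSeq (MvPolynomial (Fin n) R) (List.ofFn F) := by
  apply Groth.Agent.Lead.LciDesc.kr_of_forall_krAt
  intro m hm
  unfold Groth.Agent.Lead.LciDesc.KRAt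
  by_cases hle : Ideal.span (Set.range F) ≤ m
  · have h1 := (isRegular_and_flat_of_isRelGCI R n c F m h hle).1.toIsWeaklyRegular
    exact (Groth.Agent.Helper8.KoszulLib.koszul_regular _ h1).1
  · apply Groth.Agent.Lead.LciDesc.kr_of_ofList_eq_top
    rw [Ideal.span_le] at hle
    obtain ⟨x, ⟨i, rfl⟩, hx⟩ := Set.not_subset.mp hle
    have hu : IsUnit (algebraMap (MvPolynomial (Fin n) R) (Localization.AtPrime m) (F i)) :=
      IsLocalization.map_units (Localization.AtPrime m) (⟨F i, hx⟩ : m.primeCompl)
    apply Ideal.eq_top_of_isUnit_mem _ _ hu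
    apply Ideal.subset_span
    rw [Set.mem_ofPred_eq, List.mem_map]
    exact ⟨F i, (List.mem_ofFn).mpr ⟨i, rfl⟩, rfl⟩

end RelGCI

end Groth.Agent.Helper2.Synt
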