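import Mathlib
import Groth.Agent.Lib.Helper4.Chev1
import Groth.Agent.Lib.Helper4.Chev2

/-!
# Ring-level semicontinuity of fibre dimension: elements with fibrewise small localizations
-/

set_option autoImplicit false
universe u

namespace Groth.Agent.Helper2.Synt

open TensorProduct

/-- dimension of a basic open covered by basic opens of bounded dimension -/
theorem ringKrullDim_away_le_of_mem_span {T : Type u} [CommRing T] {ι : Type*} (γ : T)
    (δ : ι → T) (hγ : γ ∈ Ideal.span (Set.range δ)) (d : WithBot ℕ∞)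
    (h : ∀ i, ringKrullDim (Localization.Away (δ i)) ≤ d) :
    ringKrullDim (Localization.Away γ) ≤ d := by
  rw [ringKrullDim_le_iff_height_le]
  intro P hP
  -- the prime of `T` below `P`
  set p := P.under T with hp
  have hpP : p.height = P.height := IsLocalization.height_under (Submonoid.powers γ) P
  have hγp : γ ∉ p := by
    intro hmem
    have : algebraMap T (Localization.Away γ) γ ∈ P := hmem
    exact hP.ne_top (Ideal.eq_top_of_isUnit_mem _ this (IsLocalization.Away.algebraMap_isUnit γ))
  obtain ⟨i, hi⟩ : ∃ i, δ i ∉ p := by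
    by_contra hcon
    push Not at hcon
    apply hγp
    have hle : Ideal.span (Set.range δ) ≤ p := by
      rw [Ideal.span_le]
      rintro _ ⟨i, rfl⟩
      exact hcon i
    exact hle hγ
  have : p.IsPrime := Ideal.comap_isPrime _ _
  have hdisj : Disjoint (Submonoid.powers (δ i) : Set T) (p : Set T) := by
    rw [Set.disjoint_left]
    rintro _ ⟨m, rfl⟩ hm
    exact hi (Ideal.IsPrime.mem_of_pow_mem inferInstance m hm)
  have h1 := IsLocalization.height_map_of_disjoint (S := Localization.Away (δ i))
    (Submonoid.powers (δ i)) p hdisj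
  have : (p.map (algebraMap T (Localization.Away (δ i)))).IsPrime :=
    IsLocalization.isPrime_of_isPrime_disjoint (Submonoid.powers (δ i)) _ p inferInstance hdisj
  have h2 := (ringKrullDim_le_iff_height_le d).mp (h i)
    (inferInstance : (p.map (algebraMap T (Localization.Away (δ i)))).IsPrime)
  rw [h1, hpP] at h2
  exact h2

variable (R S : Type u) [CommRing R] [CommRing S] [Algebra R S]

/-- all fibres of `S_g` over `R` have dimension at most `d` -/
def FibreDimLE (d : ℕ) (g : S) : Prop :=
  ∀ (p : Ideal R) [p.IsPrime], ringKrullDim (p.Fiber (Localization.Away g)) ≤ (d : WithBot ℕ∞)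

variable {R S}

theorem fibreDimLE_iff {d : ℕ} {g : S} :
    FibreDimLE R S d g ↔ ∀ (p : Ideal R) [p.IsPrime],
      ringKrullDim (Localization.Away ((1 : p.ResidueField) ⊗ₜ[R] g : p.Fiber S)) ≤
        (d : WithBot ℕ∞) := by
  constructor
  · intro h p _
    rw [← ringKrullDim_eq_of_ringEquiv (IsLocalization.Away.tensorProductEquivTMulRight R
      p.ResidueField g (Localization.Away g)).toRingEquiv]
    exact h p
  · intro h p _
    have := h p
    rwa [← ringKrullDim_eq_of_ringEquiv (IsLocalization.Away.tensorProductEquivTMulRight R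
      p.ResidueField g (Localization.Away g)).toRingEquiv] at this

/-- the elements with fibrewise small localizations form an ideal-like set -/
theorem fibreDimLE_of_mem_span {d : ℕ} {g : S}
    (hg : g ∈ Ideal.span {g' : S | FibreDimLE R S d g'}) : FibreDimLE R S d g := by
  rw [fibreDimLE_iff]
  intro p _
  refine ringKrullDim_away_le_of_mem_span (T := p.Fiber S) _
    (fun i : {g' : S // FibreDimLE R S d g'} => ((1 : p.ResidueField) ⊗ₜ[R] i.1 : p.Fiber S)) ?_ _
    (fun i => fibreDimLE_iff.mp i.2 p)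
  have h1 : (Algebra.TensorProduct.includeRight : S →ₐ[R] p.Fiber S) g ∈
      (Ideal.span {g' : S | FibreDimLE R S d g'}).map
        (Algebra.TensorProduct.includeRight : S →ₐ[R] p.Fiber S) :=
    Ideal.mem_map_of_mem _ hg
  rw [Ideal.map_span] at h1
  refine Ideal.span_mono ?_ h1
  rintro _ ⟨g', hg', rfl⟩
  exact ⟨⟨g', hg'⟩, rfl⟩

/-- **Semicontinuity of the fibre dimension, at a point of a fibre.** -/
theorem exists_fibreDimLE_notMem_fiber [Algebra.FiniteType R S] (p : Ideal R) [p.IsPrime]
    (Q : PrimeSpectrum (p.Fiber S)) (d : ℕ)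
    (hd : ringKrullDim (p.Fiber S) ≤ (d : WithBot ℕ∞)) :
    ∃ g : S, FibreDimLE R S d g ∧ ((1 : p.ResidueField) ⊗ₜ[R] g : p.Fiber S) ∉ Q.asIdeal := by
  have hq := ((PrimeSpectrum.primesOverOrderIsoFiber R S p).symm Q).2
  rw [PrimeSpectrum.coe_primesOverOrderIsoFiber_symm_apply] at hq
  haveI hq1 : (Q.asIdeal.comap (Algebra.TensorProduct.includeRight :
      S →ₐ[R] p.Fiber S).toRingHom).IsPrime := hq.1
  haveI hq2 : (Q.asIdeal.comap (Algebra.TensorProduct.includeRight :
      S →ₐ[R] p.Fiber S).toRingHom).LiesOver p := hq.2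
  obtain ⟨e, he⟩ := Groth.Agent.Lib.Helper4.Chev2.exists_nat_localDim_eq p.ResidueField
    (p.Fiber S) Q
  have hle : (e : WithBot ℕ∞) ≤ d := by
    rw [← he]
    refine (Groth.Agent.Lib.Helper4.Chev2.localDim_le_topologicalKrullDim Q).trans ?_
    rw [PrimeSpectrum.topologicalKrullDim_eq_ringKrullDim]
    exact hd
  obtain ⟨g, hg, φ, -, hφ⟩ := Groth.Agent.Lib.Helper4.Chev1.S9175_main R S p
    (Q.asIdeal.comap (Algebra.TensorProduct.includeRight : S →ₐ[R] p.Fiber S).toRingHom) Q rfl e he
  refine ⟨g, fun p' _ => ?_, hg⟩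
  exact (Groth.Agent.Lib.Helper4.Chev2.ringKrullDim_fiber_le_of_quasiFinite R _ e φ hφ p').trans hle

/-- **Semicontinuity of the fibre dimension, at a prime of `S`.** -/
theorem exists_fibreDimLE_notMem [Algebra.FiniteType R S] (q : Ideal S) [q.IsPrime] (d : ℕ)
    (hd : ringKrullDim ((q.under R).Fiber S) ≤ (d : WithBot ℕ∞)) :
    ∃ g : S, FibreDimLE R S d g ∧ g ∉ q := by
  let x : (q.under R).primesOver S := ⟨q, inferInstance, ⟨rfl⟩⟩
  let Q := PrimeSpectrum.primesOverOrderIsoFiber R S (q.under R) x
  have hQ : Q.asIdeal.comap (Algebra.TensorProduct.includeRight :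
      S →ₐ[R] (q.under R).Fiber S) = q := by
    have h1 := (PrimeSpectrum.primesOverOrderIsoFiber R S (q.under R)).symm_apply_apply x
    have h2 := congrArg Subtype.val h1
    rw [PrimeSpectrum.coe_primesOverOrderIsoFiber_symm_apply] at h2
    exact h2
  obtain ⟨g, hg, hgQ⟩ := exists_fibreDimLE_notMem_fiber (q.under R) Q d hd
  refine ⟨g, hg, fun hgq => hgQ ?_⟩
  rw [← hQ] at hgq
  exact hgq

end Groth.Agent.Helper2.Synt
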