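import Mathlib
import Groth.Agent.Lib.Helper2.Synt.AwayPres
import Groth.Agent.Lib.Helper2.Synt.RelGCI
import Groth.Agent.Lib.Helper2.Synt.RelSemicont

/-!
# Principal localizations of presented algebras which are relative global complete intersections
-/

set_option autoImplicit false
universe u

namespace Groth.Agent.Helper2.Synt

open TensorProduct MvPolynomial

variable (R : Type u) [CommRing R] (n c : ℕ) (F : Fin c → MvPolynomial (Fin n) R)
  (h : MvPolynomial (Fin n) R)

/-- the relations of the localized presentation, in the form of the statements -/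
noncomputable def awayRel' : Fin (c + 1) → MvPolynomial (Fin (n + 1)) R :=
  Fin.snoc (α := fun _ => MvPolynomial (Fin (n + 1)) R) (fun i => rename Fin.castSucc (F i))
    (rename Fin.castSucc h * X (Fin.last n) - 1)

theorem awayRel'_eq : awayRel' R n c F h = awayRel F h := by
  unfold awayRel' awayRel
  rw [mul_comm]

/-- the localization of the presented algebra at the class of `h` is the algebra presented by one
more variable and one more relation -/
noncomputable def awayEquivRelGCIRing :
    Localization.Away (Ideal.Quotient.mk (Ideal.span (Set.range F)) h) ≃ₐ[R]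
      _root_.Synt.RelGCIRing R (n + 1) (c + 1) (awayRel' R n c F h) :=
  let φ : MvPolynomial (Fin n) R →ₐ[R] _root_.Synt.RelGCIRing R n c F :=
    Ideal.Quotient.mkₐ R (Ideal.span (Set.range F))
  have hφ : Function.Surjective φ := Ideal.Quotient.mkₐ_surjective R _
  have hker : RingHom.ker φ = Ideal.span (Set.range F) := Ideal.Quotient.mkₐ_ker R _
  have hk := ker_awayHom φ F h (Localization.Away (φ h)) hφ hker
  ((Ideal.quotientKerAlgEquivOfSurjective
      (awayHom_surjective φ h (Localization.Away (φ h)) hφ)).symm.trans
    (Ideal.quotientEquivAlgOfEq R (hk.trans (by rw [awayRel'_eq]))))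

variable {R n c F h}

/-- if the localization has fibrewise small dimension, the localized presentation is a relative
global complete intersection -/
theorem isRelGCI_away_of_fibreDimLE (hcn : c ≤ n)
    (hg : FibreDimLE R (_root_.Synt.RelGCIRing R n c F) (n - c)
      (Ideal.Quotient.mk (Ideal.span (Set.range F)) h)) :
    _root_.Synt.IsRelGCI R (n + 1) (c + 1) (awayRel' R n c F h) := by
  refine isRelGCI_of_fibre_dim_le R (n + 1) (c + 1) _ (by omega) (fun p _ => ?_)
  have e : p.Fiber (Localization.Away (Ideal.Quotient.mk (Ideal.span (Set.range F)) h)) ≃ₐ[R]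
      p.Fiber (_root_.Synt.RelGCIRing R (n + 1) (c + 1) (awayRel' R n c F h)) :=
    Algebra.TensorProduct.congr AlgEquiv.refl (awayEquivRelGCIRing R n c F h)
  have he : ringKrullDim (p.Fiber (Localization.Away
      (Ideal.Quotient.mk (Ideal.span (Set.range F)) h))) =
      ringKrullDim (p.Fiber (_root_.Synt.RelGCIRing R (n + 1) (c + 1) (awayRel' R n c F h))) :=
    ringKrullDim_eq_of_ringEquiv e.toRingEquiv
  rw [← he]
  have : n + 1 - (c + 1) = n - c := by omega
  rw [this]
  exact hg p

end Groth.Agent.Helper2.Synt
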