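import Mathlib
import Groth.Agent.Lib.Helper2.Synt.RelSemicont
import Groth.Agent.Lib.Lead.LciDesc2

set_option autoImplicit false
set_option linter.style.haveILetI false
set_option linter.unusedSectionVars false
universe u

namespace Groth.Agent.Helper2.Synt

open TensorProduct

section LS

variable {R S : Type u} [CommRing R] [CommRing S] [Algebra R S]

/-- `FibreDimLE` transfers from an element of a principal localization to an element of the
ring -/
theorem fibreDimLE_mul_of_associated (d : ℕ) (g₀ z : S) (g'' : Localization.Away g₀)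
    (hass : Associated (algebraMap S (Localization.Away g₀) z) g'')
    (h : FibreDimLE R (Localization.Away g₀) d g'') : FibreDimLE R S d (g₀ * z) := by
  intro p _
  haveI : IsLocalization.Away (g₀ * z) (Localization.Away g'') :=
    IsLocalization.Away.mul_of_associated g₀ z g'' hass
  let e : Localization.Away (g₀ * z) ≃ₐ[S] Localization.Away g'' :=
    IsLocalization.algEquiv (Submonoid.powers (g₀ * z)) _ _
  let e' : p.Fiber (Localization.Away (g₀ * z)) ≃ₐ[p.ResidueField]
      p.Fiber (Localization.Away g'') :=
    Algebra.TensorProduct.congr AlgEquiv.refl (e.restrictScalars R)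
  have hdim : ringKrullDim (p.Fiber (Localization.Away (g₀ * z))) =
      ringKrullDim (p.Fiber (Localization.Away g'')) :=
    ringKrullDim_eq_of_ringEquiv e'.toRingEquiv
  rw [hdim]
  exact h p

/-- local form of the semicontinuity of fibre dimension -/
theorem exists_fibreDimLE_notMem_of_away [Algebra.FiniteType R S] (q : Ideal S) [q.IsPrime]
    (g₀ : S) (hg₀ : g₀ ∉ q) (d : ℕ)
    (hd : ringKrullDim ((q.under R).Fiber (Localization.Away g₀)) ≤ (d : WithBot ℕ∞)) :
    ∃ g : S, FibreDimLE R S d g ∧ g ∉ q := by
  obtain ⟨Q, hQ, hQq, hQeq⟩ := Groth.Agent.Lead.LciDesc.exists_prime_away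
    (S := Localization.Away g₀) g₀ q hg₀
  haveI : Algebra.FiniteType S (Localization.Away g₀) :=
    IsLocalization.finiteType_of_monoid_fg (Submonoid.powers g₀) _
  haveI : Algebra.FiniteType R (Localization.Away g₀) :=
    Algebra.FiniteType.trans (R := R) (S := S) (A := Localization.Away g₀) inferInstance
      inferInstance
  have hunder : Q.under R = q.under R := by
    have h1 : Q.under S = q := (hQq.over).symm
    rw [← h1]
    ext x
    simp only [Ideal.under, Ideal.mem_comap]
    rw [IsScalarTower.algebraMap_apply R S (Localization.Away g₀)]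
  have key : ∀ (I I' : Ideal R) [I.IsPrime] [I'.IsPrime], I = I' →
      ringKrullDim (I.Fiber (Localization.Away g₀)) =
        ringKrullDim (I'.Fiber (Localization.Away g₀)) := by
    intro I I' _ _ h
    subst h
    rfl
  haveI : (Q.under R).IsPrime := Ideal.comap_isPrime _ _
  have hd' : ringKrullDim ((Q.under R).Fiber (Localization.Away g₀)) ≤ (d : WithBot ℕ∞) := by
    rw [key _ _ hunder]
    exact hd
  obtain ⟨g'', hgood, hg''⟩ := exists_fibreDimLE_notMem (R := R) (S := Localization.Away g₀) Q d hd'
  obtain ⟨z, s, rfl⟩ := IsLocalization.exists_mk'_eq (Submonoid.powers g₀) g''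
  have hunit : IsUnit (algebraMap S (Localization.Away g₀) s.1) :=
    IsLocalization.map_units _ s
  have hass : Associated (algebraMap S (Localization.Away g₀) z)
      (IsLocalization.mk' (Localization.Away g₀) z s) := by
    refine Associated.symm ⟨hunit.unit, ?_⟩
    rw [IsUnit.unit_spec]
    exact IsLocalization.mk'_spec _ z s
  refine ⟨g₀ * z, fibreDimLE_mul_of_associated d g₀ z _ hass hgood, ?_⟩
  intro hmem
  rcases Ideal.IsPrime.mem_or_mem inferInstance hmem with h1 | h1
  · exact hg₀ h1
  · apply hg''
    have h2 : algebraMap S (Localization.Away g₀) z ∈ Q := by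
      rw [hQeq]
      exact Ideal.mem_map_of_mem _ h1
    rw [← IsLocalization.mk'_spec (Localization.Away g₀) z s] at h2
    rcases Ideal.IsPrime.mem_or_mem hQ h2 with h3 | h3
    · exact h3
    · exact absurd (Ideal.eq_top_of_isUnit_mem _ h3 hunit) hQ.ne_top

end LS

end Groth.Agent.Helper2.Synt
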