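import Mathlib
import Groth.Agent.Lib.Helper2.Synt.LocQuot
import Groth.Agent.Lib.Helper4.KosLift3

set_option autoImplicit false
set_option linter.style.haveILetI false
set_option linter.unusedSectionVars false
universe u

namespace Groth.Agent.Helper2.Synt

open IsLocalRing

section Gens

variable {P T : Type u} [CommRing P] [CommRing T] (φ : P →+* T) (I : Ideal P)
  (qb : Ideal T) [qb.IsPrime] (q' : Ideal P) [q'.IsPrime] (h : q' = qb.comap φ)
  (hden : ∀ t : T, ∃ a g : P, IsUnit (φ a) ∧ φ a * t = φ g)

theorem map_map_eq_map_localRingHom :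
    (I.map φ).map (algebraMap T (Localization.AtPrime qb)) =
      (I.map (algebraMap P (Localization.AtPrime q'))).map
        (Localization.localRingHom q' qb φ h) := by
  rw [Ideal.map_map, Ideal.map_map]
  congr 1
  ext x
  simp only [RingHom.comp_apply]
  rw [Localization.localRingHom_to_map]

include hden h in
/-- every element of the extended ideal downstairs is a unit multiple of the image of an element
of `I` -/
theorem exists_unit_mul_eq_of_mem (y : Localization.AtPrime qb)
    (hy : y ∈ (I.map φ).map (algebraMap T (Localization.AtPrime qb))) :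
    ∃ x ∈ I, ∃ u : Localization.AtPrime qb, IsUnit u ∧
      algebraMap T (Localization.AtPrime qb) (φ x) = u * y := by
  have hsurj := localRingHom_surjective_of_denominators φ qb q' h hden
  rw [map_map_eq_map_localRingHom φ I qb q' h,
    Ideal.mem_map_iff_of_surjective _ hsurj] at hy
  obtain ⟨b, hb, rfl⟩ := hy
  rw [IsLocalization.mem_map_algebraMap_iff q'.primeCompl] at hb
  obtain ⟨⟨x, t⟩, hxt⟩ := hb
  refine ⟨x.1, x.2, algebraMap T (Localization.AtPrime qb) (φ t.1), ?_, ?_⟩
  · apply IsLocalization.map_units _ (⟨φ t.1, ?_⟩ : qb.primeCompl)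
    intro hmem
    apply t.2
    have h2 : t.1 ∈ qb.comap φ := hmem
    rw [← h] at h2
    exact h2
  · have h1 := congrArg (Localization.localRingHom q' qb φ h) hxt
    rw [map_mul, Localization.localRingHom_to_map, Localization.localRingHom_to_map] at h1
    rw [← h1, mul_comm]

include hden h in
/-- generators of the extended ideal downstairs can be chosen as images of elements of `I` -/
theorem exists_generators_of_map [IsNoetherianRing T] (c₀ : ℕ)
    (hc₀ : ((I.map φ).map (algebraMap T (Localization.AtPrime qb))).spanFinrank = c₀) :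
    ∃ F : Fin c₀ → P, (∀ i, F i ∈ I) ∧
      Ideal.span (Set.range fun i => algebraMap T (Localization.AtPrime qb) (φ (F i))) =
        (I.map φ).map (algebraMap T (Localization.AtPrime qb)) := by
  classical
  set Jq := (I.map φ).map (algebraMap T (Localization.AtPrime qb)) with hJq
  haveI : IsNoetherianRing (Localization.AtPrime qb) :=
    IsLocalization.isNoetherianRing qb.primeCompl _ inferInstance
  have hfg : Jq.FG := (isNoetherianRing_iff_ideal_fg _).mp inferInstance _
  obtain ⟨s, hscard, hs⟩ := Submodule.FG.exists_span_finset_card_eq_spanFinrank hfg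
  rw [hc₀] at hscard
  let eqv := (Finset.equivFinOfCardEq hscard).symm
  have hmem : ∀ i : Fin c₀, ((eqv i : s) : Localization.AtPrime qb) ∈ Jq := by
    intro i
    rw [← hs]
    exact Ideal.subset_span (eqv i).2
  choose x hxI u hu hxu using fun i =>
    exists_unit_mul_eq_of_mem φ I qb q' h hden _ (hmem i)
  refine ⟨x, hxI, ?_⟩
  apply le_antisymm
  · rw [Ideal.span_le]
    rintro _ ⟨i, rfl⟩
    show algebraMap T (Localization.AtPrime qb) (φ (x i)) ∈ Jq
    rw [hxu i]
    exact Ideal.mul_mem_left _ _ (hmem i)
  · rw [← hs, Ideal.span_le]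
    intro y hy
    obtain ⟨i, hi⟩ := eqv.surjective ⟨y, hy⟩
    have hy' : y = ((eqv i : s) : Localization.AtPrime qb) := by rw [hi]
    have h2 : algebraMap T (Localization.AtPrime qb) (φ (x i)) ∈
        Ideal.span (Set.range fun i => algebraMap T (Localization.AtPrime qb) (φ (x i))) :=
      Ideal.subset_span ⟨i, rfl⟩
    rw [hxu i, ← hy'] at h2
    exact (Ideal.unit_mul_mem_iff_mem _ (hu i)).mp h2

end Gens

section Nak

variable (R : Type u) [CommRing R] {P T : Type u} [CommRing P] [CommRing T] [Algebra R P]
  (φ : P →+* T) (I : Ideal P)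
  (qb : Ideal T) [qb.IsPrime] (q' : Ideal P) [q'.IsPrime] (h : q' = qb.comap φ)
  (hden : ∀ t : T, ∃ a g : P, IsUnit (φ a) ∧ φ a * t = φ g)
  (p : Ideal R) (hker : RingHom.ker φ = p.map (algebraMap R P))

include hden hker h in
/-- **Nakayama with flatness**: elements of `I` whose images generate the extension of `I` to the
local ring of the fibre generate `I` in the local ring upstairs, if `I` is finitely generated and
the quotient local ring is flat over the base. -/
theorem map_eq_map_span_of_flat (hI : I.FG)
    [Module.Flat R (Localization.AtPrime q' ⧸ I.map (algebraMap P (Localization.AtPrime q')))]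
    {c : ℕ} (F : Fin c → P) (hF : ∀ i, F i ∈ I)
    (hgen : Ideal.span (Set.range fun i => algebraMap T (Localization.AtPrime qb) (φ (F i))) =
      (I.map φ).map (algebraMap T (Localization.AtPrime qb))) :
    I.map (algebraMap P (Localization.AtPrime q')) =
      (Ideal.span (Set.range F)).map (algebraMap P (Localization.AtPrime q')) := by
  set B := Localization.AtPrime q' with hB
  set ψ := Localization.localRingHom q' qb φ h with hψ
  have hsurj : Function.Surjective ψ := localRingHom_surjective_of_denominators φ qb q' h hden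
  have hkerψ : RingHom.ker ψ = p.map (algebraMap R B) := by
    rw [hψ, ker_localRingHom_of_denominators φ qb q' h hden, hker, Ideal.map_map,
      ← IsScalarTower.algebraMap_eq]
  set IB := I.map (algebraMap P B) with hIB
  set FB := (Ideal.span (Set.range F)).map (algebraMap P B) with hFB
  have hFI : FB ≤ IB := Ideal.map_mono (Ideal.span_le.mpr (by rintro _ ⟨i, rfl⟩; exact hF i))
  have hmapF : FB.map ψ = IB.map ψ := by
    rw [hFB, hIB, ← map_map_eq_map_localRingHom φ _ qb q' h,
      ← map_map_eq_map_localRingHom φ _ qb q' h, ← hgen, Ideal.map_span, Ideal.map_span,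
      ← Set.range_comp, ← Set.range_comp]
    rfl
  have h1 : IB ≤ FB ⊔ RingHom.ker ψ := by
    intro b hb
    have hb' : ψ b ∈ FB.map ψ := by
      rw [hmapF]
      exact Ideal.mem_map_of_mem ψ hb
    rw [Ideal.mem_map_iff_of_surjective ψ hsurj] at hb'
    obtain ⟨b', hb', hbb⟩ := hb'
    have : b = b' + (b - b') := by ring
    rw [this]
    refine Ideal.add_mem _ (Ideal.mem_sup_left hb') (Ideal.mem_sup_right ?_)
    rw [RingHom.mem_ker, map_sub, hbb, sub_self]
  have h2 : IB ⊓ p.map (algebraMap R B) ≤ p.map (algebraMap R B) * IB :=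
    Groth.Agent.Lib.Helper4.KosLift3.inf_map_le_mul_of_flat p IB
  have h3 : IB ≤ FB ⊔ p.map (algebraMap R B) • IB := by
    intro b hb
    obtain ⟨b', hb', c', hc', rfl⟩ := Submodule.mem_sup.mp (h1 hb)
    refine Ideal.add_mem _ (Ideal.mem_sup_left hb') (Ideal.mem_sup_right ?_)
    rw [smul_eq_mul]
    apply h2
    refine ⟨?_, hkerψ ▸ hc'⟩
    have : c' = (b' + c') - b' := by ring
    rw [this]
    exact Ideal.sub_mem _ hb (hFI hb')
  have hjac : p.map (algebraMap R B) ≤ Ideal.jacobson (⊥ : Ideal B) := by
    rw [IsLocalRing.jacobson_eq_maximalIdeal ⊥ bot_ne_top, ← hkerψ]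
    intro x hx
    rw [RingHom.mem_ker] at hx
    by_contra hxm
    have hu : IsUnit x := by
      by_contra hnu
      exact hxm ((IsLocalRing.mem_maximalIdeal x).mpr hnu)
    have := hu.map ψ
    rw [hx] at this
    exact not_isUnit_zero this
  exact le_antisymm (Submodule.le_of_le_smul_of_le_jacobson_bot (Ideal.FG.map hI _) hjac h3) hFI

end Nak

end Groth.Agent.Helper2.Synt
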