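import Mathlib
import Groth.Agent.Lib.Lead.LciDesc3

set_option autoImplicit false
set_option linter.style.haveILetI false
set_option linter.unusedSectionVars false
universe u

namespace Groth.Agent.Helper2.Synt

/-- if two ideals agree in the local ring at a prime and the bigger one is finitely generated,
a single element outside the prime moves the bigger one into the smaller one -/
theorem exists_mul_mem_of_map_le {P : Type u} [CommRing P] (I K : Ideal P) (hI : I.FG)
    (q' : Ideal P) [q'.IsPrime]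
    (h : I.map (algebraMap P (Localization.AtPrime q')) ≤
      K.map (algebraMap P (Localization.AtPrime q'))) :
    ∃ G₁, G₁ ∉ q' ∧ ∀ x ∈ I, G₁ * x ∈ K := by
  apply Groth.Agent.Lead.LciDesc.exists_mul_mem_of_fg I K hI q'
  intro x hx
  have h1 : algebraMap P (Localization.AtPrime q') x ∈
      K.map (algebraMap P (Localization.AtPrime q')) := h (Ideal.mem_map_of_mem _ hx)
  rw [IsLocalization.mem_map_algebraMap_iff q'.primeCompl] at h1
  obtain ⟨⟨y, t⟩, hyt⟩ := h1
  rw [← map_mul, IsLocalization.eq_iff_exists q'.primeCompl] at hyt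
  obtain ⟨s, hs⟩ := hyt
  refine ⟨s.1 * t.1, ?_, ?_⟩
  · intro hmem
    rcases Ideal.IsPrime.mem_or_mem inferInstance hmem with h2 | h2
    · exact s.2 h2
    · exact t.2 h2
  · have : s.1 * t.1 * x = s.1 * (x * t.1) := by ring
    rw [this, hs]
    exact Ideal.mul_mem_left _ _ y.2

section AwayQuot

variable (R : Type u) [CommRing R] {P : Type u} [CommRing P] [Algebra R P] (K I : Ideal P)
  (hKI : K ≤ I) (G G₁ : P) (hdvd : G₁ ∣ G) (hG₁ : ∀ x ∈ I, G₁ * x ∈ K)

include hdvd hG₁ in
/-- the localization of `P/I` at `G` is also the localization of `P/K` at `G`, when `I` becomes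
equal to `K` after inverting a divisor of `G` -/
theorem isLocalization_away_quotient_of_le :
    letI : Algebra (P ⧸ K) (Localization.Away (Ideal.Quotient.mk I G)) :=
      ((algebraMap (P ⧸ I) (Localization.Away (Ideal.Quotient.mk I G))).comp
        (Ideal.Quotient.factor hKI)).toAlgebra
    IsLocalization.Away (Ideal.Quotient.mk K G) (Localization.Away (Ideal.Quotient.mk I G)) := by
  letI alg : Algebra (P ⧸ K) (Localization.Away (Ideal.Quotient.mk I G)) :=
    ((algebraMap (P ⧸ I) (Localization.Away (Ideal.Quotient.mk I G))).comp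
      (Ideal.Quotient.factor hKI)).toAlgebra
  have halg : ∀ x : P, algebraMap (P ⧸ K) (Localization.Away (Ideal.Quotient.mk I G))
      (Ideal.Quotient.mk K x) = algebraMap (P ⧸ I) _ (Ideal.Quotient.mk I x) := fun x => rfl
  refine ⟨?_, ?_, ?_⟩
  · rintro ⟨_, k, rfl⟩
    simp only
    rw [← map_pow, halg, map_pow, map_pow]
    exact (IsLocalization.Away.algebraMap_isUnit (Ideal.Quotient.mk I G)).pow k
  · intro z
    obtain ⟨⟨a, ⟨_, k, rfl⟩⟩, hz⟩ := IsLocalization.surj (Submonoid.powers (Ideal.Quotient.mk I G)) z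
    obtain ⟨a', rfl⟩ := Ideal.Quotient.mk_surjective a
    refine ⟨⟨Ideal.Quotient.mk K a', ⟨Ideal.Quotient.mk K G ^ k, k, rfl⟩⟩, ?_⟩
    simp only at hz ⊢
    rw [← map_pow, halg, halg, map_pow]
    exact hz
  · intro a b hab
    obtain ⟨a', rfl⟩ := Ideal.Quotient.mk_surjective a
    obtain ⟨b', rfl⟩ := Ideal.Quotient.mk_surjective b
    rw [halg, halg, IsLocalization.eq_iff_exists (Submonoid.powers (Ideal.Quotient.mk I G))] at hab
    obtain ⟨⟨_, k, rfl⟩, hk⟩ := hab
    simp only at hk
    rw [← map_pow, ← map_mul, ← map_mul, Ideal.Quotient.eq] at hk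
    obtain ⟨d, rfl⟩ := hdvd
    refine ⟨⟨Ideal.Quotient.mk K (G₁ * d) ^ (k + 1), k + 1, rfl⟩, ?_⟩
    simp only
    rw [← map_pow, ← map_mul, ← map_mul, Ideal.Quotient.eq]
    have h1 := hG₁ _ hk
    have : (G₁ * d) ^ (k + 1) * a' - (G₁ * d) ^ (k + 1) * b' =
        d * (G₁ * ((G₁ * d) ^ k * a' - (G₁ * d) ^ k * b')) := by ring
    rw [this]
    exact Ideal.mul_mem_left _ _ h1

include hdvd hG₁ hKI in
theorem nonempty_away_algEquiv_of_le :
    Nonempty (Localization.Away (Ideal.Quotient.mk K G) ≃ₐ[R]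
      Localization.Away (Ideal.Quotient.mk I G)) := by
  letI alg : Algebra (P ⧸ K) (Localization.Away (Ideal.Quotient.mk I G)) :=
    ((algebraMap (P ⧸ I) (Localization.Away (Ideal.Quotient.mk I G))).comp
      (Ideal.Quotient.factor hKI)).toAlgebra
  haveI := isLocalization_away_quotient_of_le K I hKI G G₁ hdvd hG₁
  haveI : IsScalarTower R (P ⧸ K) (Localization.Away (Ideal.Quotient.mk I G)) := by
    refine IsScalarTower.of_algebraMap_eq ?_
    intro a
    rw [IsScalarTower.algebraMap_apply R (P ⧸ I) (Localization.Away (Ideal.Quotient.mk I G))]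
    rfl
  exact ⟨(IsLocalization.algEquiv (Submonoid.powers (Ideal.Quotient.mk K G))
    (Localization.Away (Ideal.Quotient.mk K G))
    (Localization.Away (Ideal.Quotient.mk I G))).restrictScalars R⟩

end AwayQuot

end Groth.Agent.Helper2.Synt
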