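import Mathlib
import Groth.Agent.Lib.Helper2.Synt.RelBaseChange
import Groth.Agent.Lib.Helper2.Synt.LocQuot
import Groth.Agent.Lib.Helper8.Fib1

set_option autoImplicit false
set_option linter.style.haveILetI false
set_option linter.unusedSectionVars false
universe u

namespace Groth.Agent.Helper2.Synt

open TensorProduct MvPolynomial

section FibrePrime

variable (R : Type u) [CommRing R] (n : ℕ) (I : Ideal (MvPolynomial (Fin n) R))
  (q' : Ideal (MvPolynomial (Fin n) R)) [q'.IsPrime]

/-- a prime of the polynomial ring containing `I` comes from a prime of the fibre of `R[x]/I`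
over its contraction to `R`, written as a quotient of `κ(p)[x]` -/
theorem exists_fibre_prime_quot (hq' : I ≤ q') :
    ∃ (q : Ideal (MvPolynomial (Fin n) (q'.comap (algebraMap R (MvPolynomial (Fin n) R))).ResidueField ⧸
        I.map (MvPolynomial.map (algebraMap R
          (q'.comap (algebraMap R (MvPolynomial (Fin n) R))).ResidueField)))) (_ : q.IsPrime),
      q' = (q.comap (Ideal.Quotient.mk _)).comap (MvPolynomial.map (algebraMap R
          (q'.comap (algebraMap R (MvPolynomial (Fin n) R))).ResidueField)) := by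
  set p := q'.comap (algebraMap R (MvPolynomial (Fin n) R)) with hp
  set K := p.ResidueField with hK
  set φK : MvPolynomial (Fin n) R →+* MvPolynomial (Fin n) K :=
    MvPolynomial.map (algebraMap R K) with hφK
  set qS : Ideal (MvPolynomial (Fin n) R ⧸ I) := q'.map (Ideal.Quotient.mk I) with hqS
  have hqScomap : qS.comap (Ideal.Quotient.mk I) = q' := by
    rw [hqS, Ideal.comap_map_of_surjective _ Ideal.Quotient.mk_surjective]
    apply sup_eq_left.mpr
    rw [← RingHom.ker_eq_comap_bot, Ideal.mk_ker]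
    exact hq'
  haveI hqSprime : qS.IsPrime :=
    Ideal.map_isPrime_of_surjective Ideal.Quotient.mk_surjective (by rw [Ideal.mk_ker]; exact hq')
  have hover : qS.comap (algebraMap R (MvPolynomial (Fin n) R ⧸ I)) = p := by
    rw [hp, ← hqScomap, Ideal.comap_comap]
    rfl
  obtain ⟨Q', hQ'prime, hQ'⟩ := Groth.Agent.Helper8.Fib.exists_fiber_prime p qS hover
  refine ⟨Q'.comap ((quotTensorEquiv R K (Fin n) I).symm : (MvPolynomial (Fin n) K ⧸ I.map φK) →+*
      K ⊗[R] (MvPolynomial (Fin n) R ⧸ I)), Ideal.comap_isPrime _ _, ?_⟩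
  ext x
  rw [Ideal.mem_comap, Ideal.mem_comap, Ideal.mem_comap]
  have h1 : ((quotTensorEquiv R K (Fin n) I).symm : (MvPolynomial (Fin n) K ⧸ I.map φK) →+*
      K ⊗[R] (MvPolynomial (Fin n) R ⧸ I)) (Ideal.Quotient.mk (I.map φK) (φK x)) =
      (1 : K) ⊗ₜ[R] (Ideal.Quotient.mk I x) := by
    show (quotTensorEquiv R K (Fin n) I).symm (Ideal.Quotient.mk (I.map φK) (φK x)) = _
    rw [AlgEquiv.symm_apply_eq, quotTensorEquiv_tmul_mk, map_one, one_mul]
  rw [h1]
  have h2 : ((1 : K) ⊗ₜ[R] (Ideal.Quotient.mk I x) : K ⊗[R] (MvPolynomial (Fin n) R ⧸ I)) ∈ Q' ↔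
      Ideal.Quotient.mk I x ∈ qS := by
    rw [← hQ']
    rfl
  rw [h2, ← hqScomap]
  rfl

end FibrePrime

end Groth.Agent.Helper2.Synt
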