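import Mathlib
import Groth.Agent.Lib.Helper2.Synt.Spread

set_option autoImplicit false
set_option linter.style.haveILetI false
set_option linter.unusedSectionVars false
universe u

namespace Groth.Agent.Helper2.Synt

open IsLocalRing

section UB

variable (k : Type u) [Field k] (n : ℕ) (I : Ideal (MvPolynomial (Fin n) k))
  (q : Ideal (MvPolynomial (Fin n) k ⧸ I)) [q.IsPrime]

/-- upper bound for the dimension of a basic open neighbourhood of a complete intersection point
avoiding the components not through the point -/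
theorem ringKrullDim_away_le_of_isCIIdeal
    (h : IsCIIdeal (Localization.AtPrime (q.comap (Ideal.Quotient.mk I)))
      (I.map (algebraMap (MvPolynomial (Fin n) k)
        (Localization.AtPrime (q.comap (Ideal.Quotient.mk I))))))
    (G : MvPolynomial (Fin n) k)
    (hG : ∀ 𝔭 ∈ I.minimalPrimes, ¬ 𝔭 ≤ q.comap (Ideal.Quotient.mk I) → G ∈ 𝔭) (m : ℕ)
    (hm : m + (I.map (algebraMap (MvPolynomial (Fin n) k)
        (Localization.AtPrime (q.comap (Ideal.Quotient.mk I))))).spanFinrank = n) :
    ringKrullDim (Localization.Away (Ideal.Quotient.mk I G)) ≤ (m : WithBot ℕ∞) := by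
  rw [ringKrullDim_le_iff_height_le]
  intro 𝔓 h𝔓
  haveI : (𝔓.under (MvPolynomial (Fin n) k ⧸ I)).IsPrime := Ideal.comap_isPrime _ _
  rw [← IsLocalization.height_under (Submonoid.powers (Ideal.Quotient.mk I G)) 𝔓]
  have hg𝔫 : Ideal.Quotient.mk I G ∉ 𝔓.under (MvPolynomial (Fin n) k ⧸ I) := by
    intro hmem
    have h2 : IsUnit (algebraMap (MvPolynomial (Fin n) k ⧸ I)
        (Localization.Away (Ideal.Quotient.mk I G)) (Ideal.Quotient.mk I G)) :=
      IsLocalization.Away.algebraMap_isUnit _
    exact h𝔓.ne_top (Ideal.eq_top_of_isUnit_mem _ hmem h2)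
  have h3 := height_add_le_of_isCIIdeal k n I q h G hG _ hg𝔫
  obtain ⟨b, hb⟩ := ENat.ne_top_iff_exists.mp (Ideal.height_ne_top (Ideal.IsPrime.ne_top ‹_›) :
    (𝔓.under (MvPolynomial (Fin n) k ⧸ I)).height ≠ ⊤)
  rw [← hb] at h3 ⊢
  have h3' : b + (I.map (algebraMap (MvPolynomial (Fin n) k)
        (Localization.AtPrime (q.comap (Ideal.Quotient.mk I))))).spanFinrank ≤ n := by
    exact_mod_cast h3
  have : b ≤ m := by omega
  exact_mod_cast this

end UB

end Groth.Agent.Helper2.Synt
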