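import Mathlib
import Groth.Agent.Lib.Helper2.Synt.SyntLoc1
import Groth.Agent.Lib.Helper2.Synt.SyntLoc3
import Groth.Agent.Lib.Helper2.Synt.RelGCI
import Groth.Agent.Lib.Helper2.CM.OpenLocus

set_option autoImplicit false
set_option linter.style.haveILetI false
set_option linter.unusedSectionVars false
universe u

namespace Groth.Agent.Helper2.Synt

open TensorProduct MvPolynomial IsLocalRing

section FD

variable (R : Type u) [CommRing R] (n c₀ : ℕ) (F : Fin c₀ → MvPolynomial (Fin n) R)
  (K : Type u) [Field K] [Algebra R K]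

/-- the base change to `K` of a basic open of `R[x]/(F)` as a basic open of `K[x]/(F̄)` -/
theorem ringKrullDim_tensor_away_eq (G : MvPolynomial (Fin n) R) :
    ringKrullDim (K ⊗[R] (Localization.Away
      (Ideal.Quotient.mk (Ideal.span (Set.range F)) G))) =
    ringKrullDim (Localization.Away (Ideal.Quotient.mk
      (Ideal.span (Set.range (mapRel R n c₀ F K)))
      (MvPolynomial.map (algebraMap R K) G))) := by
  set g := Ideal.Quotient.mk (Ideal.span (Set.range F)) G with hg
  have h1 : ringKrullDim (K ⊗[R] (Localization.Away g)) =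
      ringKrullDim (Localization.Away ((1 : K) ⊗ₜ[R] g : K ⊗[R] _root_.Synt.RelGCIRing R n c₀ F)) :=
    ringKrullDim_eq_of_ringEquiv (IsLocalization.Away.tensorProductEquivTMulRight R
      K g (Localization.Away g)).toRingEquiv
  have he : (fiberEquiv R n c₀ F K) ((1 : K) ⊗ₜ[R] g) =
      Ideal.Quotient.mk (Ideal.span (Set.range (mapRel R n c₀ F K)))
        (MvPolynomial.map (algebraMap R K) G) := by
    rw [hg, fiberEquiv_tmul_mk, one_smul]
  have h2 : ringKrullDim (Localization.Away ((1 : K) ⊗ₜ[R] g :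
        K ⊗[R] _root_.Synt.RelGCIRing R n c₀ F)) =
      ringKrullDim (Localization.Away ((fiberEquiv R n c₀ F K) ((1 : K) ⊗ₜ[R] g))) :=
    ringKrullDim_eq_of_ringEquiv
      (IsLocalization.ringEquivOfRingEquiv (M := Submonoid.powers ((1 : K) ⊗ₜ[R] g))
        (T := Submonoid.powers ((fiberEquiv R n c₀ F K) ((1 : K) ⊗ₜ[R] g)))
        (Localization.Away ((1 : K) ⊗ₜ[R] g :
          K ⊗[R] _root_.Synt.RelGCIRing R n c₀ F))
        (Localization.Away ((fiberEquiv R n c₀ F K) ((1 : K) ⊗ₜ[R] g)))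
        (fiberEquiv R n c₀ F K).toRingEquiv (by
          rw [Submonoid.map_powers]
          rfl))
  rw [h1, h2, he]

/-- near a complete intersection point of the fibre, basic opens of `R[x]/(F)` have fibre
of dimension at most `n - c₀` -/
theorem exists_notMem_tensor_dim_le
    (hden : ∀ t : MvPolynomial (Fin n) K, ∃ a g : MvPolynomial (Fin n) R,
      IsUnit (MvPolynomial.map (algebraMap R K) a) ∧
        MvPolynomial.map (algebraMap R K) a * t = MvPolynomial.map (algebraMap R K) g)
    (q' : Ideal (MvPolynomial (Fin n) R)) [q'.IsPrime]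
    (q₁ : Ideal (MvPolynomial (Fin n) K ⧸ Ideal.span (Set.range (mapRel R n c₀ F K))))
    [q₁.IsPrime]
    (hcomap₁ : q' = (q₁.comap (Ideal.Quotient.mk
      (Ideal.span (Set.range (mapRel R n c₀ F K))))).comap
        (MvPolynomial.map (σ := Fin n) (algebraMap R K)))
    (hCI₁ : IsCIIdeal (Localization.AtPrime (q₁.comap (Ideal.Quotient.mk
        (Ideal.span (Set.range (mapRel R n c₀ F K))))))
      ((Ideal.span (Set.range (mapRel R n c₀ F K))).map
        (algebraMap (MvPolynomial (Fin n) K) (Localization.AtPrime (q₁.comap (Ideal.Quotient.mk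
        (Ideal.span (Set.range (mapRel R n c₀ F K)))))))))
    (hc₀ : ((Ideal.span (Set.range (mapRel R n c₀ F K))).map
        (algebraMap (MvPolynomial (Fin n) K) (Localization.AtPrime (q₁.comap (Ideal.Quotient.mk
        (Ideal.span (Set.range (mapRel R n c₀ F K)))))))).spanFinrank = c₀)
    (m : ℕ) (hm : m + c₀ = n) :
    ∃ G₂ : MvPolynomial (Fin n) R, G₂ ∉ q' ∧ ∀ G : MvPolynomial (Fin n) R, G₂ ∣ G →
      ringKrullDim (K ⊗[R] (Localization.Away
        (Ideal.Quotient.mk (Ideal.span (Set.range F)) G))) ≤ (m : WithBot ℕ∞) := by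
  obtain ⟨Gb, hGbq, hGb⟩ :=
    Groth.Agent.Helper2.CM.exists_notMem_forall_minimalPrimes
      (Ideal.span (Set.range (mapRel R n c₀ F K)))
      (q₁.comap (Ideal.Quotient.mk (Ideal.span (Set.range (mapRel R n c₀ F K)))))
  obtain ⟨a, g, ha, hg⟩ := hden Gb
  refine ⟨g, ?_, ?_⟩
  · intro hmem
    rw [hcomap₁, Ideal.mem_comap, ← hg] at hmem
    rcases Ideal.IsPrime.mem_or_mem inferInstance hmem with h1 | h1
    · exact (Ideal.IsPrime.ne_top inferInstance) (Ideal.eq_top_of_isUnit_mem _ h1 ha)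
    · exact hGbq h1
  · rintro G ⟨d, rfl⟩
    rw [ringKrullDim_tensor_away_eq]
    refine ringKrullDim_away_le_of_isCIIdeal K n _ q₁ hCI₁ _ ?_ m (by rw [hc₀]; exact hm)
    intro 𝔭 h𝔭 hle
    rw [map_mul, ← hg, mul_assoc]
    exact Ideal.mul_mem_left _ _ (Ideal.mul_mem_right _ _ (hGb 𝔭 h𝔭 hle))

end FD

end Groth.Agent.Helper2.Synt
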