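import Mathlib
import Groth.Agent.Lib.Helper2.Synt.SyntLoc2
import Groth.Agent.Lib.Helper2.Synt.SyntLoc4
import Groth.Agent.Lib.Helper2.Synt.SyntLoc6
import Groth.Agent.Lib.Helper2.Synt.SyntLocal
import Groth.Agent.Lib.Helper2.Synt.CIPoint

set_option autoImplicit false
set_option linter.style.haveILetI false
set_option linter.unusedSectionVars false
universe u

namespace Groth.Agent.Helper2.Synt

open TensorProduct MvPolynomial IsLocalRing

/-- transport of the complete intersection condition along an equality of primes -/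
theorem isCIIdeal_congr_prime {A : Type u} [CommRing A] (𝔮₁ 𝔮₂ : Ideal A) [𝔮₁.IsPrime] [𝔮₂.IsPrime]
    (h : 𝔮₁ = 𝔮₂) (J : Ideal A) (c₀ : ℕ)
    (h1 : IsCIIdeal (Localization.AtPrime 𝔮₁) (J.map (algebraMap A (Localization.AtPrime 𝔮₁))) ∧
      (J.map (algebraMap A (Localization.AtPrime 𝔮₁))).spanFinrank = c₀) :
    IsCIIdeal (Localization.AtPrime 𝔮₂) (J.map (algebraMap A (Localization.AtPrime 𝔮₂))) ∧
      (J.map (algebraMap A (Localization.AtPrime 𝔮₂))).spanFinrank = c₀ := by
  subst h
  exact h1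

section PartI

variable (R : Type u) [CommRing R] (n : ℕ) (I : Ideal (MvPolynomial (Fin n) R))
  (q' : Ideal (MvPolynomial (Fin n) R)) [q'.IsPrime] (K : Type u) [Field K] [Algebra R K]

theorem exists_local_generators
    (hden : ∀ t : MvPolynomial (Fin n) K, ∃ a g : MvPolynomial (Fin n) R,
      IsUnit (MvPolynomial.map (algebraMap R K) a) ∧
        MvPolynomial.map (algebraMap R K) a * t = MvPolynomial.map (algebraMap R K) g)
    (hkerK : RingHom.ker (algebraMap R K) = q'.comap (algebraMap R (MvPolynomial (Fin n) R)))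
    (hI : I.FG) [Module.Flat R (MvPolynomial (Fin n) R ⧸ I)]
    (hLCI : _root_.Synt.IsLCIOver K (K ⊗[R] (MvPolynomial (Fin n) R ⧸ I)))
    (q : Ideal (MvPolynomial (Fin n) K ⧸ I.map (MvPolynomial.map (σ := Fin n) (algebraMap R K))))
    [q.IsPrime]
    (hcomap : q' = (q.comap (Ideal.Quotient.mk (I.map (MvPolynomial.map (σ := Fin n)
      (algebraMap R K))))).comap (MvPolynomial.map (σ := Fin n) (algebraMap R K))) :
    ∃ (c₀ : ℕ) (F : Fin c₀ → MvPolynomial (Fin n) R) (G₁ G₂ : MvPolynomial (Fin n) R),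
      c₀ ≤ n ∧ (∀ i, F i ∈ I) ∧ G₁ ∉ q' ∧ (∀ x ∈ I, G₁ * x ∈ Ideal.span (Set.range F)) ∧
      G₂ ∉ q' ∧ ∀ G : MvPolynomial (Fin n) R, G₂ ∣ G →
        ringKrullDim (K ⊗[R] (Localization.Away
          (Ideal.Quotient.mk (Ideal.span (Set.range F)) G))) ≤ ((n - c₀ : ℕ) : WithBot ℕ∞) := by
  -- the fibre is a complete intersection at the point
  have hLCI' : _root_.Synt.IsLCIOver K (MvPolynomial (Fin n) K ⧸
      I.map (MvPolynomial.map (σ := Fin n) (algebraMap R K))) :=
    isLCIOver_of_algEquiv (quotTensorEquiv R K (Fin n) I) hLCI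
  obtain ⟨gb, hgb, hgci⟩ := hLCI'.2 ⟨q, inferInstance⟩
  have hCI := isCIIdeal_of_exists_away K n
    (I.map (MvPolynomial.map (σ := Fin n) (algebraMap R K))) q ⟨gb, hgb, hgci⟩
  have hJm := map_le_maximalIdeal K n
    (I.map (MvPolynomial.map (σ := Fin n) (algebraMap R K))) q
  -- the number of generators
  obtain ⟨c₀, hc₀⟩ : ∃ c₀, ((I.map (MvPolynomial.map (σ := Fin n) (algebraMap R K))).map
    (algebraMap (MvPolynomial (Fin n) K) (Localization.AtPrime (q.comap (Ideal.Quotient.mk
      (I.map (MvPolynomial.map (σ := Fin n) (algebraMap R K)))))))).spanFinrank = c₀ := ⟨_, rfl⟩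
  have hc₀n : c₀ ≤ n := by
    obtain ⟨d, a, hd, ha, -⟩ := exists_nat_dims hJm
    have hnat := (isCIIdeal_iff_nat hd ha).mp hCI
    have h1 : ringKrullDim (Localization.AtPrime (q.comap (Ideal.Quotient.mk
        (I.map (MvPolynomial.map (σ := Fin n) (algebraMap R K)))))) ≤
        ringKrullDim (MvPolynomial (Fin n) K) := by
      rw [IsLocalization.AtPrime.ringKrullDim_eq_height (q.comap (Ideal.Quotient.mk
        (I.map (MvPolynomial.map (σ := Fin n) (algebraMap R K))))) _]
      exact Ideal.height_le_ringKrullDim_of_ne_top (Ideal.IsPrime.ne_top')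
    rw [hd, ringKrullDim_mvPolynomial] at h1
    have : d ≤ n := by exact_mod_cast h1
    omega
  -- generators coming from `I`
  obtain ⟨F, hFI, hgen⟩ := exists_generators_of_map
    (MvPolynomial.map (σ := Fin n) (algebraMap R K)) I
    (q.comap (Ideal.Quotient.mk (I.map (MvPolynomial.map (σ := Fin n) (algebraMap R K)))))
    q' hcomap hden c₀ hc₀
  -- flatness of the local ring
  haveI hflatB : Module.Flat R (Localization.AtPrime q' ⧸
      I.map (algebraMap (MvPolynomial (Fin n) R) (Localization.AtPrime q'))) := by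
    haveI : Module.Flat (MvPolynomial (Fin n) R ⧸ I) (Localization.AtPrime q' ⧸
        I.map (algebraMap (MvPolynomial (Fin n) R) (Localization.AtPrime q'))) :=
      IsLocalization.flat (Localization.AtPrime q' ⧸
        I.map (algebraMap (MvPolynomial (Fin n) R) (Localization.AtPrime q')))
        (Algebra.algebraMapSubmonoid (MvPolynomial (Fin n) R ⧸ I) q'.primeCompl)
    exact Module.Flat.trans R (MvPolynomial (Fin n) R ⧸ I) _
  have hker : RingHom.ker (MvPolynomial.map (σ := Fin n) (algebraMap R K)) =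
      (q'.comap (algebraMap R (MvPolynomial (Fin n) R))).map
        (algebraMap R (MvPolynomial (Fin n) R)) := by
    rw [MvPolynomial.ker_map, hkerK]
    rfl
  have hIF := map_eq_map_span_of_flat R (MvPolynomial.map (σ := Fin n) (algebraMap R K)) I
    (q.comap (Ideal.Quotient.mk (I.map (MvPolynomial.map (σ := Fin n) (algebraMap R K)))))
    q' hcomap hden _ hker hI F hFI hgen
  obtain ⟨G₁, hG₁, hG₁I⟩ := exists_mul_mem_of_map_le I (Ideal.span (Set.range F)) hI q' hIF.le
  -- the fibre of `R[x]/(F)` at the point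
  have hI'J : Ideal.span (Set.range (mapRel R n c₀ F K)) ≤
      I.map (MvPolynomial.map (σ := Fin n) (algebraMap R K)) := by
    rw [Ideal.span_le]
    rintro _ ⟨i, rfl⟩
    exact Ideal.mem_map_of_mem _ (hFI i)
  have hJqb : I.map (MvPolynomial.map (σ := Fin n) (algebraMap R K)) ≤
      q.comap (Ideal.Quotient.mk (I.map (MvPolynomial.map (σ := Fin n) (algebraMap R K)))) := by
    intro x hx
    rw [Ideal.mem_comap, Ideal.Quotient.eq_zero_iff_mem.mpr hx]
    exact Ideal.zero_mem _
  have hmapeq : (Ideal.span (Set.range (mapRel R n c₀ F K))).map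
      (algebraMap (MvPolynomial (Fin n) K) (Localization.AtPrime (q.comap (Ideal.Quotient.mk
        (I.map (MvPolynomial.map (σ := Fin n) (algebraMap R K))))))) =
      (I.map (MvPolynomial.map (σ := Fin n) (algebraMap R K))).map
        (algebraMap (MvPolynomial (Fin n) K) (Localization.AtPrime (q.comap (Ideal.Quotient.mk
        (I.map (MvPolynomial.map (σ := Fin n) (algebraMap R K))))))) := by
    rw [← hgen, Ideal.map_span, ← Set.range_comp]
    rfl
  have hsurj : Function.Surjective (Ideal.Quotient.mk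
      (Ideal.span (Set.range (mapRel R n c₀ F K)))) := Ideal.Quotient.mk_surjective
  have hkerle : RingHom.ker (Ideal.Quotient.mk (Ideal.span (Set.range (mapRel R n c₀ F K)))) ≤
      q.comap (Ideal.Quotient.mk (I.map (MvPolynomial.map (σ := Fin n) (algebraMap R K)))) := by
    rw [Ideal.mk_ker]
    exact hI'J.trans hJqb
  haveI hq₁ : ((q.comap (Ideal.Quotient.mk (I.map (MvPolynomial.map (σ := Fin n)
      (algebraMap R K))))).map (Ideal.Quotient.mk
        (Ideal.span (Set.range (mapRel R n c₀ F K))))).IsPrime :=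
    Ideal.map_isPrime_of_surjective hsurj hkerle
  have hcm : q.comap (Ideal.Quotient.mk (I.map (MvPolynomial.map (σ := Fin n)
      (algebraMap R K)))) = ((q.comap (Ideal.Quotient.mk (I.map (MvPolynomial.map (σ := Fin n)
      (algebraMap R K))))).map (Ideal.Quotient.mk
        (Ideal.span (Set.range (mapRel R n c₀ F K))))).comap (Ideal.Quotient.mk
        (Ideal.span (Set.range (mapRel R n c₀ F K)))) := by
    rw [Ideal.comap_map_of_surjective _ hsurj, ← RingHom.ker_eq_comap_bot]
    exact (sup_eq_left.mpr hkerle).symm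
  have hCI₁ := isCIIdeal_congr_prime _ _ hcm (Ideal.span (Set.range (mapRel R n c₀ F K))) c₀
    ⟨by rw [hmapeq]; exact hCI, by rw [hmapeq]; exact hc₀⟩
  have hcomap₁ : q' = (((q.comap (Ideal.Quotient.mk (I.map (MvPolynomial.map (σ := Fin n)
      (algebraMap R K))))).map (Ideal.Quotient.mk
        (Ideal.span (Set.range (mapRel R n c₀ F K))))).comap (Ideal.Quotient.mk
        (Ideal.span (Set.range (mapRel R n c₀ F K))))).comap
        (MvPolynomial.map (σ := Fin n) (algebraMap R K)) := by
    rw [← hcm]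
    exact hcomap
  obtain ⟨G₂, hG₂, hG₂d⟩ := exists_notMem_tensor_dim_le R n c₀ F K hden q'
    ((q.comap (Ideal.Quotient.mk (I.map (MvPolynomial.map (σ := Fin n)
      (algebraMap R K))))).map (Ideal.Quotient.mk
        (Ideal.span (Set.range (mapRel R n c₀ F K))))) hcomap₁ hCI₁.1 hCI₁.2 (n - c₀) (by omega)
  exact ⟨c₀, F, G₁, G₂, hc₀n, hFI, hG₁, hG₁I, hG₂, hG₂d⟩

end PartI

end Groth.Agent.Helper2.Synt
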