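import Mathlib
import Groth.Agent.Lib.Helper2.Synt.SyntLoc7
import Groth.Agent.Lib.Helper2.Synt.SyntLoc5
import Groth.Agent.Lib.Helper2.Synt.RelAway

set_option autoImplicit false
set_option linter.style.haveILetI false
set_option linter.unusedSectionVars false
universe u

namespace Groth.Agent.Helper2.Synt

open TensorProduct MvPolynomial IsLocalRing

section PartII

variable (R : Type u) [CommRing R] (n : ℕ) (I : Ideal (MvPolynomial (Fin n) R))
  (q' : Ideal (MvPolynomial (Fin n) R)) [q'.IsPrime]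

/-- **Local structure of syntomic algebras**: a flat finitely presented algebra `R[x]/I` with
local complete intersection fibres is, locally around each prime, a relative global complete
intersection. -/
theorem exists_away_isRelGCI_of_syntomic (hI : I.FG)
    [Module.Flat R (MvPolynomial (Fin n) R ⧸ I)]
    (hfib : ∀ p : PrimeSpectrum R, _root_.Synt.IsLCIOver p.asIdeal.ResidueField
      (p.asIdeal.Fiber (MvPolynomial (Fin n) R ⧸ I)))
    (hIq' : I ≤ q') :
    ∃ G : MvPolynomial (Fin n) R, G ∉ q' ∧ ∃ (n' c' : ℕ)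
      (F' : Fin c' → MvPolynomial (Fin n') R), _root_.Synt.IsRelGCI R n' c' F' ∧
      Nonempty (Localization.Away (Ideal.Quotient.mk I G) ≃ₐ[R]
        _root_.Synt.RelGCIRing R n' c' F') := by
  haveI hp : (q'.comap (algebraMap R (MvPolynomial (Fin n) R))).IsPrime := Ideal.comap_isPrime _ _
  obtain ⟨q, hqprime, hcomap⟩ := exists_fibre_prime_quot R n I q' hIq'
  haveI := hqprime
  obtain ⟨c₀, F, G₁, G₂, hc₀n, hFI, hG₁, hG₁I, hG₂, hG₂d⟩ := exists_local_generators R n I q'
    (q'.comap (algebraMap R (MvPolynomial (Fin n) R))).ResidueField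
    (exists_denominators_map_residueField R (Fin n) _)
    (Ideal.ker_algebraMap_residueField _) hI
    (hfib ⟨q'.comap (algebraMap R (MvPolynomial (Fin n) R)), inferInstance⟩) q hcomap
  have hFle : Ideal.span (Set.range F) ≤ I := by
    rw [Ideal.span_le]
    rintro _ ⟨i, rfl⟩
    exact hFI i
  -- the prime of `R[x]/(F)`
  have hkerle : RingHom.ker (Ideal.Quotient.mk (Ideal.span (Set.range F))) ≤ q' := by
    rw [Ideal.mk_ker]
    exact hFle.trans hIq'
  haveI hq₁ : (q'.map (Ideal.Quotient.mk (Ideal.span (Set.range F)))).IsPrime :=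
    Ideal.map_isPrime_of_surjective Ideal.Quotient.mk_surjective hkerle
  have hcm : (q'.map (Ideal.Quotient.mk (Ideal.span (Set.range F)))).comap
      (Ideal.Quotient.mk (Ideal.span (Set.range F))) = q' := by
    rw [Ideal.comap_map_of_surjective _ Ideal.Quotient.mk_surjective, ← RingHom.ker_eq_comap_bot]
    exact sup_eq_left.mpr hkerle
  have hunder : (q'.map (Ideal.Quotient.mk (Ideal.span (Set.range F)))).under R =
      q'.comap (algebraMap R (MvPolynomial (Fin n) R)) := by
    conv_rhs => rw [← hcm]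
    rfl
  have key : ∀ (I₁ I₂ : Ideal R) [I₁.IsPrime] [I₂.IsPrime], I₁ = I₂ →
      ringKrullDim (I₁.Fiber (Localization.Away
        (Ideal.Quotient.mk (Ideal.span (Set.range F)) G₂))) =
      ringKrullDim (I₂.Fiber (Localization.Away
        (Ideal.Quotient.mk (Ideal.span (Set.range F)) G₂))) := by
    intro I₁ I₂ _ _ h
    subst h
    rfl
  haveI : ((q'.map (Ideal.Quotient.mk (Ideal.span (Set.range F)))).under R).IsPrime :=
    Ideal.comap_isPrime _ _
  have hd : ringKrullDim (((q'.map (Ideal.Quotient.mk (Ideal.span (Set.range F)))).under R).Fiber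
      (Localization.Away (Ideal.Quotient.mk (Ideal.span (Set.range F)) G₂))) ≤
      ((n - c₀ : ℕ) : WithBot ℕ∞) := by
    rw [key _ _ hunder]
    exact hG₂d G₂ dvd_rfl
  have hG₂' : Ideal.Quotient.mk (Ideal.span (Set.range F)) G₂ ∉
      q'.map (Ideal.Quotient.mk (Ideal.span (Set.range F))) := by
    intro hmem
    apply hG₂
    rw [← hcm]
    exact hmem
  obtain ⟨g, hgood, hg⟩ := exists_fibreDimLE_notMem_of_away (R := R)
    (S := _root_.Synt.RelGCIRing R n c₀ F)
    (q'.map (Ideal.Quotient.mk (Ideal.span (Set.range F))))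
    (Ideal.Quotient.mk (Ideal.span (Set.range F)) G₂) hG₂' (n - c₀) hd
  obtain ⟨G₃, rfl⟩ := Ideal.Quotient.mk_surjective g
  have hG₃ : G₃ ∉ q' := by
    intro hmem
    exact hg (Ideal.mem_map_of_mem _ hmem)
  have hgood' : FibreDimLE R (_root_.Synt.RelGCIRing R n c₀ F) (n - c₀)
      (Ideal.Quotient.mk (Ideal.span (Set.range F)) (G₁ * G₃)) := by
    apply fibreDimLE_of_mem_span
    rw [map_mul]
    exact Ideal.mul_mem_left _ _ (Ideal.subset_span hgood)
  refine ⟨G₁ * G₃, ?_, n + 1, c₀ + 1, awayRel' R n c₀ F (G₁ * G₃),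
    isRelGCI_away_of_fibreDimLE hc₀n hgood', ?_⟩
  · intro hmem
    rcases Ideal.IsPrime.mem_or_mem inferInstance hmem with h1 | h1
    · exact hG₁ h1
    · exact hG₃ h1
  · obtain ⟨e⟩ := nonempty_away_algEquiv_of_le R (Ideal.span (Set.range F)) I hFle (G₁ * G₃) G₁
      (dvd_mul_right _ _) hG₁I
    exact ⟨e.symm.trans (awayEquivRelGCIRing R n c₀ F (G₁ * G₃))⟩

end PartII

end Groth.Agent.Helper2.Synt
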