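import Mathlib
import Groth.Agent.Lib.Helper2.Synt.SyntLoc8
import Groth.Agent.Lib.Helper2.Synt.BridgeMpr
import Groth.Agent.Lib.Helper2.Synt.RelGCIMain
import Groth.Agent.Lib.Lead.LciLocal1
import Groth.Agent.Lib.Lead.LciComp2

set_option autoImplicit false
set_option linter.style.haveILetI false
set_option linter.unusedSectionVars false
universe u

namespace Groth.Agent.Helper2.Synt

open TensorProduct MvPolynomial IsLocalRing

/-- a relative global complete intersection is a Koszul local complete intersection -/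
theorem isLCI_of_isRelGCI (R : Type u) [CommRing R] (n c : ℕ) (F : Fin c → MvPolynomial (Fin n) R)
    (h : _root_.Synt.IsRelGCI R n c F) : LCI.IsLCI R (_root_.Synt.RelGCIRing R n c F) := by
  have hsurj : Function.Surjective (Ideal.Quotient.mkₐ R (Ideal.span (Set.range F))) :=
    Ideal.Quotient.mkₐ_surjective R _
  refine ⟨Algebra.FiniteType.of_surjective (Ideal.Quotient.mkₐ R (Ideal.span (Set.range F))) hsurj,
    n, Ideal.Quotient.mkₐ R (Ideal.span (Set.range F)), hsurj, ?_⟩
  have hker : RingHom.ker (Ideal.Quotient.mkₐ R (Ideal.span (Set.range F))).toRingHom =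
      Ideal.ofList (List.ofFn F) := by
    rw [ofList_ofFn']
    exact Ideal.mk_ker
  rw [hker]
  exact Groth.Agent.Lead.LciLocal.krIdeal_of_kr _ (isKoszulRegularSeq_of_isRelGCI R n c F h)

/-- transport of syntomicity along an isomorphism of algebras -/
theorem isSyntomic_of_algEquiv {R S S' : Type u} [CommRing R] [CommRing S] [CommRing S']
    [Algebra R S] [Algebra R S'] (e : S ≃ₐ[R] S') (h : _root_.Synt.IsSyntomic R S) :
    _root_.Synt.IsSyntomic R S' := by
  obtain ⟨hflat, hfp, hfib⟩ := h
  refine ⟨Module.Flat.of_linearEquiv e.symm.toLinearEquiv, hfp.equiv e, ?_⟩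
  intro p
  haveI := p.isPrime
  exact isLCIOver_of_algEquiv (Algebra.TensorProduct.congr AlgEquiv.refl e) (hfib p)

/-- the forward direction for quotients of polynomial rings -/
theorem isLCI_quotient_of_isSyntomic (R : Type u) [CommRing R] (n : ℕ)
    (I : Ideal (MvPolynomial (Fin n) R)) (hI : I.FG)
    (h : _root_.Synt.IsSyntomic R (MvPolynomial (Fin n) R ⧸ I)) :
    LCI.IsLCI R (MvPolynomial (Fin n) R ⧸ I) := by
  obtain ⟨hflat, hfp, hfib⟩ := h
  haveI := hflat
  rw [← Groth.Agent.Lead.LciLocal.lciRingHom_algebraMap]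
  apply Groth.Agent.Lead.LciLocal.lciRingHom_ofLocalizationSpanTarget _
    {g : MvPolynomial (Fin n) R ⧸ I | LCI.IsLCI R (Localization.Away g)}
  · by_contra hne
    obtain ⟨m, hm, hle⟩ := Ideal.exists_le_maximal _ hne
    haveI : m.IsPrime := hm.isPrime
    have hIq' : I ≤ m.comap (Ideal.Quotient.mk I) := by
      intro x hx
      rw [Ideal.mem_comap, Ideal.Quotient.eq_zero_iff_mem.mpr hx]
      exact Ideal.zero_mem _
    obtain ⟨G, hG, n', c', F', hrel, ⟨e⟩⟩ := exists_away_isRelGCI_of_syntomic R n I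
      (m.comap (Ideal.Quotient.mk I)) hI hfib hIq'
    apply hG
    rw [Ideal.mem_comap]
    apply hle
    apply Ideal.subset_span
    show LCI.IsLCI R (Localization.Away (Ideal.Quotient.mk I G))
    exact Groth.Agent.Lead.LciComp.isLCI_of_algEquiv e.symm (isLCI_of_isRelGCI R n' c' F' hrel)
  · rintro ⟨g, hg⟩
    have h1 : (algebraMap (MvPolynomial (Fin n) R ⧸ I) (Localization.Away g)).comp
        (algebraMap R (MvPolynomial (Fin n) R ⧸ I)) = algebraMap R (Localization.Away g) :=
      (IsScalarTower.algebraMap_eq R _ _).symm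
    rw [h1, Groth.Agent.Lead.LciLocal.lciRingHom_algebraMap]
    exact hg

/-- **Syntomic = flat + local complete intersection.** -/
theorem isSyntomic_iff_flat_and_isLCI (R S : Type u) [CommRing R] [CommRing S] [Algebra R S] :
    _root_.Synt.IsSyntomic R S ↔ Module.Flat R S ∧ LCI.IsLCI R S := by
  constructor
  · intro h
    refine ⟨h.1, ?_⟩
    obtain ⟨n, f, hf, hker⟩ := h.2.1.out
    have e : (MvPolynomial (Fin n) R ⧸ RingHom.ker f.toRingHom) ≃ₐ[R] S :=
      Ideal.quotientKerAlgEquivOfSurjective hf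
    have h2 := isSyntomic_of_algEquiv e.symm h
    exact Groth.Agent.Lead.LciComp.isLCI_of_algEquiv e
      (isLCI_quotient_of_isSyntomic R n _ hker h2)
  · rintro ⟨hflat, hlci⟩
    haveI := hflat
    exact isSyntomic_of_flat_of_isLCI R S hlci

end Groth.Agent.Helper2.Synt
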