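import Mathlib
import Groth.Agent.Lib.Helper2.Synt.RelGCIMain
import Groth.Agent.Lib.Helper2.Synt.CIOverFT
import Groth.Agent.Lib.Helper2.Synt.SyntLocal

set_option autoImplicit false
set_option linter.style.haveILetI false
set_option linter.unusedSectionVars false
universe u

namespace Groth.Agent.Helper2.Synt

open TensorProduct MvPolynomial RingTheory.Sequence

section Flat

variable (R : Type u) [CommRing R] (n c : ℕ) (F : Fin c → MvPolynomial (Fin n) R)

/-- a relative global complete intersection is flat -/
theorem flat_of_isRelGCI (h : _root_.Synt.IsRelGCI R n c F) :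
    Module.Flat R (_root_.Synt.RelGCIRing R n c F) := by
  set J := Ideal.span (Set.range F) with hJ
  have H : ∀ (m : Ideal (_root_.Synt.RelGCIRing R n c F)) [m.IsMaximal],
      Module.Flat R (Localization.AtPrime (m.comap (Ideal.Quotient.mk J)) ⧸
        J.map (algebraMap (MvPolynomial (Fin n) R)
          (Localization.AtPrime (m.comap (Ideal.Quotient.mk J))))) := by
    intro m hm
    have hle : J ≤ m.comap (Ideal.Quotient.mk J) := by
      intro x hx
      rw [Ideal.mem_comap, Ideal.Quotient.eq_zero_iff_mem.mpr hx]
      exact zero_mem _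
    have h1 := (isRegular_and_flat_of_isRelGCI R n c F (m.comap (Ideal.Quotient.mk J)) h hle).2 c
      le_rfl
    have h2 : Ideal.ofList (((List.ofFn F).take c).map
        (algebraMap (MvPolynomial (Fin n) R)
          (Localization.AtPrime (m.comap (Ideal.Quotient.mk J))))) =
        J.map (algebraMap (MvPolynomial (Fin n) R)
          (Localization.AtPrime (m.comap (Ideal.Quotient.mk J)))) := by
      rw [List.take_of_length_le (by simp), ← Ideal.map_ofList, ofList_ofFn']
    rw [h2] at h1
    exact h1
  refine Module.flat_of_isLocalized_maximal (_root_.Synt.RelGCIRing R n c F)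
    (_root_.Synt.RelGCIRing R n c F) (fun m _ => Localization.AtPrime m)
    (fun m _ => Algebra.linearMap _ _) ?_
  intro m hm
  haveI := H m
  haveI : IsLocalization m.primeCompl (Localization.AtPrime (m.comap (Ideal.Quotient.mk J)) ⧸
        J.map (algebraMap (MvPolynomial (Fin n) R)
          (Localization.AtPrime (m.comap (Ideal.Quotient.mk J))))) :=
    isLocalization_atPrime_quotient_map J m
  exact Module.Flat.of_linearEquiv
    ((IsLocalization.algEquiv m.primeCompl (Localization.AtPrime (m.comap (Ideal.Quotient.mk J)) ⧸
        J.map (algebraMap (MvPolynomial (Fin n) R)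
          (Localization.AtPrime (m.comap (Ideal.Quotient.mk J)))))
      (Localization.AtPrime m)).restrictScalars R).toLinearEquiv.symm

/-- S9147 -/
theorem isSyntomic_of_isRelGCI (h : _root_.Synt.IsRelGCI R n c F) :
    _root_.Synt.IsSyntomic R (_root_.Synt.RelGCIRing R n c F) := by
  refine ⟨flat_of_isRelGCI R n c F h, ?_, ?_⟩
  · exact Algebra.FinitePresentation.quotient (Submodule.fg_span (Set.finite_range F))
  · intro p
    haveI := p.isPrime
    set K := p.asIdeal.ResidueField with hK
    set r := mapRel R n c F K with hr
    have e := fiberEquiv R n c F K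
    refine isLCIOver_of_algEquiv e.symm ?_
    haveI : Algebra.FiniteType K (_root_.Synt.RelGCIRing K n c r) :=
      Algebra.FiniteType.of_surjective (Ideal.Quotient.mkₐ K _) (Ideal.Quotient.mkₐ_surjective K _)
    apply isLCIOver_of_isGlobalCI
    by_cases hnt : Nontrivial (p.asIdeal.Fiber (_root_.Synt.RelGCIRing R n c F))
    · obtain ⟨hcn, hdim⟩ := h p hnt
      right
      refine ⟨n, c, hcn, Ideal.Quotient.mkₐ K (Ideal.span (Set.range r)), r,
        Ideal.Quotient.mkₐ_surjective K _, ?_, ?_⟩
      · exact Ideal.mk_ker
      · rw [← hdim]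
        exact (ringKrullDim_eq_of_ringEquiv e.toRingEquiv).symm
    · left
      rw [not_nontrivial_iff_subsingleton] at hnt
      exact e.symm.toEquiv.subsingleton

end Flat

end Groth.Agent.Helper2.Synt
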