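import Mathlib
import Groth.Agent.Lib.Helper2.Synt.SyntLoc9
import Groth.Agent.Lib.Helper2.Synt.SyntLoc8
import Groth.Agent.Lib.Helper2.Synt.CIOver

set_option autoImplicit false
set_option linter.style.haveILetI false
set_option linter.unusedSectionVars false
universe u

namespace Groth.Agent.Helper2.Synt

open TensorProduct MvPolynomial IsLocalRing

/-- the isomorphism of local rings induced by an isomorphism of algebras -/
noncomputable def atPrimeAlgEquivOfComap {k S S' : Type*} [CommRing k] [CommRing S] [CommRing S']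
    [Algebra k S] [Algebra k S'] (e : S ≃ₐ[k] S') (Q : Ideal S') [Q.IsPrime]
    (q : Ideal S) [q.IsPrime] (h : q = Q.comap (e : S →+* S')) :
    Localization.AtPrime q ≃ₐ[k] Localization.AtPrime Q :=
  IsLocalization.algEquivOfAlgEquiv (M := q.primeCompl) (T := Q.primeCompl)
    (Localization.AtPrime q) (Localization.AtPrime Q) e (by
    ext x
    constructor
    · rintro ⟨y, hy, rfl⟩
      intro hmem
      apply hy
      rw [SetLike.mem_coe, h, Ideal.mem_comap]
      exact hmem
    · intro hx
      refine ⟨e.symm x, ?_, by simp⟩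
      intro hmem
      apply hx
      rw [SetLike.mem_coe, h, Ideal.mem_comap] at hmem
      simpa using hmem)

/-- transport of principal localizations along an algebra isomorphism -/
noncomputable def awayAlgEquivOfAlgEquiv {k S S' : Type*} [CommRing k] [CommRing S] [CommRing S']
    [Algebra k S] [Algebra k S'] (e : S ≃ₐ[k] S') (g : S) :
    Localization.Away g ≃ₐ[k] Localization.Away (e g) :=
  IsLocalization.algEquivOfAlgEquiv (M := Submonoid.powers g) (T := Submonoid.powers (e g))
      (Localization.Away g) (Localization.Away (e g)) e (by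
    rw [Submonoid.map_powers])

section PartII'

variable (R : Type u) [CommRing R] (n : ℕ) (I : Ideal (MvPolynomial (Fin n) R))
  (q' : Ideal (MvPolynomial (Fin n) R)) [q'.IsPrime]

/-- from local generators to a relative global complete intersection neighbourhood -/
theorem exists_away_isRelGCI_of_generators (hIq' : I ≤ q')
    (p : Ideal R) [p.IsPrime] (hp : q'.comap (algebraMap R (MvPolynomial (Fin n) R)) = p)
    (c₀ : ℕ) (F : Fin c₀ → MvPolynomial (Fin n) R) (G₁ G₂ : MvPolynomial (Fin n) R)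
    (hc₀n : c₀ ≤ n) (hFI : ∀ i, F i ∈ I) (hG₁ : G₁ ∉ q')
    (hG₁I : ∀ x ∈ I, G₁ * x ∈ Ideal.span (Set.range F)) (hG₂ : G₂ ∉ q')
    (hG₂d : ∀ G : MvPolynomial (Fin n) R, G₂ ∣ G →
        ringKrullDim (p.ResidueField ⊗[R] (Localization.Away
          (Ideal.Quotient.mk (Ideal.span (Set.range F)) G))) ≤ ((n - c₀ : ℕ) : WithBot ℕ∞)) :
    ∃ G : MvPolynomial (Fin n) R, G ∉ q' ∧ ∃ (n' c' : ℕ)
      (F' : Fin c' → MvPolynomial (Fin n') R), _root_.Synt.IsRelGCI R n' c' F' ∧
      Nonempty (Localization.Away (Ideal.Quotient.mk I G) ≃ₐ[R]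
        _root_.Synt.RelGCIRing R n' c' F') := by
  have hFle : Ideal.span (Set.range F) ≤ I := by
    rw [Ideal.span_le]
    rintro _ ⟨i, rfl⟩
    exact hFI i
  -- the prime of `R[x]/(F)`
  have hkerle : RingHom.ker (Ideal.Quotient.mk (Ideal.span (Set.range F))) ≤ q' := by
    rw [Ideal.mk_ker]
    exact hFle.trans hIq'
  haveI hq₁ : (q'.map (Ideal.Quotient.mk (Ideal.span (Set.range F)))).IsPrime :=
    Ideal.map_isPrime_of_surjective Ideal.Quotient.mk_surjective hkerle
  have hcm : (q'.map (Ideal.Quotient.mk (Ideal.span (Set.range F)))).comap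
      (Ideal.Quotient.mk (Ideal.span (Set.range F))) = q' := by
    rw [Ideal.comap_map_of_surjective _ Ideal.Quotient.mk_surjective, ← RingHom.ker_eq_comap_bot]
    exact sup_eq_left.mpr hkerle
  have hunder : (q'.map (Ideal.Quotient.mk (Ideal.span (Set.range F)))).under R = p := by
    rw [← hp]
    conv_rhs => rw [← hcm]
    rfl
  have key : ∀ (I₁ I₂ : Ideal R) [I₁.IsPrime] [I₂.IsPrime], I₁ = I₂ →
      ringKrullDim (I₁.Fiber (Localization.Away
        (Ideal.Quotient.mk (Ideal.span (Set.range F)) G₂))) =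
      ringKrullDim (I₂.Fiber (Localization.Away
        (Ideal.Quotient.mk (Ideal.span (Set.range F)) G₂))) := by
    intro I₁ I₂ _ _ h
    subst h
    rfl
  haveI : ((q'.map (Ideal.Quotient.mk (Ideal.span (Set.range F)))).under R).IsPrime :=
    Ideal.comap_isPrime _ _
  have hd : ringKrullDim (((q'.map (Ideal.Quotient.mk (Ideal.span (Set.range F)))).under R).Fiber
      (Localization.Away (Ideal.Quotient.mk (Ideal.span (Set.range F)) G₂))) ≤
      ((n - c₀ : ℕ) : WithBot ℕ∞) := by
    rw [key _ _ hunder]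
    exact hG₂d G₂ dvd_rfl
  have hG₂' : Ideal.Quotient.mk (Ideal.span (Set.range F)) G₂ ∉
      q'.map (Ideal.Quotient.mk (Ideal.span (Set.range F))) := by
    intro hmem
    apply hG₂
    rw [← hcm]
    exact hmem
  obtain ⟨g, hgood, hg⟩ := exists_fibreDimLE_notMem_of_away (R := R)
    (S := _root_.Synt.RelGCIRing R n c₀ F)
    (q'.map (Ideal.Quotient.mk (Ideal.span (Set.range F))))
    (Ideal.Quotient.mk (Ideal.span (Set.range F)) G₂) hG₂' (n - c₀) hd
  obtain ⟨G₃, rfl⟩ := Ideal.Quotient.mk_surjective g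
  have hG₃ : G₃ ∉ q' := by
    intro hmem
    exact hg (Ideal.mem_map_of_mem _ hmem)
  have hgood' : FibreDimLE R (_root_.Synt.RelGCIRing R n c₀ F) (n - c₀)
      (Ideal.Quotient.mk (Ideal.span (Set.range F)) (G₁ * G₃)) := by
    apply fibreDimLE_of_mem_span
    rw [map_mul]
    exact Ideal.mul_mem_left _ _ (Ideal.subset_span hgood)
  refine ⟨G₁ * G₃, ?_, n + 1, c₀ + 1, awayRel' R n c₀ F (G₁ * G₃),
    isRelGCI_away_of_fibreDimLE hc₀n hgood', ?_⟩
  · intro hmem
    rcases Ideal.IsPrime.mem_or_mem inferInstance hmem with h1 | h1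
    · exact hG₁ h1
    · exact hG₃ h1
  · obtain ⟨e⟩ := nonempty_away_algEquiv_of_le R (Ideal.span (Set.range F)) I hFle (G₁ * G₃) G₁
      (dvd_mul_right _ _) hG₁I
    exact ⟨e.symm.trans (awayEquivRelGCIRing R n c₀ F (G₁ * G₃))⟩

end PartII'

section Generic

variable (R S : Type u) [CommRing R] [CommRing S] [Algebra R S] (n : ℕ)
  (f : MvPolynomial (Fin n) R →ₐ[R] S) (hf : Function.Surjective f)
  (hker : (RingHom.ker f.toRingHom).FG)
  (p : Ideal R) [p.IsPrime] (qS : Ideal S) [qS.IsPrime] (hp : qS.under R = p)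

include hf hker hp in
/-- **Local structure at a point**: if the finitely presented algebra `S` is flat over `R` at the
prime `qS` and its fibre is a complete intersection at the corresponding point, then a
principal open neighbourhood of `qS` is a relative global complete intersection. -/
theorem exists_away_isRelGCI_of_local
    [Module.Flat R (Localization.AtPrime qS)]
    (Q : Ideal (p.Fiber S)) [Q.IsPrime]
    (hQ : Q.comap (Algebra.TensorProduct.includeRight : S →ₐ[R] p.Fiber S).toRingHom = qS)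
    (hCIQ : _root_.Synt.IsCIOver p.ResidueField (Localization.AtPrime Q)) :
    ∃ g : S, g ∉ qS ∧ ∃ (n' c' : ℕ)
      (F' : Fin c' → MvPolynomial (Fin n') R), _root_.Synt.IsRelGCI R n' c' F' ∧
      Nonempty (Localization.Away g ≃ₐ[R] _root_.Synt.RelGCIRing R n' c' F') := by
  obtain ⟨e, he⟩ : ∃ e : (MvPolynomial (Fin n) R ⧸ RingHom.ker f.toRingHom) ≃ₐ[R] S,
      ∀ x, e (Ideal.Quotient.mk _ x) = f x :=
    ⟨Ideal.quotientKerAlgEquivOfSurjective hf, fun x => rfl⟩
  -- the primes upstairs
  haveI hqI : (qS.comap (e : (MvPolynomial (Fin n) R ⧸ RingHom.ker f.toRingHom) →+* S)).IsPrime :=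
    Ideal.comap_isPrime _ _
  have hq'mem : ∀ x, x ∈ (qS.comap (e : (MvPolynomial (Fin n) R ⧸ RingHom.ker f.toRingHom) →+*
      S)).comap (Ideal.Quotient.mk (RingHom.ker f.toRingHom)) ↔ f x ∈ qS := by
    intro x
    rw [Ideal.mem_comap, Ideal.mem_comap]
    show e (Ideal.Quotient.mk _ x) ∈ qS ↔ _
    rw [he]
  have hIq' : RingHom.ker f.toRingHom ≤ (qS.comap (e : (MvPolynomial (Fin n) R ⧸
      RingHom.ker f.toRingHom) →+* S)).comap (Ideal.Quotient.mk (RingHom.ker f.toRingHom)) := by
    intro x hx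
    rw [hq'mem]
    have : f x = 0 := hx
    rw [this]
    exact Ideal.zero_mem _
  have hp' : ((qS.comap (e : (MvPolynomial (Fin n) R ⧸ RingHom.ker f.toRingHom) →+*
      S)).comap (Ideal.Quotient.mk (RingHom.ker f.toRingHom))).comap
        (algebraMap R (MvPolynomial (Fin n) R)) = p := by
    rw [← hp]
    ext x
    rw [Ideal.mem_comap, hq'mem, AlgHom.commutes]
    rfl
  -- flatness of the local ring
  haveI hflat : Module.Flat R (Localization.AtPrime ((qS.comap (e : (MvPolynomial (Fin n) R ⧸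
      RingHom.ker f.toRingHom) →+* S)).comap (Ideal.Quotient.mk (RingHom.ker f.toRingHom))) ⧸
      (RingHom.ker f.toRingHom).map (algebraMap (MvPolynomial (Fin n) R) (Localization.AtPrime
        ((qS.comap (e : (MvPolynomial (Fin n) R ⧸ RingHom.ker f.toRingHom) →+* S)).comap
          (Ideal.Quotient.mk (RingHom.ker f.toRingHom)))))) := by
    have e₁ : (Localization.AtPrime ((qS.comap (e : (MvPolynomial (Fin n) R ⧸
      RingHom.ker f.toRingHom) →+* S)).comap (Ideal.Quotient.mk (RingHom.ker f.toRingHom))) ⧸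
      (RingHom.ker f.toRingHom).map (algebraMap (MvPolynomial (Fin n) R) (Localization.AtPrime
        ((qS.comap (e : (MvPolynomial (Fin n) R ⧸ RingHom.ker f.toRingHom) →+* S)).comap
          (Ideal.Quotient.mk (RingHom.ker f.toRingHom)))))) ≃ₐ[R]
        Localization.AtPrime (qS.comap (e : (MvPolynomial (Fin n) R ⧸
          RingHom.ker f.toRingHom) →+* S)) :=
      ((IsLocalization.algEquiv (qS.comap (e : (MvPolynomial (Fin n) R ⧸
          RingHom.ker f.toRingHom) →+* S)).primeCompl
          (Localization.AtPrime (qS.comap (e : (MvPolynomial (Fin n) R ⧸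
          RingHom.ker f.toRingHom) →+* S)))
          (Localization.AtPrime ((qS.comap (e : (MvPolynomial (Fin n) R ⧸
      RingHom.ker f.toRingHom) →+* S)).comap (Ideal.Quotient.mk (RingHom.ker f.toRingHom))) ⧸
      (RingHom.ker f.toRingHom).map (algebraMap (MvPolynomial (Fin n) R) (Localization.AtPrime
        ((qS.comap (e : (MvPolynomial (Fin n) R ⧸ RingHom.ker f.toRingHom) →+* S)).comap
          (Ideal.Quotient.mk (RingHom.ker f.toRingHom))))))).restrictScalars R).symm
    have e₂ : Localization.AtPrime (qS.comap (e : (MvPolynomial (Fin n) R ⧸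
          RingHom.ker f.toRingHom) →+* S)) ≃ₐ[R] Localization.AtPrime qS :=
      atPrimeAlgEquivOfComap e qS _ rfl
    exact Module.Flat.of_linearEquiv (e₁.trans e₂).toLinearEquiv
  -- the fibre
  obtain ⟨E, hE⟩ : ∃ E : (MvPolynomial (Fin n) p.ResidueField ⧸ (RingHom.ker f.toRingHom).map
      (MvPolynomial.map (algebraMap R p.ResidueField))) ≃ₐ[p.ResidueField] p.ResidueField ⊗[R] S,
      ∀ x, E (Ideal.Quotient.mk _ (MvPolynomial.map (algebraMap R p.ResidueField) x)) =
        (1 : p.ResidueField) ⊗ₜ[R] f x := by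
    refine ⟨(quotTensorEquiv R p.ResidueField (Fin n) (RingHom.ker f.toRingHom)).symm.trans
      (Algebra.TensorProduct.congr AlgEquiv.refl e), fun x => ?_⟩
    have h1 : (quotTensorEquiv R p.ResidueField (Fin n) (RingHom.ker f.toRingHom)).symm
        (Ideal.Quotient.mk _ (MvPolynomial.map (algebraMap R p.ResidueField) x)) =
        (1 : p.ResidueField) ⊗ₜ[R] (Ideal.Quotient.mk (RingHom.ker f.toRingHom) x) := by
      rw [AlgEquiv.symm_apply_eq, quotTensorEquiv_tmul_mk, map_one, one_mul]
    rw [AlgEquiv.trans_apply, h1, Algebra.TensorProduct.congr_apply,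
      Algebra.TensorProduct.map_tmul]
    simp only [AlgEquiv.coe_toAlgHom, AlgEquiv.coe_refl, id_eq]
    congr 1
    exact he x
  haveI hqprime : (Q.comap (E : (MvPolynomial (Fin n) p.ResidueField ⧸
      (RingHom.ker f.toRingHom).map (MvPolynomial.map (algebraMap R p.ResidueField))) →+*
      p.ResidueField ⊗[R] S)).IsPrime := Ideal.comap_isPrime _ _
  have hcomap : (qS.comap (e : (MvPolynomial (Fin n) R ⧸ RingHom.ker f.toRingHom) →+*
      S)).comap (Ideal.Quotient.mk (RingHom.ker f.toRingHom)) =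
      ((Q.comap (E : (MvPolynomial (Fin n) p.ResidueField ⧸
      (RingHom.ker f.toRingHom).map (MvPolynomial.map (algebraMap R p.ResidueField))) →+*
      p.ResidueField ⊗[R] S)).comap (Ideal.Quotient.mk _)).comap
        (MvPolynomial.map (algebraMap R p.ResidueField)) := by
    ext x
    rw [hq'mem, Ideal.mem_comap, Ideal.mem_comap, Ideal.mem_comap]
    show _ ↔ E (Ideal.Quotient.mk _ (MvPolynomial.map (algebraMap R p.ResidueField) x)) ∈ Q
    rw [hE, ← hQ]
    rfl
  have hCI' : _root_.Synt.IsCIOver p.ResidueField (Localization.AtPrime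
      (Q.comap (E : (MvPolynomial (Fin n) p.ResidueField ⧸
      (RingHom.ker f.toRingHom).map (MvPolynomial.map (algebraMap R p.ResidueField))) →+*
      p.ResidueField ⊗[R] S))) :=
    isCIOver_of_algEquiv (atPrimeAlgEquivOfComap E Q _ rfl).symm hCIQ
  have hCI := (isCIOver_atPrime_iff_isCIIdeal p.ResidueField n _ _).mp hCI'
  obtain ⟨c₀, F, G₁, G₂, hc₀n, hFI, hG₁, hG₁I, hG₂, hG₂d⟩ := exists_local_generators' R n
    (RingHom.ker f.toRingHom) ((qS.comap (e : (MvPolynomial (Fin n) R ⧸ RingHom.ker f.toRingHom) →+*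
      S)).comap (Ideal.Quotient.mk (RingHom.ker f.toRingHom)))
    p.ResidueField
    (exists_denominators_map_residueField R (Fin n) p)
    ((Ideal.ker_algebraMap_residueField p).trans hp'.symm) hker _ hcomap hCI
  obtain ⟨G, hG, n', c', F', hrel, ⟨ι⟩⟩ := exists_away_isRelGCI_of_generators R n
    (RingHom.ker f.toRingHom) _ hIq' p hp' c₀ F G₁ G₂ hc₀n hFI hG₁ hG₁I hG₂ hG₂d
  refine ⟨f G, fun hmem => hG ((hq'mem G).mpr hmem), n', c', F', hrel, ⟨?_⟩⟩
  have e₃ := awayAlgEquivOfAlgEquiv e (Ideal.Quotient.mk (RingHom.ker f.toRingHom) G)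
  rw [he] at e₃
  exact e₃.symm.trans ι

end Generic

end Groth.Agent.Helper2.Synt
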