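import Mathlib
import Groth.Agent.Lib.Helper2.Synt.SyntLoc10
import Groth.Agent.Lib.Helper2.Synt.LocIso
import Groth.Agent.Lib.Helper2.Synt.CIOverFT
import Groth.Agent.Lib.Helper2.Synt.RelGCISynt
import Groth.Agent.Lib.Helper2.Synt.BridgeMp

set_option autoImplicit false
set_option linter.style.haveILetI false
set_option linter.unusedSectionVars false
universe u

namespace Groth.Agent.Helper2.Synt

open TensorProduct MvPolynomial IsLocalRing

section FibreLoc

variable (R K S : Type u) [CommRing R] [CommRing K] [CommRing S] [Algebra R K] [Algebra R S]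
  (g : S) (Q : Ideal (K ⊗[R] S)) [Q.IsPrime] (hg : (1 : K) ⊗ₜ[R] g ∉ Q)

include hg in
theorem disjoint_powers_tmul :
    Disjoint (Submonoid.powers ((1 : K) ⊗ₜ[R] g) : Set (K ⊗[R] S)) (Q : Set (K ⊗[R] S)) := by
  rw [Set.disjoint_left]
  rintro _ ⟨k, rfl⟩ hmem
  exact hg (Ideal.IsPrime.mem_of_pow_mem inferInstance k hmem)

include hg in
/-- the prime of the fibre of `S_g` corresponding to a prime of the fibre of `S` not containing
`g`: its contraction to `S_g` -/
theorem comap_primeOver_tensorProductEquiv :
    (primeOver (IsLocalization.Away.tensorProductEquivTMulRight R K g (Localization.Away g))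
      Q).comap (Algebra.TensorProduct.includeRight :
        Localization.Away g →ₐ[R] K ⊗[R] Localization.Away g).toRingHom =
    (Q.comap (Algebra.TensorProduct.includeRight : S →ₐ[R] K ⊗[R] S).toRingHom).map
      (algebraMap S (Localization.Away g)) := by
  have hdisj := disjoint_powers_tmul R K S g Q hg
  have hgq : g ∉ Q.comap (Algebra.TensorProduct.includeRight : S →ₐ[R] K ⊗[R] S).toRingHom :=
    fun h => hg h
  ext y
  obtain ⟨s, t, rfl⟩ := IsLocalization.exists_mk'_eq (Submonoid.powers g) y
  obtain ⟨k, hk⟩ := t.2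
  rw [IsLocalization.mk'_mem_map_algebraMap_iff]
  have h1 : (∃ s' ∈ Submonoid.powers g, s' * s ∈
      Q.comap (Algebra.TensorProduct.includeRight : S →ₐ[R] K ⊗[R] S).toRingHom) ↔
      (1 : K) ⊗ₜ[R] s ∈ Q := by
    constructor
    · rintro ⟨s', ⟨j, rfl⟩, hs'⟩
      rcases Ideal.IsPrime.mem_or_mem inferInstance hs' with h2 | h2
      · exact absurd (Ideal.IsPrime.mem_of_pow_mem inferInstance j h2) hgq
      · exact h2
    · intro h
      exact ⟨1, one_mem _, by rw [one_mul]; exact h⟩
  rw [h1]
  unfold primeOver
  rw [Ideal.mem_comap, Ideal.mem_comap]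
  -- the key computation
  have h2 : (IsLocalization.Away.tensorProductEquivTMulRight R K g (Localization.Away g))
      ((1 : K) ⊗ₜ[R] (IsLocalization.mk' (Localization.Away g) s t)) *
      algebraMap (K ⊗[R] S) (Localization.Away ((1 : K) ⊗ₜ[R] g)) ((1 : K) ⊗ₜ[R] (t : S)) =
      algebraMap (K ⊗[R] S) (Localization.Away ((1 : K) ⊗ₜ[R] g)) ((1 : K) ⊗ₜ[R] s) := by
    have e1 := IsLocalization.Away.tensorProductEquivTMulRight_tmul (R := R) (S := K) (A := S) g
      (Localization.Away g) (1 : K) (t : S)
    have e2 := IsLocalization.Away.tensorProductEquivTMulRight_tmul (R := R) (S := K) (A := S) g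
      (Localization.Away g) (1 : K) s
    rw [← e1, ← e2, ← map_mul, Algebra.TensorProduct.tmul_mul_tmul, one_mul,
      IsLocalization.mk'_spec]
  have hunit : IsUnit (algebraMap (K ⊗[R] S) (Localization.Away ((1 : K) ⊗ₜ[R] g))
      ((1 : K) ⊗ₜ[R] (t : S))) := by
    rw [← hk]
    have : ((1 : K) ⊗ₜ[R] (g ^ k) : K ⊗[R] S) = ((1 : K) ⊗ₜ[R] g) ^ k := by
      rw [Algebra.TensorProduct.tmul_pow, one_pow]
    rw [this, map_pow]
    exact (IsLocalization.Away.algebraMap_isUnit _).pow k
  haveI hQT : (Q.map (algebraMap (K ⊗[R] S) (Localization.Away ((1 : K) ⊗ₜ[R] g)))).IsPrime :=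
    IsLocalization.isPrime_of_isPrime_disjoint (Submonoid.powers ((1 : K) ⊗ₜ[R] g)) _ Q
      inferInstance hdisj
  have h3 : (IsLocalization.Away.tensorProductEquivTMulRight R K g (Localization.Away g))
      ((1 : K) ⊗ₜ[R] (IsLocalization.mk' (Localization.Away g) s t)) ∈
      Q.map (algebraMap (K ⊗[R] S) (Localization.Away ((1 : K) ⊗ₜ[R] g))) ↔
      algebraMap (K ⊗[R] S) (Localization.Away ((1 : K) ⊗ₜ[R] g)) ((1 : K) ⊗ₜ[R] s) ∈
      Q.map (algebraMap (K ⊗[R] S) (Localization.Away ((1 : K) ⊗ₜ[R] g))) := by
    rw [← h2]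
    constructor
    · intro h
      exact Ideal.mul_mem_right _ _ h
    · intro h
      rcases Ideal.IsPrime.mem_or_mem hQT h with h4 | h4
      · exact h4
      · exact absurd (Ideal.eq_top_of_isUnit_mem _ h4 hunit) hQT.ne_top
  have h4 : algebraMap (K ⊗[R] S) (Localization.Away ((1 : K) ⊗ₜ[R] g)) ((1 : K) ⊗ₜ[R] s) ∈
      Q.map (algebraMap (K ⊗[R] S) (Localization.Away ((1 : K) ⊗ₜ[R] g))) ↔
      (1 : K) ⊗ₜ[R] s ∈ Q := by
    have := IsLocalization.under_map_of_isPrime_disjoint
      (Submonoid.powers ((1 : K) ⊗ₜ[R] g)) (Localization.Away ((1 : K) ⊗ₜ[R] g))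
      (inferInstance : Q.IsPrime) hdisj
    constructor
    · intro h
      rw [← this]
      exact h
    · intro h
      exact Ideal.mem_map_of_mem _ h
  rw [← h4, ← h3]
  rfl

include hg in
theorem isPrime_primeOver_tensorProductEquiv :
    (primeOver (IsLocalization.Away.tensorProductEquivTMulRight R K g (Localization.Away g))
      Q).IsPrime :=
  isPrime_primeOver (T := Localization.Away ((1 : K) ⊗ₜ[R] g))
    (Submonoid.powers ((1 : K) ⊗ₜ[R] g)) _ Q (disjoint_powers_tmul R K S g Q hg)

include hg in
/-- the local ring of the fibre of `S_g` is the local ring of the fibre of `S` -/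
theorem nonempty_atPrime_primeOver_algEquiv
    [hP : (primeOver (IsLocalization.Away.tensorProductEquivTMulRight R K g (Localization.Away g))
      Q).IsPrime] :
    Nonempty (Localization.AtPrime (primeOver (IsLocalization.Away.tensorProductEquivTMulRight
      R K g (Localization.Away g)) Q) ≃ₐ[K] Localization.AtPrime Q) :=
  nonempty_algEquiv_of_isLocalization (k := K) (T := Localization.Away ((1 : K) ⊗ₜ[R] g))
    (Submonoid.powers ((1 : K) ⊗ₜ[R] g))
    (IsLocalization.Away.tensorProductEquivTMulRight R K g (Localization.Away g)) Q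
    (disjoint_powers_tmul R K S g Q hg) (Localization.AtPrime Q) _

end FibreLoc

section LocLoc

variable (R : Type u) [CommRing R] {S : Type u} [CommRing S] [Algebra R S] (q : Ideal S)
  [q.IsPrime] (g : S) (hg : g ∉ q)

include hg in
theorem disjoint_powers_of_notMem : Disjoint (Submonoid.powers g : Set S) (q : Set S) := by
  rw [Set.disjoint_left]
  rintro _ ⟨k, rfl⟩ hmem
  exact hg (Ideal.IsPrime.mem_of_pow_mem inferInstance k hmem)

include hg in
theorem isPrime_map_away : (q.map (algebraMap S (Localization.Away g))).IsPrime :=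
  IsLocalization.isPrime_of_isPrime_disjoint (Submonoid.powers g) _ q inferInstance
    (disjoint_powers_of_notMem q g hg)

include hg in
theorem comap_map_away : (q.map (algebraMap S (Localization.Away g))).comap
    (algebraMap S (Localization.Away g)) = q :=
  IsLocalization.under_map_of_isPrime_disjoint (Submonoid.powers g) _ inferInstance
    (disjoint_powers_of_notMem q g hg)

include hg in
/-- the local ring of `S_g` at the extension of `q` is the local ring of `S` at `q` -/
theorem nonempty_atPrime_map_away_algEquiv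
    [hqg : (q.map (algebraMap S (Localization.Away g))).IsPrime] :
    Nonempty (Localization.AtPrime (q.map (algebraMap S (Localization.Away g))) ≃ₐ[R]
      Localization.AtPrime q) := by
  have hcomap := comap_map_away q g hg
  haveI h2 : IsLocalization.AtPrime
      (Localization.AtPrime (q.map (algebraMap S (Localization.Away g))))
      ((q.map (algebraMap S (Localization.Away g))).comap
        (algebraMap S (Localization.Away g))) :=
    IsLocalization.isLocalization_isLocalization_atPrime_isLocalization (Submonoid.powers g) _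
      (q.map (algebraMap S (Localization.Away g)))
  haveI h3 : IsLocalization.AtPrime
      (Localization.AtPrime (q.map (algebraMap S (Localization.Away g)))) q := by
    have h2' : IsLocalization ((q.map (algebraMap S (Localization.Away g))).comap
        (algebraMap S (Localization.Away g))).primeCompl
        (Localization.AtPrime (q.map (algebraMap S (Localization.Away g)))) := h2
    have e' : ((q.map (algebraMap S (Localization.Away g))).comap
        (algebraMap S (Localization.Away g))).primeCompl = q.primeCompl := by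
      ext x
      simp only [Ideal.mem_primeCompl_iff]
      rw [hcomap]
    unfold IsLocalization.AtPrime
    rw [← e']
    exact h2'
  let e₃ : Localization.AtPrime (q.map (algebraMap S (Localization.Away g))) ≃ₐ[S]
      Localization.AtPrime q := IsLocalization.algEquiv q.primeCompl _ _
  exact ⟨e₃.restrictScalars R⟩

include hg in
/-- a principal localization of a principal localization is a principal localization -/
theorem exists_away_algEquiv_away_away (g' : Localization.Away g)
    (hg' : g' ∉ q.map (algebraMap S (Localization.Away g))) :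
    ∃ g'' : S, g'' ∉ q ∧ Nonempty (Localization.Away g'' ≃ₐ[R] Localization.Away g') := by
  obtain ⟨z, s, rfl⟩ := IsLocalization.exists_mk'_eq (Submonoid.powers g) g'
  have hz : z ∉ q := by
    intro hz
    apply hg'
    rw [IsLocalization.mk'_mem_map_algebraMap_iff]
    exact ⟨1, one_mem _, by rw [one_mul]; exact hz⟩
  have hunit : IsUnit (algebraMap S (Localization.Away g) s.1) :=
    IsLocalization.map_units _ s
  have hass : Associated (algebraMap S (Localization.Away g) z)
      (IsLocalization.mk' (Localization.Away g) z s) := by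
    refine Associated.symm ⟨hunit.unit, ?_⟩
    rw [IsUnit.unit_spec]
    exact IsLocalization.mk'_spec _ z s
  haveI : IsLocalization.Away (g * z)
      (Localization.Away (IsLocalization.mk' (Localization.Away g) z s)) :=
    IsLocalization.Away.mul_of_associated g z _ hass
  let e : Localization.Away (g * z) ≃ₐ[S]
      Localization.Away (IsLocalization.mk' (Localization.Away g) z s) :=
    IsLocalization.algEquiv (Submonoid.powers (g * z)) _ _
  refine ⟨g * z, ?_, ⟨e.restrictScalars R⟩⟩
  intro hmem
  rcases Ideal.IsPrime.mem_or_mem inferInstance hmem with h1 | h1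
  · exact hg h1
  · exact hz h1

end LocLoc

section Main

variable (R S : Type u) [CommRing R] [CommRing S] [Algebra R S]
    (p : Ideal R) [p.IsPrime] (q : Ideal S) [q.IsPrime] [q.LiesOver p]
    (Q : Ideal (p.Fiber S)) [Q.IsPrime]
    (hQ : Q.comap (Algebra.TensorProduct.includeRight : S →ₐ[R] p.Fiber S).toRingHom = q)

include hQ in
/-- (1) ⇒ (3) -/
theorem local_conditions_of_syntomic_away (g : S) (hg : g ∉ q)
    (h : _root_.Synt.IsSyntomic R (Localization.Away g)) :
    Algebra.FinitePresentation R (Localization.Away g) ∧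
      Module.Flat R (Localization.AtPrime q) ∧
      _root_.Synt.IsCIOver p.ResidueField (Localization.AtPrime Q) := by
  obtain ⟨hflat, hfp, hfib⟩ := h
  refine ⟨hfp, ?_, ?_⟩
  · haveI := isPrime_map_away q g hg
    obtain ⟨e⟩ := nonempty_atPrime_map_away_algEquiv R q g hg
    haveI : Module.Flat (Localization.Away g)
        (Localization.AtPrime (q.map (algebraMap S (Localization.Away g)))) :=
      IsLocalization.flat _ (q.map (algebraMap S (Localization.Away g))).primeCompl
    haveI : Module.Flat R (Localization.AtPrime (q.map (algebraMap S (Localization.Away g)))) :=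
      Module.Flat.trans R (Localization.Away g) _
    exact Module.Flat.of_linearEquiv e.symm.toLinearEquiv
  · have hgQ : (1 : p.ResidueField) ⊗ₜ[R] g ∉ Q := by
      intro hmem
      apply hg
      rw [← hQ]
      exact hmem
    haveI := isPrime_primeOver_tensorProductEquiv R p.ResidueField S g Q hgQ
    obtain ⟨e⟩ := nonempty_atPrime_primeOver_algEquiv R p.ResidueField S g Q hgQ
    obtain ⟨hft, hloc⟩ := hfib ⟨p, inferInstance⟩
    haveI : Algebra.FiniteType p.ResidueField (p.ResidueField ⊗[R] Localization.Away g) := hft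
    obtain ⟨h', hh', hgci⟩ := hloc ⟨primeOver (IsLocalization.Away.tensorProductEquivTMulRight
      R p.ResidueField g (Localization.Away g)) Q, inferInstance⟩
    have h1 := (isCIOver_atPrime_iff_exists_away_of_finiteType p.ResidueField
      (p.ResidueField ⊗[R] Localization.Away g) (primeOver
        (IsLocalization.Away.tensorProductEquivTMulRight
      R p.ResidueField g (Localization.Away g)) Q)).mpr ⟨h', hh', hgci⟩
    exact isCIOver_of_algEquiv e h1

include hQ in
/-- (3) ⇒ (2) -/
theorem exists_relGCI_away_of_local_conditions (g : S) (hg : g ∉ q)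
    (hfp : Algebra.FinitePresentation R (Localization.Away g))
    (hflat : Module.Flat R (Localization.AtPrime q))
    (hCI : _root_.Synt.IsCIOver p.ResidueField (Localization.AtPrime Q)) :
    ∃ g : S, g ∉ q ∧ ∃ (n c : ℕ) (F : Fin c → MvPolynomial (Fin n) R),
      _root_.Synt.IsRelGCI R n c F ∧
        Nonempty (Localization.Away g ≃ₐ[R] _root_.Synt.RelGCIRing R n c F) := by
  obtain ⟨n, f, hf, hker⟩ := hfp.out
  haveI := isPrime_map_away q g hg
  obtain ⟨e₁⟩ := nonempty_atPrime_map_away_algEquiv R q g hg
  haveI : Module.Flat R (Localization.AtPrime (q.map (algebraMap S (Localization.Away g)))) :=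
    Module.Flat.of_linearEquiv e₁.toLinearEquiv
  have hgQ : (1 : p.ResidueField) ⊗ₜ[R] g ∉ Q := by
    intro hmem
    apply hg
    rw [← hQ]
    exact hmem
  haveI := isPrime_primeOver_tensorProductEquiv R p.ResidueField S g Q hgQ
  obtain ⟨e₂⟩ := nonempty_atPrime_primeOver_algEquiv R p.ResidueField S g Q hgQ
  have hunder : (q.map (algebraMap S (Localization.Away g))).under R = p := by
    have h1 : (q.map (algebraMap S (Localization.Away g))).under R =
        ((q.map (algebraMap S (Localization.Away g))).comap
          (algebraMap S (Localization.Away g))).under R := by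
      ext x
      simp only [Ideal.under, Ideal.mem_comap]
      rw [IsScalarTower.algebraMap_apply R S (Localization.Away g)]
    rw [h1, comap_map_away q g hg]
    exact (Ideal.LiesOver.over (p := p) (P := q)).symm
  have hQg := comap_primeOver_tensorProductEquiv R p.ResidueField S g Q hgQ
  rw [hQ] at hQg
  obtain ⟨g', hg', n', c', F', hrel, ⟨ι⟩⟩ := exists_away_isRelGCI_of_local R
    (Localization.Away g) n f hf hker p (q.map (algebraMap S (Localization.Away g))) hunder
    (primeOver (IsLocalization.Away.tensorProductEquivTMulRight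
      R p.ResidueField g (Localization.Away g)) Q) hQg
    (isCIOver_of_algEquiv e₂.symm hCI)
  obtain ⟨g'', hg'', ⟨ι'⟩⟩ := exists_away_algEquiv_away_away R q g hg g' hg'
  exact ⟨g'', hg'', n', c', F', hrel, ⟨ι'.trans ι⟩⟩

include hQ in
/-- **S9169** -/
theorem syntomic_nhd_iff :
    ((∃ g : S, g ∉ q ∧ _root_.Synt.IsSyntomic R (Localization.Away g)) ↔
        ∃ g : S, g ∉ q ∧ ∃ (n c : ℕ) (F : Fin c → MvPolynomial (Fin n) R),
          _root_.Synt.IsRelGCI R n c F ∧
          Nonempty (Localization.Away g ≃ₐ[R] _root_.Synt.RelGCIRing R n c F)) ∧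
      ((∃ g : S, g ∉ q ∧ _root_.Synt.IsSyntomic R (Localization.Away g)) ↔
        ∃ g : S, g ∉ q ∧ Algebra.FinitePresentation R (Localization.Away g) ∧
          Module.Flat R (Localization.AtPrime q) ∧
          _root_.Synt.IsCIOver p.ResidueField (Localization.AtPrime Q)) := by
  have h21 : (∃ g : S, g ∉ q ∧ ∃ (n c : ℕ) (F : Fin c → MvPolynomial (Fin n) R),
          _root_.Synt.IsRelGCI R n c F ∧
          Nonempty (Localization.Away g ≃ₐ[R] _root_.Synt.RelGCIRing R n c F)) →
      ∃ g : S, g ∉ q ∧ _root_.Synt.IsSyntomic R (Localization.Away g) := by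
    rintro ⟨g, hg, n, c, F, hrel, ⟨e⟩⟩
    exact ⟨g, hg, isSyntomic_of_algEquiv e.symm (isSyntomic_of_isRelGCI R n c F hrel)⟩
  have h13 : (∃ g : S, g ∉ q ∧ _root_.Synt.IsSyntomic R (Localization.Away g)) →
      ∃ g : S, g ∉ q ∧ Algebra.FinitePresentation R (Localization.Away g) ∧
          Module.Flat R (Localization.AtPrime q) ∧
          _root_.Synt.IsCIOver p.ResidueField (Localization.AtPrime Q) := by
    rintro ⟨g, hg, h⟩
    exact ⟨g, hg, local_conditions_of_syntomic_away R S p q Q hQ g hg h⟩
  have h32 : (∃ g : S, g ∉ q ∧ Algebra.FinitePresentation R (Localization.Away g) ∧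
          Module.Flat R (Localization.AtPrime q) ∧
          _root_.Synt.IsCIOver p.ResidueField (Localization.AtPrime Q)) →
      ∃ g : S, g ∉ q ∧ ∃ (n c : ℕ) (F : Fin c → MvPolynomial (Fin n) R),
          _root_.Synt.IsRelGCI R n c F ∧
          Nonempty (Localization.Away g ≃ₐ[R] _root_.Synt.RelGCIRing R n c F) := by
    rintro ⟨g, hg, hfp, hflat, hCI⟩
    exact exists_relGCI_away_of_local_conditions R S p q Q hQ g hg hfp hflat hCI
  exact ⟨⟨fun h => h32 (h13 h), h21⟩, ⟨h13, fun h => h21 (h32 h)⟩⟩

end Main

end Groth.Agent.Helper2.Synt
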