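import Mathlib
import Groth.Agent.Lib.Helper2.Synt.SyntNhd
import Groth.Agent.Lib.Helper2.Synt.RelApprox

set_option autoImplicit false
set_option linter.style.haveILetI false
set_option linter.unusedSectionVars false
universe u

namespace Groth.Agent.Helper2.Synt

open TensorProduct MvPolynomial IsLocalRing

/-- a syntomic algebra is locally a relative global complete intersection -/
theorem exists_away_isRelGCI_of_isSyntomic (R S : Type u) [CommRing R] [CommRing S] [Algebra R S]
    (h : _root_.Synt.IsSyntomic R S) (q : Ideal S) [q.IsPrime] :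
    ∃ g : S, g ∉ q ∧ ∃ (n c : ℕ) (F : Fin c → MvPolynomial (Fin n) R),
      _root_.Synt.IsRelGCI R n c F ∧
        Nonempty (Localization.Away g ≃ₐ[R] _root_.Synt.RelGCIRing R n c F) := by
  obtain ⟨n, f, hf, hker⟩ := h.2.1.out
  obtain ⟨e, he⟩ : ∃ e : (MvPolynomial (Fin n) R ⧸ RingHom.ker f.toRingHom) ≃ₐ[R] S,
      ∀ x, e (Ideal.Quotient.mk _ x) = f x :=
    ⟨Ideal.quotientKerAlgEquivOfSurjective hf, fun x => rfl⟩
  have h2 := isSyntomic_of_algEquiv e.symm h
  haveI := h2.1
  haveI : (q.comap f.toRingHom).IsPrime := Ideal.comap_isPrime _ _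
  have hle : RingHom.ker f.toRingHom ≤ q.comap f.toRingHom := by
    intro x hx
    rw [Ideal.mem_comap]
    have : f.toRingHom x = 0 := hx
    rw [this]
    exact Ideal.zero_mem _
  obtain ⟨G, hG, n', c', F', hrel, ⟨ι⟩⟩ := exists_away_isRelGCI_of_syntomic R n
    (RingHom.ker f.toRingHom) (q.comap f.toRingHom) hker h2.2.2 hle
  refine ⟨f G, hG, n', c', F', hrel, ⟨?_⟩⟩
  have e₃ := awayAlgEquivOfAlgEquiv e (Ideal.Quotient.mk (RingHom.ker f.toRingHom) G)
  rw [he] at e₃
  exact e₃.symm.trans ι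

theorem le_of_isRelGCI_of_nontrivial (R : Type u) [CommRing R] (n c : ℕ)
    (F : Fin c → MvPolynomial (Fin n) R) (h : _root_.Synt.IsRelGCI R n c F)
    [Nontrivial (_root_.Synt.RelGCIRing R n c F)] : c ≤ n := by
  obtain ⟨m, hm⟩ := Ideal.exists_maximal (_root_.Synt.RelGCIRing R n c F)
  haveI := hm.isPrime
  have hle : Ideal.span (Set.range F) ≤ m.comap (Ideal.Quotient.mk (Ideal.span (Set.range F))) := by
    intro x hx
    rw [Ideal.mem_comap, Ideal.Quotient.eq_zero_iff_mem.mpr hx]
    exact Ideal.zero_mem _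
  exact (fibre_dim_of_isRelGCI R n c F _ h hle).1

section Lift

variable (R : Type u) [CommRing R] (I : Ideal R) (n c : ℕ) (F : Fin c → MvPolynomial (Fin n) R)

/-- fibres over primes containing `I` of a lift of a relative global complete intersection over
`R/I` -/
theorem ringKrullDim_fiber_le_of_isRelGCI_quotient
    (hrel : _root_.Synt.IsRelGCI (R ⧸ I) n c (mapRel R n c F (R ⧸ I)))
    (p : Ideal R) [p.IsPrime] (hIp : I ≤ p) :
    ringKrullDim (p.Fiber (_root_.Synt.RelGCIRing R n c F)) ≤ ((n - c : ℕ) : WithBot ℕ∞) := by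
  have hkerle : RingHom.ker (Ideal.Quotient.mk I) ≤ p := by
    rw [Ideal.mk_ker]
    exact hIp
  haveI hpb : (p.map (Ideal.Quotient.mk I)).IsPrime :=
    Ideal.map_isPrime_of_surjective Ideal.Quotient.mk_surjective hkerle
  have hcomap : (p.map (Ideal.Quotient.mk I)).comap (algebraMap R (R ⧸ I)) = p := by
    show (p.map (Ideal.Quotient.mk I)).comap (Ideal.Quotient.mk I) = p
    rw [Ideal.comap_map_of_surjective _ Ideal.Quotient.mk_surjective, ← RingHom.ker_eq_comap_bot]
    exact sup_eq_left.mpr hkerle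
  have h1 := ringKrullDim_fiber_descent R (R ⧸ I) n c F (p.map (Ideal.Quotient.mk I))
  have key : ∀ (I₁ I₂ : Ideal R) [I₁.IsPrime] [I₂.IsPrime], I₁ = I₂ →
      ringKrullDim (I₁.Fiber (_root_.Synt.RelGCIRing R n c F)) =
      ringKrullDim (I₂.Fiber (_root_.Synt.RelGCIRing R n c F)) := by
    intro I₁ I₂ _ _ h
    subst h
    rfl
  haveI : ((p.map (Ideal.Quotient.mk I)).comap (algebraMap R (R ⧸ I))).IsPrime :=
    Ideal.comap_isPrime _ _
  rw [key p _ hcomap.symm, h1]
  by_cases hnt : Nontrivial ((p.map (Ideal.Quotient.mk I)).Fiber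
      (_root_.Synt.RelGCIRing (R ⧸ I) n c (mapRel R n c F (R ⧸ I))))
  · exact (hrel ⟨p.map (Ideal.Quotient.mk I), inferInstance⟩ hnt).2.le
  · rw [not_nontrivial_iff_subsingleton] at hnt
    rw [ringKrullDim_eq_bot_of_subsingleton]
    exact bot_le

/-- lifting a relative global complete intersection over `R/I` to one over `R` -/
theorem exists_isRelGCI_lift (hcn : c ≤ n)
    (hrel : _root_.Synt.IsRelGCI (R ⧸ I) n c (mapRel R n c F (R ⧸ I))) :
    ∃ G : MvPolynomial (Fin n) R, _root_.Synt.IsRelGCI R (n + 1) (c + 1) (awayRel' R n c F G) ∧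
      Ideal.Quotient.mk (Ideal.span (Set.range F)) G - 1 ∈
        I.map (algebraMap R (_root_.Synt.RelGCIRing R n c F)) := by
  have hsup : Ideal.span {g : _root_.Synt.RelGCIRing R n c F |
      FibreDimLE R (_root_.Synt.RelGCIRing R n c F) (n - c) g} ⊔
      I.map (algebraMap R (_root_.Synt.RelGCIRing R n c F)) = ⊤ := by
    by_contra hne
    obtain ⟨m, hm, hle⟩ := Ideal.exists_le_maximal _ hne
    haveI := hm.isPrime
    have hIp : I ≤ m.under R := fun x hx =>
      hle (Ideal.mem_sup_right (Ideal.mem_map_of_mem _ hx))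
    haveI : (m.under R).IsPrime := Ideal.comap_isPrime _ _
    have hd := ringKrullDim_fiber_le_of_isRelGCI_quotient R I n c F hrel (m.under R) hIp
    obtain ⟨g, hgood, hg⟩ := exists_fibreDimLE_notMem m (n - c) hd
    exact hg (hle (Ideal.mem_sup_left (Ideal.subset_span hgood)))
  obtain ⟨j, hj, i, hi, hji⟩ := Submodule.mem_sup.mp ((Ideal.eq_top_iff_one _).mp hsup)
  obtain ⟨G, rfl⟩ := Ideal.Quotient.mk_surjective j
  refine ⟨G, isRelGCI_away_of_fibreDimLE hcn (fibreDimLE_of_mem_span hj), ?_⟩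
  have : Ideal.Quotient.mk (Ideal.span (Set.range F)) G - 1 = -i := by
    rw [← hji]
    ring
  rw [this]
  exact neg_mem hi

end Lift

section QuotIso

variable (R : Type u) [CommRing R] (I : Ideal R)

/-- the quotient by `I` is compatible with isomorphisms -/
noncomputable def quotMapAlgEquiv {A A' : Type u} [CommRing A] [CommRing A'] [Algebra R A]
    [Algebra R A'] (e : A ≃ₐ[R] A') :
    (A ⧸ I.map (algebraMap R A)) ≃ₐ[R] (A' ⧸ I.map (algebraMap R A')) :=
  Ideal.quotientEquivAlg _ _ e (by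
    rw [Ideal.map_map]
    congr 1
    exact (e.toAlgHom.comp_algebraMap).symm)

/-- inverting an element which is `1` modulo `I` does not change the quotient by `I` -/
theorem nonempty_quotient_algEquiv_away {A : Type u} [CommRing A] [Algebra R A] (a : A)
    (ha : a - 1 ∈ I.map (algebraMap R A)) :
    Nonempty ((A ⧸ I.map (algebraMap R A)) ≃ₐ[R]
      (Localization.Away a ⧸ I.map (algebraMap R (Localization.Away a)))) := by
  have hunits : ∀ x ∈ Algebra.algebraMapSubmonoid (A ⧸ I.map (algebraMap R A))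
      (Submonoid.powers a), IsUnit x := by
    rintro _ ⟨_, ⟨k, rfl⟩, rfl⟩
    have h1 : algebraMap A (A ⧸ I.map (algebraMap R A)) a = 1 := by
      rw [← sub_eq_zero, ← map_one (algebraMap A (A ⧸ I.map (algebraMap R A))), ← map_sub]
      exact Ideal.Quotient.eq_zero_iff_mem.mpr ha
    rw [map_pow, h1, one_pow]
    exact isUnit_one
  have e₁ : (A ⧸ I.map (algebraMap R A)) ≃ₐ[A ⧸ I.map (algebraMap R A)]
      (Localization.Away a ⧸ (I.map (algebraMap R A)).map
        (algebraMap A (Localization.Away a))) :=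
    IsLocalization.atUnits _ (Algebra.algebraMapSubmonoid (A ⧸ I.map (algebraMap R A))
      (Submonoid.powers a)) hunits
  have hmap : (I.map (algebraMap R A)).map (algebraMap A (Localization.Away a)) =
      I.map (algebraMap R (Localization.Away a)) := by
    rw [Ideal.map_map, ← IsScalarTower.algebraMap_eq]
  exact ⟨(e₁.restrictScalars R).trans (Ideal.quotientEquivAlgOfEq R hmap)⟩

/-- the quotient of a presented algebra by `I` is the algebra over `R/I` with the same
presentation -/
noncomputable def quotientRelGCIRingEquiv (n c : ℕ) (F : Fin c → MvPolynomial (Fin n) R) :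
    (_root_.Synt.RelGCIRing R n c F ⧸ I.map (algebraMap R (_root_.Synt.RelGCIRing R n c F))) ≃ₐ[R]
      _root_.Synt.RelGCIRing (R ⧸ I) n c (mapRel R n c F (R ⧸ I)) :=
  ((Algebra.TensorProduct.quotIdealMapEquivTensorQuot
      (_root_.Synt.RelGCIRing R n c F) I).restrictScalars R).trans
    ((Algebra.TensorProduct.comm R (_root_.Synt.RelGCIRing R n c F) (R ⧸ I)).trans
      ((fiberEquiv R n c F (R ⧸ I)).restrictScalars R))

/-- the quotient by `I` of the lifted relative global complete intersection -/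
theorem nonempty_quotient_awayRel_algEquiv (n c : ℕ) (F : Fin c → MvPolynomial (Fin n) R)
    (G : MvPolynomial (Fin n) R)
    (hG : Ideal.Quotient.mk (Ideal.span (Set.range F)) G - 1 ∈
        I.map (algebraMap R (_root_.Synt.RelGCIRing R n c F))) :
    Nonempty ((_root_.Synt.RelGCIRing R (n + 1) (c + 1) (awayRel' R n c F G) ⧸
      I.map (algebraMap R (_root_.Synt.RelGCIRing R (n + 1) (c + 1) (awayRel' R n c F G)))) ≃ₐ[R]
      _root_.Synt.RelGCIRing (R ⧸ I) n c (mapRel R n c F (R ⧸ I))) := by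
  obtain ⟨e₁⟩ := nonempty_quotient_algEquiv_away R I
    (Ideal.Quotient.mk (Ideal.span (Set.range F)) G) hG
  exact ⟨((quotMapAlgEquiv R I (awayEquivRelGCIRing R n c F G)).symm.trans e₁.symm).trans
    (quotientRelGCIRingEquiv R I n c F)⟩

end QuotIso

section Cover

variable (R : Type u) [CommRing R] (I : Ideal R) (Sb : Type u) [CommRing Sb]
    [Algebra R Sb] [Algebra (R ⧸ I) Sb] [IsScalarTower R (R ⧸ I) Sb]

/-- **S9150** -/
theorem exists_cover_lift_syntomic_quotient (h : _root_.Synt.IsSyntomic (R ⧸ I) Sb) :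
    ∃ s : Finset Sb, Ideal.span (s : Set Sb) = ⊤ ∧ ∀ g ∈ s,
      ∃ (n c : ℕ) (F : Fin c → MvPolynomial (Fin n) R), _root_.Synt.IsRelGCI R n c F ∧
        Nonempty (Localization.Away g ≃ₐ[R]
          (_root_.Synt.RelGCIRing R n c F ⧸
            I.map (algebraMap R (_root_.Synt.RelGCIRing R n c F)))) := by
  have hspan : Ideal.span {g : Sb | ∃ (n c : ℕ) (F : Fin c → MvPolynomial (Fin n) R),
      _root_.Synt.IsRelGCI R n c F ∧ Nonempty (Localization.Away g ≃ₐ[R]
        (_root_.Synt.RelGCIRing R n c F ⧸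
          I.map (algebraMap R (_root_.Synt.RelGCIRing R n c F))))} = ⊤ := by
    by_contra hne
    obtain ⟨m, hm, hle⟩ := Ideal.exists_le_maximal _ hne
    haveI := hm.isPrime
    obtain ⟨g, hg, n, c, Fb, hrel, ⟨ι⟩⟩ := exists_away_isRelGCI_of_isSyntomic (R ⧸ I) Sb h m
    apply hg
    apply hle
    apply Ideal.subset_span
    -- nontriviality
    haveI hprime := isPrime_map_away m g hg
    haveI : Nontrivial (Localization.Away g) := by
      by_contra hnt
      rw [not_nontrivial_iff_subsingleton] at hnt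
      exact hprime.ne_top (Subsingleton.elim _ _)
    haveI : Nontrivial (_root_.Synt.RelGCIRing (R ⧸ I) n c Fb) := ι.injective.nontrivial
    have hcn := le_of_isRelGCI_of_nontrivial (R ⧸ I) n c Fb hrel
    -- lifts
    have hlift : ∀ i, ∃ f : MvPolynomial (Fin n) R,
        MvPolynomial.map (Ideal.Quotient.mk I) f = Fb i := fun i =>
      MvPolynomial.map_surjective _ Ideal.Quotient.mk_surjective (Fb i)
    choose F hF using hlift
    have hFb : Fb = mapRel R n c F (R ⧸ I) := by
      funext i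
      rw [← hF i]
      rfl
    subst hFb
    obtain ⟨G, hrelT, hG⟩ := exists_isRelGCI_lift R I n c F hcn hrel
    obtain ⟨e₂⟩ := nonempty_quotient_awayRel_algEquiv R I n c F G hG
    exact ⟨n + 1, c + 1, awayRel' R n c F G, hrelT, ⟨(ι.restrictScalars R).trans e₂.symm⟩⟩
  obtain ⟨s, hs, hs'⟩ := (Ideal.span_eq_top_iff_finite _).mp hspan
  exact ⟨s, hs', fun g hg => hs hg⟩

end Cover

end Groth.Agent.Helper2.Synt
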