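import Mathlib
import Groth.Agent.Lib.Helper2.Synt.SyntLift

/-!
# Models of relative global complete intersections over a smaller ring (helper2)

Given a ring map `R₀ → B` and relations `G₀` over `R₀` whose base change to `B` is a relative
global complete intersection, around any point of the spectrum of the presented `B`-algebra the
presentation, after inverting one element defined over `R₀`, is already a relative global complete
intersection over `R₀`.
-/

set_option autoImplicit false
set_option linter.style.haveILetI false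
set_option linter.unusedSectionVars false
universe u

namespace Groth.Agent.Helper2.Synt

open TensorProduct MvPolynomial IsLocalRing

/-- base change commutes with the localized presentation -/
theorem mapRel_awayRel' (R : Type u) [CommRing R] (n c : ℕ) (F : Fin c → MvPolynomial (Fin n) R)
    (h : MvPolynomial (Fin n) R) (A : Type u) [CommRing A] [Algebra R A] :
    mapRel R (n + 1) (c + 1) (awayRel' R n c F h) A =
      awayRel' A n c (mapRel R n c F A) (MvPolynomial.map (algebraMap R A) h) := by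
  funext i
  refine Fin.lastCases ?_ (fun j => ?_) i
  · simp [mapRel, awayRel', MvPolynomial.map_rename]
  · simp [mapRel, awayRel', MvPolynomial.map_rename]

/-- relative global complete intersections are stable under base change -/
theorem isRelGCI_mapRel (R : Type u) [CommRing R] (n c : ℕ) (F : Fin c → MvPolynomial (Fin n) R)
    (A : Type u) [CommRing A] [Algebra R A] (h : _root_.Synt.IsRelGCI R n c F) :
    _root_.Synt.IsRelGCI A n c (mapRel R n c F A) := by
  intro p hnt
  haveI := p.isPrime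
  have h1 := ringKrullDim_fiber_descent R A n c F p.asIdeal
  haveI : (p.asIdeal.comap (algebraMap R A)).IsPrime := Ideal.comap_isPrime _ _
  have hnt0 : Nontrivial ((p.asIdeal.comap (algebraMap R A)).Fiber
      (_root_.Synt.RelGCIRing R n c F)) := by
    by_contra hcon
    rw [not_nontrivial_iff_subsingleton] at hcon
    have h2 := ringKrullDim_eq_bot_of_subsingleton (R := (p.asIdeal.comap (algebraMap R A)).Fiber
      (_root_.Synt.RelGCIRing R n c F))
    rw [h1] at h2
    have h3 := ringKrullDim_nonneg_of_nontrivial (R := p.asIdeal.Fiber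
      (_root_.Synt.RelGCIRing A n c (mapRel R n c F A)))
    rw [h2] at h3
    exact absurd h3 (by simp)
  obtain ⟨hcn, hd⟩ := h ⟨p.asIdeal.comap (algebraMap R A), inferInstance⟩ hnt0
  exact ⟨hcn, h1 ▸ hd⟩

/-- the base change of a localized presentation is the localization of the base change -/
noncomputable def awayMapEquiv (R : Type u) [CommRing R] (n c : ℕ)
    (F : Fin c → MvPolynomial (Fin n) R) (h : MvPolynomial (Fin n) R) (A : Type u) [CommRing A]
    [Algebra R A] :
    _root_.Synt.RelGCIRing A (n + 1) (c + 1) (mapRel R (n + 1) (c + 1) (awayRel' R n c F h) A) ≃ₐ[A]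
      Localization.Away (Ideal.Quotient.mk (Ideal.span (Set.range (mapRel R n c F A)))
        (MvPolynomial.map (algebraMap R A) h)) :=
  (Ideal.quotientEquivAlgOfEq A (by rw [mapRel_awayRel'])).trans
    (awayEquivRelGCIRing A n c (mapRel R n c F A) (MvPolynomial.map (algebraMap R A) h)).symm

theorem ringKrullDim_fiber_congr {R S : Type u} [CommRing R] [CommRing S] [Algebra R S]
    (I₁ I₂ : Ideal R) [I₁.IsPrime] [I₂.IsPrime] (h : I₁ = I₂) :
    ringKrullDim (I₁.Fiber S) = ringKrullDim (I₂.Fiber S) := by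
  subst h
  rfl

/-- **The model lemma.** -/
theorem exists_isRelGCI_model (R₀ B : Type u) [CommRing R₀] [CommRing B] [Algebra R₀ B] (m c : ℕ)
    (G₀ : Fin c → MvPolynomial (Fin m) R₀)
    (hrel : _root_.Synt.IsRelGCI B m c (mapRel R₀ m c G₀ B))
    (q' : Ideal (MvPolynomial (Fin m) B)) [q'.IsPrime]
    (hq' : Ideal.span (Set.range (mapRel R₀ m c G₀ B)) ≤ q') :
    ∃ H₀ : MvPolynomial (Fin m) R₀,
      MvPolynomial.map (algebraMap R₀ B) H₀ ∉ q' ∧
      _root_.Synt.IsRelGCI R₀ (m + 1) (c + 1) (awayRel' R₀ m c G₀ H₀) ∧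
      ∃ Q : PrimeSpectrum (_root_.Synt.RelGCIRing R₀ (m + 1) (c + 1) (awayRel' R₀ m c G₀ H₀)),
        (PrimeSpectrum.comap (algebraMap R₀
          (_root_.Synt.RelGCIRing R₀ (m + 1) (c + 1) (awayRel' R₀ m c G₀ H₀))) Q).asIdeal =
          q'.comap (algebraMap R₀ (MvPolynomial (Fin m) B)) := by
  obtain ⟨μ, hμ⟩ : ∃ μ : MvPolynomial (Fin m) R₀ →+* MvPolynomial (Fin m) B,
      μ = MvPolynomial.map (algebraMap R₀ B) := ⟨_, rfl⟩
  haveI h𝔮₀ : (q'.comap μ).IsPrime := Ideal.comap_isPrime _ _
  have hle₀ : Ideal.span (Set.range G₀) ≤ q'.comap μ := by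
    rw [Ideal.span_le]
    rintro _ ⟨i, rfl⟩
    rw [SetLike.mem_coe, Ideal.mem_comap, hμ]
    exact hq' (Ideal.subset_span ⟨i, rfl⟩)
  have hker : RingHom.ker (Ideal.Quotient.mk (Ideal.span (Set.range G₀))) ≤ q'.comap μ := by
    rw [Ideal.mk_ker]
    exact hle₀
  haveI h𝔮₀' : ((q'.comap μ).map (Ideal.Quotient.mk (Ideal.span (Set.range G₀)))).IsPrime :=
    Ideal.map_isPrime_of_surjective Ideal.Quotient.mk_surjective hker
  have hcomap : ((q'.comap μ).map (Ideal.Quotient.mk (Ideal.span (Set.range G₀)))).comap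
      (Ideal.Quotient.mk (Ideal.span (Set.range G₀))) = q'.comap μ := by
    rw [Ideal.comap_map_of_surjective _ Ideal.Quotient.mk_surjective, ← RingHom.ker_eq_comap_bot]
    exact sup_eq_left.mpr hker
  obtain ⟨hcm, hdim⟩ := fibre_dim_of_isRelGCI B m c (mapRel R₀ m c G₀ B) q' hrel hq'
  haveI : (q'.comap (algebraMap B (MvPolynomial (Fin m) B))).IsPrime := Ideal.comap_isPrime _ _
  have h1 := ringKrullDim_fiber_descent R₀ B m c G₀ (q'.comap (algebraMap B (MvPolynomial (Fin m) B)))
  haveI : ((q'.comap (algebraMap B (MvPolynomial (Fin m) B))).comap (algebraMap R₀ B)).IsPrime :=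
    Ideal.comap_isPrime _ _
  have hunder : ((q'.comap μ).map (Ideal.Quotient.mk (Ideal.span (Set.range G₀)))).under R₀ =
      (q'.comap (algebraMap B (MvPolynomial (Fin m) B))).comap (algebraMap R₀ B) := by
    ext x
    rw [Ideal.under, Ideal.mem_comap, Ideal.mem_comap, Ideal.mem_comap]
    have h2 : algebraMap R₀ (_root_.Synt.RelGCIRing R₀ m c G₀) x =
        Ideal.Quotient.mk (Ideal.span (Set.range G₀)) (MvPolynomial.C x) := rfl
    rw [h2, ← Ideal.mem_comap, hcomap, Ideal.mem_comap, hμ, MvPolynomial.map_C]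
    rfl
  haveI : (((q'.comap μ).map (Ideal.Quotient.mk (Ideal.span (Set.range G₀)))).under R₀).IsPrime :=
    Ideal.comap_isPrime _ _
  have hd : ringKrullDim ((((q'.comap μ).map
      (Ideal.Quotient.mk (Ideal.span (Set.range G₀)))).under R₀).Fiber
        (_root_.Synt.RelGCIRing R₀ m c G₀)) ≤ ((m - c : ℕ) : WithBot ℕ∞) := by
    rw [ringKrullDim_fiber_congr _ _ hunder, h1, hdim]
  obtain ⟨g, hgood, hg⟩ := exists_fibreDimLE_notMem
    ((q'.comap μ).map (Ideal.Quotient.mk (Ideal.span (Set.range G₀)))) (m - c) hd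
  obtain ⟨H₀, rfl⟩ := Ideal.Quotient.mk_surjective g
  have hH₀ : H₀ ∉ q'.comap μ := fun hmem => hg (Ideal.mem_map_of_mem _ hmem)
  refine ⟨H₀, ?_, isRelGCI_away_of_fibreDimLE hcm hgood, ?_⟩
  · intro hmem
    apply hH₀
    rw [Ideal.mem_comap, hμ]
    exact hmem
  · haveI hP := isPrime_map_away ((q'.comap μ).map
      (Ideal.Quotient.mk (Ideal.span (Set.range G₀)))) _ hg
    have hc := comap_map_away ((q'.comap μ).map
      (Ideal.Quotient.mk (Ideal.span (Set.range G₀)))) _ hg
    obtain ⟨e, he⟩ : ∃ e : Localization.Away (Ideal.Quotient.mk (Ideal.span (Set.range G₀)) H₀) ≃ₐ[R₀]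
        _root_.Synt.RelGCIRing R₀ (m + 1) (c + 1) (awayRel' R₀ m c G₀ H₀), True :=
      ⟨awayEquivRelGCIRing R₀ m c G₀ H₀, trivial⟩
    refine ⟨⟨(((q'.comap μ).map (Ideal.Quotient.mk (Ideal.span (Set.range G₀)))).map
      (algebraMap _ (Localization.Away (Ideal.Quotient.mk (Ideal.span (Set.range G₀)) H₀)))).comap
        e.symm.toAlgHom.toRingHom, Ideal.comap_isPrime _ _⟩, ?_⟩
    ext x
    rw [PrimeSpectrum.comap_asIdeal, Ideal.mem_comap, Ideal.mem_comap]
    have h3 : e.symm.toAlgHom.toRingHom (algebraMap R₀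
        (_root_.Synt.RelGCIRing R₀ (m + 1) (c + 1) (awayRel' R₀ m c G₀ H₀)) x) =
        algebraMap (_root_.Synt.RelGCIRing R₀ m c G₀) _ (algebraMap R₀ _ x) := by
      rw [← IsScalarTower.algebraMap_apply]
      exact e.symm.commutes x
    rw [h3, ← Ideal.mem_comap, hc]
    have h4 := hunder
    rw [Ideal.ext_iff] at h4
    have h5 := h4 x
    rw [Ideal.under, Ideal.mem_comap] at h5
    rw [h5, Ideal.mem_comap, Ideal.mem_comap, Ideal.mem_comap, MvPolynomial.algebraMap_apply]
    rfl

end Groth.Agent.Helper2.Synt
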