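import Mathlib
import Groth.Agent.Lib.Helper4.EtaleDescFT1
import Groth.Agent.Lib.Helper2.Synt.LciSrcModel

/-!
# Finite type descends along flat finitely presented models (helper2)

A generalization of helper4's `fg_top_of_model` (same proof): the model lives over an arbitrary
finite type algebra `A₀ → A` instead of a subalgebra, and faithful flatness is replaced by the
hypothesis that every prime of `A` lands in the image of the spectrum of the model.
-/

set_option autoImplicit false
set_option linter.style.haveILetI false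
set_option linter.unusedSectionVars false
universe u

namespace Groth.Agent.Helper2.Synt

open TensorProduct PrimeSpectrum MvPolynomial
open Groth.Agent.Lib.Helper4.EtaleDescFT1

theorem finiteType_of_flat_model {R A A₀ C₀ : Type*} [CommRing R] [CommRing A] [CommRing A₀]
    [CommRing C₀] [Algebra R A] [Algebra R A₀] [Algebra A₀ A] [IsScalarTower R A₀ A]
    [Algebra A₀ C₀] [Module.Flat A₀ C₀] [Algebra.FinitePresentation A₀ C₀]
    [Algebra.FiniteType R A₀]
    (hland : ∀ 𝔭 : PrimeSpectrum A,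
      comap (algebraMap A₀ A) 𝔭 ∈ Set.range (comap (algebraMap A₀ C₀)))
    [Algebra.FiniteType R (A ⊗[A₀] C₀)] : Algebra.FiniteType R A := by
  classical
  have hopen : IsOpenMap (comap (algebraMap A₀ C₀)) :=
    isOpenMap_comap_of_hasGoingDown_of_finitePresentation
  obtain ⟨t, ht⟩ := (isCompact_isOpen_iff (s := Set.range (comap (algebraMap A₀ C₀)))).mp
    ⟨isCompact_range (continuous_comap _), hopen.isOpen_range⟩
  have hspan : Ideal.span ((fun h : A₀ => algebraMap A₀ A h) '' (t : Set A₀)) = ⊤ := by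
    by_contra hne
    obtain ⟨𝔪, h𝔪, hle⟩ := Ideal.exists_le_maximal _ hne
    have h1 := hland ⟨𝔪, h𝔪.isPrime⟩
    rw [← ht, Set.mem_compl_iff, mem_zeroLocus] at h1
    apply h1
    intro h hh
    exact hle (Ideal.subset_span ⟨h, hh, rfl⟩)
  have h1mem : (1 : A) ∈ Submodule.span A ((fun h : A₀ => algebraMap A₀ A h) '' (t : Set A₀)) := by
    change (1 : A) ∈ Ideal.span _
    rw [hspan]; trivial
  rw [Submodule.mem_span_image_finset_iff_exists_fun'] at h1mem
  obtain ⟨cf, hcf⟩ := h1mem
  obtain ⟨S, hS⟩ := (inferInstance : Algebra.FiniteType R (A ⊗[A₀] C₀)).out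
  choose F hF using fun γ : A ⊗[A₀] C₀ => exists_finset_span_tmul (A₀ := A₀) γ
  let G : Finset A := S.biUnion F ∪ t.image cf
  let A₁ : Subalgebra R A := (IsScalarTower.toAlgHom R A₀ A).range ⊔ Algebra.adjoin R (G : Set A)
  have hle : ∀ s : A₀, algebraMap A₀ A s ∈ A₁ := fun s => (le_sup_left : _ ≤ A₁) ⟨s, rfl⟩
  have hG : ∀ x ∈ G, x ∈ A₁ := fun x hx =>
    (le_sup_right : _ ≤ A₁) (Algebra.subset_adjoin (Finset.mem_coe.mpr hx))
  have hrange : (IsScalarTower.toAlgHom R A₀ A).range.FG := by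
    rw [← Algebra.map_top]
    exact Subalgebra.FG.map _ (Algebra.FiniteType.out)
  have hA₁ : A₁.FG := hrange.sup (Subalgebra.fg_adjoin_finset G)
  let M₁ : Submodule A₀ A :=
    { carrier := A₁
      add_mem' := A₁.add_mem
      zero_mem' := A₁.zero_mem
      smul_mem' := fun s a ha => by
        rw [Algebra.smul_def]
        exact A₁.mul_mem (hle s) ha }
  have hM₁ : ∀ a, a ∈ M₁ ↔ a ∈ A₁ := fun a => Iff.rfl
  have hsurj : Function.Surjective (M₁.subtype.rTensor C₀) := by
    intro x
    have hx : x ∈ Algebra.adjoin R (S : Set (A ⊗[A₀] C₀)) := by rw [hS]; trivial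
    change x ∈ LinearMap.range (M₁.subtype.rTensor C₀)
    induction hx using Algebra.adjoin_induction with
    | mem γ hγ =>
      refine Submodule.span_le.mpr ?_ (hF γ)
      rintro _ ⟨a, ha, c, rfl⟩
      have haG : a ∈ G := Finset.mem_union_left _ (Finset.mem_biUnion.mpr ⟨γ, hγ, ha⟩)
      exact ⟨⟨a, hG a haG⟩ ⊗ₜ c, by simp⟩
    | algebraMap r =>
      refine ⟨⟨algebraMap R A r, A₁.algebraMap_mem r⟩ ⊗ₜ 1, ?_⟩
      simp [Algebra.TensorProduct.algebraMap_apply]
    | add x y _ _ hx hy => exact Submodule.add_mem _ hx hy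
    | mul x y _ _ hx hy =>
      exact mul_mem_range_rTensor M₁ (fun a ha b hb => A₁.mul_mem ha hb) x y hx hy
  refine ⟨?_⟩
  suffices A₁ = ⊤ by rw [← this]; exact hA₁
  rw [eq_top_iff]
  intro a _
  have hpow : ∀ h ∈ t, ∃ N : ℕ, h ^ N • a ∈ M₁ := fun h hh =>
    exists_pow_smul_mem M₁ hsurj h (by
      rw [← ht]
      intro p hp
      rw [Set.mem_compl_iff, mem_zeroLocus]
      intro hsub
      exact hp (hsub hh)) a
  choose! Nf hNf using hpow
  let n := t.sup Nf
  have hn : ∀ h ∈ t, (algebraMap A₀ A h) ^ n * a ∈ A₁ := by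
    intro h hh
    have h1 : Nf h ≤ n := Finset.le_sup hh
    have h2 : (algebraMap A₀ A h) ^ (Nf h) * a ∈ A₁ := by
      have := hNf h hh
      rw [hM₁, Algebra.smul_def, map_pow] at this
      exact this
    have h3 : (algebraMap A₀ A h) ^ n * a =
        (algebraMap A₀ A h) ^ (n - Nf h) * ((algebraMap A₀ A h) ^ (Nf h) * a) := by
      rw [← mul_assoc, ← pow_add, Nat.sub_add_cancel h1]
    rw [h3]
    exact A₁.mul_mem (A₁.pow_mem (hle h) _) h2
  let J : Ideal A₁ :=
    { carrier := {s | (s : A) * a ∈ A₁}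
      add_mem' := fun {x y} hx hy => by
        simp only [Set.mem_ofPred_eq, Subalgebra.coe_add, add_mul] at *
        exact A₁.add_mem hx hy
      zero_mem' := by simp
      smul_mem' := fun c x hx => by
        simp only [Set.mem_ofPred_eq, smul_eq_mul, Subalgebra.coe_mul, mul_assoc] at *
        exact A₁.mul_mem c.2 hx }
  let c' : A₀ → A₁ := fun h => if hh : h ∈ t then ⟨cf h, hG _ (Finset.mem_union_right _
    (Finset.mem_image_of_mem cf hh))⟩ else 0
  let ι₁ : A₀ → A₁ := fun h => ⟨algebraMap A₀ A h, hle h⟩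
  have hsum : ∑ h ∈ t, c' h * ι₁ h = 1 := by
    apply Subtype.ext
    rw [← A₁.val_apply, map_sum, Subalgebra.coe_one, ← hcf]
    refine Finset.sum_congr rfl fun h hh => ?_
    simp [c', ι₁, hh]
  have hspan₁ : Ideal.span (ι₁ '' (t : Set A₀)) = ⊤ := by
    rw [Ideal.eq_top_iff_one, ← hsum]
    exact Ideal.sum_mem _ fun h hh =>
      Ideal.mul_mem_left _ _ (Ideal.subset_span ⟨h, hh, rfl⟩)
  have hJ : J = ⊤ := by
    rw [eq_top_iff, ← Ideal.span_pow_eq_top _ hspan₁ n, Ideal.span_le]
    rintro _ ⟨_, ⟨h, hh, rfl⟩, rfl⟩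
    exact hn h hh
  have h1J : (1 : A₁) ∈ J := by rw [hJ]; trivial
  simpa [J] using h1J

theorem finiteType_tensor_of_finiteType {R A A' D : Type*} [CommRing R] [CommRing A] [CommRing A']
    [CommRing D] [Algebra R A] [Algebra A A'] [Algebra R A'] [IsScalarTower R A A'] [Algebra A D]
    [Algebra R D] [IsScalarTower R A D] [Algebra.FiniteType A A'] [Algebra.FiniteType R D] :
    Algebra.FiniteType R (A' ⊗[A] D) := by
  haveI h1 : Algebra.FiniteType D (D ⊗[A] A') := inferInstance
  haveI h2 : Algebra.FiniteType R (D ⊗[A] A') := Algebra.FiniteType.trans (S := D) inferInstance h1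
  exact Algebra.FiniteType.equiv h2 ((Algebra.TensorProduct.comm A D A').restrictScalars R)

theorem exists_away_finiteType_of_flat_model {R A A₀ C₀ : Type u} [CommRing R] [CommRing A]
    [CommRing A₀] [CommRing C₀] [Algebra R A] [Algebra R A₀] [Algebra A₀ A] [IsScalarTower R A₀ A]
    [Algebra A₀ C₀] [Module.Flat A₀ C₀] [Algebra.FinitePresentation A₀ C₀]
    [Algebra.FiniteType R A₀] [Algebra.FiniteType R (A ⊗[A₀] C₀)] (q : Ideal A) [q.IsPrime]
    (hq : (⟨q.comap (algebraMap A₀ A), Ideal.comap_isPrime _ _⟩ : PrimeSpectrum A₀) ∈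
      Set.range (comap (algebraMap A₀ C₀))) :
    ∃ b : A, b ∉ q ∧ Algebra.FiniteType R (Localization.Away b) := by
  have hopen : IsOpenMap (comap (algebraMap A₀ C₀)) :=
    isOpenMap_comap_of_hasGoingDown_of_finitePresentation
  obtain ⟨_, ⟨h₀, rfl⟩, hqh₀, hsub⟩ :=
    PrimeSpectrum.isTopologicalBasis_basic_opens.exists_subset_of_mem_open hq hopen.isOpen_range
  have hb : algebraMap A₀ A h₀ ∉ q := hqh₀
  refine ⟨algebraMap A₀ A h₀, hb, ?_⟩
  haveI : Algebra.FiniteType R (Localization.Away (algebraMap A₀ A h₀) ⊗[A] (A ⊗[A₀] C₀)) :=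
    finiteType_tensor_of_finiteType
  haveI : Algebra.FiniteType R (Localization.Away (algebraMap A₀ A h₀) ⊗[A₀] C₀) :=
    Algebra.FiniteType.equiv inferInstance
      ((Algebra.TensorProduct.cancelBaseChange A₀ A A
        (Localization.Away (algebraMap A₀ A h₀)) C₀).restrictScalars R)
  refine finiteType_of_flat_model (R := R) (A₀ := A₀) (C₀ := C₀) ?_
  intro 𝔭
  apply hsub
  show h₀ ∉ (comap (algebraMap A₀ (Localization.Away (algebraMap A₀ A h₀))) 𝔭).asIdeal
  rw [PrimeSpectrum.comap_asIdeal, Ideal.mem_comap,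
    IsScalarTower.algebraMap_apply A₀ A (Localization.Away (algebraMap A₀ A h₀))]
  intro hmem
  exact 𝔭.isPrime.ne_top (Ideal.eq_top_of_isUnit_mem _ hmem
    (IsLocalization.Away.algebraMap_isUnit (algebraMap A₀ A h₀)))

/-- finitely many polynomials are defined over a finite type subalgebra -/
theorem exists_finiteType_descent' (A R : Type u) [CommRing A] [CommRing R] [Algebra A R]
    (σ : Type*) {c : ℕ} (F : Fin c → MvPolynomial σ R) :
    ∃ (R₀ : Subalgebra A R) (F₀ : Fin c → MvPolynomial σ R₀), Algebra.FiniteType A R₀ ∧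
      ∀ i, MvPolynomial.map (algebraMap R₀ R) (F₀ i) = F i := by
  classical
  let s : Finset R := Finset.univ.biUnion fun i => (F i).coeffs
  let R₀ : Subalgebra A R := Algebra.adjoin A (s : Set R)
  have hfg : R₀.FG := Subalgebra.fg_adjoin_finset s
  have hF : ∀ i, F i ∈ Set.range (MvPolynomial.map (σ := σ) (algebraMap R₀ R)) := by
    intro i
    rw [MvPolynomial.mem_range_map_iff_coeffs_subset]
    intro x hx
    refine ⟨⟨x, Algebra.subset_adjoin ?_⟩, rfl⟩
    simp only [s, Finset.coe_biUnion, Finset.coe_univ, Set.mem_univ, Set.iUnion_true,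
      Set.mem_iUnion]
    exact ⟨i, hx⟩
  choose F₀ hF₀ using hF
  exact ⟨R₀, F₀, (Subalgebra.fg_iff_finiteType R₀).mp hfg, hF₀⟩

theorem exists_away_finiteType_of_relGCI (A B : Type u) [CommRing A] [CommRing B] [Algebra A B]
    (m c : ℕ) (G : Fin c → MvPolynomial (Fin m) B) (hrel : _root_.Synt.IsRelGCI B m c G)
    [hft : Algebra.FiniteType A (_root_.Synt.RelGCIRing B m c G)]
    (q' : Ideal (MvPolynomial (Fin m) B)) [q'.IsPrime] (hq' : Ideal.span (Set.range G) ≤ q') :
    ∃ b : B, b ∉ q'.comap (algebraMap B (MvPolynomial (Fin m) B)) ∧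
      Algebra.FiniteType A (Localization.Away b) := by
  obtain ⟨B₀, G₀, hB₀, hG₀⟩ := exists_finiteType_descent' A B (Fin m) G
  have hG : G = mapRel B₀ m c G₀ B := funext fun i => (hG₀ i).symm
  subst hG
  obtain ⟨H₀, hH₀, hrel₀, Q, hQ⟩ := exists_isRelGCI_model B₀ B m c G₀ hrel q' hq'
  haveI : Module.Flat B₀ (_root_.Synt.RelGCIRing B₀ (m + 1) (c + 1) (awayRel' B₀ m c G₀ H₀)) :=
    flat_of_isRelGCI B₀ (m + 1) (c + 1) _ hrel₀
  haveI : Algebra.FinitePresentation B₀
      (_root_.Synt.RelGCIRing B₀ (m + 1) (c + 1) (awayRel' B₀ m c G₀ H₀)) :=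
    Algebra.FinitePresentation.quotient (Submodule.fg_span (Set.finite_range _))
  haveI h1 : Algebra.FiniteType A (Localization.Away
      (Ideal.Quotient.mk (Ideal.span (Set.range (mapRel B₀ m c G₀ B)))
        (MvPolynomial.map (algebraMap B₀ B) H₀))) :=
    Algebra.FiniteType.trans hft inferInstance
  haveI h2 : Algebra.FiniteType A
      (B ⊗[B₀] _root_.Synt.RelGCIRing B₀ (m + 1) (c + 1) (awayRel' B₀ m c G₀ H₀)) :=
    Algebra.FiniteType.equiv h1
      (((fiberEquiv B₀ (m + 1) (c + 1) (awayRel' B₀ m c G₀ H₀) B).trans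
        (awayMapEquiv B₀ m c G₀ H₀ B)).symm.restrictScalars A)
  haveI : (q'.comap (algebraMap B (MvPolynomial (Fin m) B))).IsPrime := Ideal.comap_isPrime _ _
  refine exists_away_finiteType_of_flat_model (R := A) (A₀ := B₀)
    (C₀ := _root_.Synt.RelGCIRing B₀ (m + 1) (c + 1) (awayRel' B₀ m c G₀ H₀))
    (q'.comap (algebraMap B (MvPolynomial (Fin m) B))) ⟨Q, ?_⟩
  apply PrimeSpectrum.ext
  rw [hQ]
  show _ = Ideal.comap (algebraMap B₀ B) (Ideal.comap (algebraMap B (MvPolynomial (Fin m) B)) q')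
  rw [Ideal.comap_comap, ← IsScalarTower.algebraMap_eq]

/-- a chart of a syntomic algebra around a prime, with the prime transported to the polynomial
ring of the chart -/
theorem exists_chart_of_isSyntomic (B C : Type u) [CommRing B] [CommRing C] [Algebra B C]
    (hBC : _root_.Synt.IsSyntomic B C) (q' : Ideal C) [q'.IsPrime] :
    ∃ g : C, g ∉ q' ∧ ∃ (m c : ℕ) (G : Fin c → MvPolynomial (Fin m) B),
      _root_.Synt.IsRelGCI B m c G ∧
      Nonempty (Localization.Away g ≃ₐ[B] _root_.Synt.RelGCIRing B m c G) ∧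
      ∃ q'' : Ideal (MvPolynomial (Fin m) B), q''.IsPrime ∧ Ideal.span (Set.range G) ≤ q'' ∧
        q''.comap (algebraMap B (MvPolynomial (Fin m) B)) = q'.comap (algebraMap B C) := by
  obtain ⟨g, hg, m, c, G, hrel, ⟨ι⟩⟩ := exists_away_isRelGCI_of_isSyntomic B C hBC q'
  refine ⟨g, hg, m, c, G, hrel, ⟨ι⟩, ?_⟩
  haveI hP := isPrime_map_away q' g hg
  have hc := comap_map_away q' g hg
  refine ⟨((q'.map (algebraMap C (Localization.Away g))).comap ι.symm.toAlgHom.toRingHom).comap
    (Ideal.Quotient.mk (Ideal.span (Set.range G))), Ideal.comap_isPrime _ _, ?_, ?_⟩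
  · intro x hx
    rw [Ideal.mem_comap, Ideal.Quotient.eq_zero_iff_mem.mpr hx]
    exact Ideal.zero_mem _
  · ext x
    rw [Ideal.mem_comap, Ideal.mem_comap, Ideal.mem_comap, Ideal.mem_comap]
    have h1 : ι.symm.toAlgHom.toRingHom (Ideal.Quotient.mk (Ideal.span (Set.range G))
        (algebraMap B (MvPolynomial (Fin m) B) x)) =
        algebraMap C (Localization.Away g) (algebraMap B C x) := by
      rw [← IsScalarTower.algebraMap_apply]
      exact ι.symm.commutes x
    rw [h1, ← Ideal.mem_comap, hc]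

theorem finiteType_of_syntomic_comp (A B C : Type u) [CommRing A] [CommRing B] [CommRing C]
    [Algebra A B] [Algebra B C] [Algebra A C] [IsScalarTower A B C]
    (hBC : _root_.Synt.IsSyntomic B C)
    (hsurj : Function.Surjective (PrimeSpectrum.comap (algebraMap B C)))
    [hAC : Algebra.FiniteType A C] : Algebra.FiniteType A B := by
  have hspan : Ideal.span {b : B | Algebra.FiniteType A (Localization.Away b)} = ⊤ := by
    by_contra hne
    obtain ⟨𝔪, h𝔪, hle⟩ := Ideal.exists_le_maximal _ hne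
    haveI := h𝔪.isPrime
    obtain ⟨⟨q', hq'p⟩, hq'⟩ := hsurj ⟨𝔪, h𝔪.isPrime⟩
    haveI := hq'p
    have hq'𝔪 : q'.comap (algebraMap B C) = 𝔪 := congrArg PrimeSpectrum.asIdeal hq'
    obtain ⟨g, hg, m, c, G, hrel, ⟨ι⟩, q'', hq''p, hGq'', hq''⟩ :=
      exists_chart_of_isSyntomic B C hBC q'
    haveI := hq''p
    haveI h1 : Algebra.FiniteType A (Localization.Away g) :=
      Algebra.FiniteType.trans hAC inferInstance
    haveI h2 : Algebra.FiniteType A (_root_.Synt.RelGCIRing B m c G) :=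
      Algebra.FiniteType.equiv h1 (ι.restrictScalars A)
    obtain ⟨b, hb, hbft⟩ := exists_away_finiteType_of_relGCI A B m c G hrel q'' hGq''
    rw [hq'', hq'𝔪] at hb
    exact hb (hle (Ideal.subset_span hbft))
  rw [← RingHom.finiteType_algebraMap]
  refine RingHom.finiteType_ofLocalizationSpanTarget (algebraMap A B) _ hspan ?_
  rintro ⟨b, hb⟩
  have h1 : Algebra.FiniteType A (Localization.Away b) := hb
  rw [← RingHom.finiteType_algebraMap, IsScalarTower.algebraMap_eq A B (Localization.Away b)] at h1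
  exact h1

end Groth.Agent.Helper2.Synt
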