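import Mathlib
import Groth.Agent.Lib.Helper4.KosQuot4
import Groth.Agent.Lib.Helper4.KosH1b
import Groth.Agent.Lib.Helper2.Synt.LciSrcModel
import Groth.Agent.Lib.Lead.LciDesc4

/-!
# Koszul-regularity through a relative global complete intersection (helper2)

The algebraic core of "lci is syntomic local on the source": triangular independence from
`H_1`-regularity, the quotient step, local flat descent, and kernels of presentations of lci
algebras by iterated polynomial rings.
-/

set_option autoImplicit false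
set_option linter.style.haveILetI false
set_option linter.unusedSectionVars false
universe u

namespace Groth.Agent.Helper2.Synt

open TensorProduct PrimeSpectrum MvPolynomial
open Groth.Agent.Lib.Helper4.KosExch1 Groth.Agent.Lib.Helper4.KosQuot2

theorem indepT_ofFn {R : Type u} [CommRing R] (𝔭 J : Ideal R) :
    ∀ (c : ℕ) (G : Fin c → R) (pre : List R),
      (∀ (k : Fin c) (s : R),
        s * G k ∈ Ideal.ofList pre ⊔ Ideal.span (G '' {j | j < k}) ⊔ 𝔭 * J → s ∈ 𝔭) →
      IndepT 𝔭 J pre (List.ofFn G)
  | 0, G, pre, _ => by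
    rw [List.ofFn_zero]
    trivial
  | c + 1, G, pre, h => by
    rw [List.ofFn_succ]
    refine ⟨fun s hs => h 0 s ?_, indepT_ofFn 𝔭 J c (fun i => G i.succ) (pre ++ [G 0])
      (fun k s hs => h k.succ s ?_)⟩
    · have hmono : Ideal.ofList pre ⊔ 𝔭 * J ≤
          Ideal.ofList pre ⊔ Ideal.span (G '' {j | j < 0}) ⊔ 𝔭 * J :=
        sup_le_sup_right le_sup_left _
      exact hmono hs
    · have hmono : Ideal.ofList (pre ++ [G 0]) ⊔
          Ideal.span ((fun i : Fin c => G i.succ) '' {j | j < k}) ⊔ 𝔭 * J ≤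
          Ideal.ofList pre ⊔ Ideal.span (G '' {j | j < k.succ}) ⊔ 𝔭 * J := by
        refine sup_le_sup_right ?_ _
        rw [ofList_append', Ideal.ofList_singleton, sup_assoc]
        refine sup_le_sup_left ?_ _
        refine sup_le ?_ ?_
        · rw [Ideal.span_le]
          rintro _ rfl
          exact Ideal.subset_span ⟨0, Fin.succ_pos k, rfl⟩
        · refine Ideal.span_mono ?_
          rintro _ ⟨j, hj, rfl⟩
          exact ⟨j.succ, Fin.succ_lt_succ_iff.mpr hj, rfl⟩
      exact hmono hs

/-- coefficient extraction for an `H_1`-regular sequence -/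
theorem mem_of_mul_mem_of_h1 {S : Type u} [CommRing S] {c : ℕ} (g : Fin c → S)
    (hH1 : CAlgX.IsH1Regular g) (𝔮 : Ideal S) (hg : ∀ i, g i ∈ 𝔮) (k : Fin c) (t : S)
    (ht : t * g k ∈ Ideal.span (g '' {j | j < k}) ⊔ 𝔮 * Ideal.span (Set.range g)) : t ∈ 𝔮 := by
  classical
  -- the linear map
  let Φ : (Fin c → S) →ₗ[S] S := Fintype.linearCombination S g
  have hΦ : ∀ a, Φ a = ∑ i, a i * g i := fun a => by
    simp [Φ, Fintype.linearCombination_apply]
  let W : Submodule S (Fin c → S) :=
    { carrier := {a | a k ∈ 𝔮}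
      add_mem' := fun {a b} ha hb => by
        simp only [Set.mem_ofPred_eq, Pi.add_apply] at *
        exact 𝔮.add_mem ha hb
      zero_mem' := by simp
      smul_mem' := fun s a ha => by
        simp only [Set.mem_ofPred_eq, Pi.smul_apply, smul_eq_mul] at *
        exact 𝔮.mul_mem_left _ ha }
  have hle : Ideal.span (g '' {j | j < k}) ⊔ 𝔮 * Ideal.span (Set.range g) ≤ W.map Φ := by
    refine sup_le ?_ ?_
    · rw [Ideal.span_le]
      rintro _ ⟨j, hj, rfl⟩
      refine ⟨Pi.single j 1, ?_, ?_⟩
      · show (Pi.single j (1 : S) : Fin c → S) k ∈ 𝔮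
        rw [Pi.single_apply, if_neg (ne_of_gt hj)]
        exact 𝔮.zero_mem
      · rw [hΦ]
        simp [Pi.single_apply]
    · rw [Ideal.mul_le]
      intro b hb x hx
      induction hx using Submodule.span_induction with
      | mem y hy =>
        obtain ⟨i, rfl⟩ := hy
        refine ⟨Pi.single i b, ?_, ?_⟩
        · show (Pi.single i b : Fin c → S) k ∈ 𝔮
          rw [Pi.single_apply]
          split_ifs
          · exact hb
          · exact 𝔮.zero_mem
        · rw [hΦ]
          simp [Pi.single_apply]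
      | zero => rw [mul_zero]; exact Submodule.zero_mem _
      | add x y _ _ hx hy => rw [mul_add]; exact Submodule.add_mem _ hx hy
      | smul s x _ hx =>
        rw [smul_eq_mul, mul_left_comm]
        exact Submodule.smul_mem _ s hx
  obtain ⟨a, haW, haΦ⟩ := hle ht
  have hrel : ∑ i, ((Pi.single k t : Fin c → S) - a) i * g i = 0 := by
    have h1 : Φ ((Pi.single k t : Fin c → S) - a) = 0 := by
      rw [map_sub, haΦ, hΦ]
      simp [Pi.single_apply]
    rw [hΦ] at h1
    exact h1
  have h2 := Groth.Agent.Lib.Helper4.KosH1b.coord_mem_of_mem_span g 𝔮 hg _ (hH1 _ hrel) k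
  have h3 : ((Pi.single k t : Fin c → S) - a) k = t - a k := by simp
  rw [h3] at h2
  have h4 := 𝔮.add_mem h2 haW
  rwa [sub_add_cancel] at h4

/-- the extension of the kernel of `P → B` to a relative global complete intersection over `P`
is Koszul-regular as soon as the kernel of the presentation of its base change to `B` is -/
theorem krIdeal_map_of_relGCI (P B : Type u) [CommRing P] [CommRing B] [Algebra P B]
    (hsurj : Function.Surjective (algebraMap P B)) (m c : ℕ) (G : Fin c → MvPolynomial (Fin m) P)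
    (hrelP : _root_.Synt.IsRelGCI P m c G)
    (hJ : LCI.IsKoszulRegularIdeal ((Ideal.span (Set.range (mapRel P m c G B))).comap
      (MvPolynomial.map (algebraMap P B)))) :
    LCI.IsKoszulRegularIdeal ((RingHom.ker (algebraMap P B)).map
      (algebraMap P (_root_.Synt.RelGCIRing P m c G))) := by
  obtain ⟨μ, hμdef⟩ : ∃ μ : MvPolynomial (Fin m) P →+* MvPolynomial (Fin m) B,
      μ = MvPolynomial.map (algebraMap P B) := ⟨_, rfl⟩
  rw [← hμdef] at hJ
  have hμ : Function.Surjective μ := by
    rw [hμdef]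
    exact MvPolynomial.map_surjective _ hsurj
  have hμG : ∀ i, μ (G i) = mapRel P m c G B i := fun i => by rw [hμdef]; rfl
  have hmapspan : (Ideal.span (Set.range G)).map μ = Ideal.span (Set.range (mapRel P m c G B)) := by
    rw [Ideal.map_span, ← Set.range_comp]
    congr 2
    funext i
    exact hμG i
  obtain ⟨J, hJdef⟩ : ∃ J : Ideal (MvPolynomial (Fin m) P),
      J = (Ideal.span (Set.range (mapRel P m c G B))).comap μ := ⟨_, rfl⟩
  rw [← hJdef] at hJ
  have hJmap : J.map μ = Ideal.span (Set.range (mapRel P m c G B)) := by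
    rw [hJdef]
    exact Ideal.map_comap_of_surjective μ hμ _
  have hkerμ : RingHom.ker μ ≤ J := by
    intro x hx
    rw [hJdef, Ideal.mem_comap, (RingHom.mem_ker).mp hx]
    exact Ideal.zero_mem _
  have hGJ : Ideal.span (Set.range G) ≤ J := by
    rw [hJdef, ← Ideal.map_le_iff_le_comap, hmapspan]
  have hrelB := isRelGCI_mapRel P m c G B hrelP
  have hH1 : CAlgX.IsH1Regular (mapRel P m c G B) :=
    Groth.Agent.Lib.Helper4.KosH1b.isH1Regular_ofFn _
      (Groth.Agent.Lib.Helper4.KosH1.isH1Regular_of_koszul _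
        (isKoszulRegularSeq_of_isRelGCI B m c _ hrelB))
  have hker : RingHom.ker (Ideal.Quotient.mk (Ideal.span (Set.range G))) =
      Ideal.ofList (List.ofFn G) := by
    rw [Ideal.mk_ker, ofList_ofFn']
  have hle : RingHom.ker (Ideal.Quotient.mk (Ideal.span (Set.range G))) ≤ J := by
    rw [Ideal.mk_ker]
    exact hGJ
  have hind : ∀ 𝔮 : Ideal (MvPolynomial (Fin m) P), 𝔮.IsPrime → J ≤ 𝔮 →
      IndepT 𝔮 J [] (List.ofFn G) := by
    intro 𝔮 h𝔮 hJ𝔮
    refine indepT_ofFn 𝔮 J c G [] (fun k s hs => ?_)
    have h1 : μ (s * G k) ∈ (Ideal.ofList [] ⊔ Ideal.span (G '' {j | j < k}) ⊔ 𝔮 * J).map μ :=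
      Ideal.mem_map_of_mem _ hs
    rw [Ideal.ofList_nil, bot_sup_eq, Ideal.map_sup, Ideal.map_mul, hJmap, Ideal.map_span,
      Set.image_image, map_mul, hμG] at h1
    have h2 : (fun j => μ (G j)) = mapRel P m c G B := funext hμG
    rw [h2] at h1
    have hg : ∀ i, mapRel P m c G B i ∈ 𝔮.map μ := fun i => by
      rw [← hμG]
      exact Ideal.mem_map_of_mem _ (hJ𝔮 (hGJ (Ideal.subset_span ⟨i, rfl⟩)))
    have h3 := mem_of_mul_mem_of_h1 (mapRel P m c G B) hH1 (𝔮.map μ) hg k (μ s) h1
    obtain ⟨s', hs', hss'⟩ := (Ideal.mem_map_iff_of_surjective μ hμ).mp h3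
    have h4 : s - s' ∈ 𝔮 := by
      apply hJ𝔮
      apply hkerμ
      rw [RingHom.mem_ker, map_sub, hss', sub_self]
    have h5 := 𝔮.add_mem h4 hs'
    rwa [sub_add_cancel] at h5
  have key := krIdeal_quotient (Ideal.Quotient.mk (Ideal.span (Set.range G)))
    Ideal.Quotient.mk_surjective (List.ofFn G) (isKoszulRegularSeq_of_isRelGCI P m c G hrelP)
    hker J hJ hle hind
  have hJeq : J = Ideal.span (Set.range G) ⊔ (RingHom.ker (algebraMap P B)).map MvPolynomial.C := by
    rw [hJdef, ← hmapspan, Ideal.comap_map_of_surjective μ hμ, ← RingHom.ker_eq_comap_bot, hμdef,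
      MvPolynomial.ker_map]
  rw [hJeq, Ideal.map_sup, Ideal.map_quotient_self, bot_sup_eq, Ideal.map_map] at key
  exact key

/-- local descent of Koszul-regularity along a flat finitely presented algebra -/
theorem exists_krLoc_of_flat (P C' : Type u) [CommRing P] [CommRing C'] [Algebra P C']
    [Module.Flat P C'] [Algebra.FinitePresentation P C'] (I : Ideal P)
    (hK : LCI.IsKoszulRegularIdeal (I.map (algebraMap P C')))
    (𝔭 : Ideal P) [𝔭.IsPrime] (hI𝔭 : I ≤ 𝔭)
    (h𝔭 : (⟨𝔭, inferInstance⟩ : PrimeSpectrum P) ∈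
      Set.range (PrimeSpectrum.comap (algebraMap P C'))) :
    ∃ g : P, g ∉ 𝔭 ∧ KRLoc I g := by
  have hopen : IsOpenMap (comap (algebraMap P C')) :=
    isOpenMap_comap_of_hasGoingDown_of_finitePresentation
  obtain ⟨_, ⟨a, rfl⟩, h𝔭a, hsub⟩ :=
    PrimeSpectrum.isTopologicalBasis_basic_opens.exists_subset_of_mem_open h𝔭 hopen.isOpen_range
  have ha : a ∉ 𝔭 := h𝔭a
  have hunit : IsUnit (algebraMap P (Localization.Away (algebraMap P C' a)) a) := by
    rw [IsScalarTower.algebraMap_apply P C' (Localization.Away (algebraMap P C' a))]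
    exact IsLocalization.Away.algebraMap_isUnit _
  obtain ⟨φ, hφ⟩ : ∃ φ : Localization.Away a →+* Localization.Away (algebraMap P C' a),
      ∀ x, φ (algebraMap P (Localization.Away a) x) =
        algebraMap P (Localization.Away (algebraMap P C' a)) x :=
    ⟨IsLocalization.Away.lift a hunit, fun x => IsLocalization.Away.lift_eq a hunit x⟩
  letI : Algebra (Localization.Away a) (Localization.Away (algebraMap P C' a)) := φ.toAlgebra
  haveI : IsScalarTower P (Localization.Away a) (Localization.Away (algebraMap P C' a)) :=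
    IsScalarTower.of_algebraMap_eq (fun x => (hφ x).symm)
  haveI : Module.Flat (Localization.Away a) (Localization.Away (algebraMap P C' a)) :=
    (Module.flat_iff_of_isLocalization (Localization.Away a) (Submonoid.powers a) _).2 inferInstance
  have hsurj : Function.Surjective (PrimeSpectrum.comap
      (algebraMap (Localization.Away a) (Localization.Away (algebraMap P C' a)))) := by
    intro 𝔭'
    have h1 : comap (algebraMap P (Localization.Away a)) 𝔭' ∈
        (PrimeSpectrum.basicOpen a : Set (PrimeSpectrum P)) := by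
      show a ∉ (comap (algebraMap P (Localization.Away a)) 𝔭').asIdeal
      rw [PrimeSpectrum.comap_asIdeal, Ideal.mem_comap]
      intro hmem
      exact 𝔭'.isPrime.ne_top (Ideal.eq_top_of_isUnit_mem _ hmem
        (IsLocalization.Away.algebraMap_isUnit a))
    obtain ⟨𝔔, h𝔔⟩ := hsub h1
    have haQ : algebraMap P C' a ∉ 𝔔.asIdeal := by
      intro hmem
      have h2 : a ∈ (comap (algebraMap P C') 𝔔).asIdeal := hmem
      rw [h𝔔] at h2
      exact h1 h2
    haveI := 𝔔.isPrime
    haveI hP := isPrime_map_away 𝔔.asIdeal _ haQ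
    have hc := comap_map_away 𝔔.asIdeal _ haQ
    refine ⟨⟨𝔔.asIdeal.map (algebraMap C' (Localization.Away (algebraMap P C' a))), hP⟩, ?_⟩
    apply PrimeSpectrum.localization_comap_injective (Localization.Away a) (Submonoid.powers a)
    rw [← h𝔔]
    apply PrimeSpectrum.ext
    show Ideal.comap (algebraMap P (Localization.Away a)) (Ideal.comap
      (algebraMap (Localization.Away a) (Localization.Away (algebraMap P C' a)))
        (𝔔.asIdeal.map (algebraMap C' (Localization.Away (algebraMap P C' a))))) =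
      Ideal.comap (algebraMap P C') 𝔔.asIdeal
    rw [Ideal.comap_comap, ← IsScalarTower.algebraMap_eq,
      IsScalarTower.algebraMap_eq P C' (Localization.Away (algebraMap P C' a)),
      ← Ideal.comap_comap, hc]
  haveI : Module.FaithfullyFlat (Localization.Away a) (Localization.Away (algebraMap P C' a)) :=
    Module.FaithfullyFlat.of_comap_surjective hsurj
  have hK' := Groth.Agent.Lead.LciComp.krIdeal_map_of_flat
    (R' := Localization.Away (algebraMap P C' a)) _ hK
  have hmap : (I.map (algebraMap P C')).map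
      (algebraMap C' (Localization.Away (algebraMap P C' a))) =
      (I.map (algebraMap P (Localization.Away a))).map
        (algebraMap (Localization.Away a) (Localization.Away (algebraMap P C' a))) := by
    rw [Ideal.map_map, Ideal.map_map, ← IsScalarTower.algebraMap_eq, ← IsScalarTower.algebraMap_eq]
  rw [hmap] at hK'
  have hK'' := Groth.Agent.Lead.LciDesc.S9251_main (Localization.Away a)
    (Localization.Away (algebraMap P C' a)) _ hK'
  exact Groth.Agent.Lib.Helper4.KosQuot4.krLoc_of_localization a I 𝔭 ha hI𝔭 hK''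

/-- any presentation of a local complete intersection algebra by an iterated polynomial ring has
Koszul-regular kernel -/
theorem krIdeal_ker_of_isLCI (A D : Type u) [CommRing A] [CommRing D] [Algebra A D] (n m : ℕ)
    (ρ : MvPolynomial (Fin m) (MvPolynomial (Fin n) A) →ₐ[A] D) (hρ : Function.Surjective ρ)
    (h : LCI.IsLCI A D) : LCI.IsKoszulRegularIdeal (RingHom.ker ρ.toRingHom) := by
  obtain ⟨-, k, β, hβ, hKβ⟩ := h
  obtain ⟨e, -⟩ : ∃ e : MvPolynomial (Fin (m + n)) A ≃ₐ[A]
      MvPolynomial (Fin m) (MvPolynomial (Fin n) A), True :=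
    ⟨(MvPolynomial.renameEquiv A finSumFinEquiv).symm.trans
      (MvPolynomial.sumAlgEquiv A (Fin m) (Fin n)), trivial⟩
  have h1 := Groth.Agent.Lib.Helper4.KosQuot3.S9269_main A D k (m + n) β hβ
    (ρ.comp e.toAlgHom) (hρ.comp e.surjective) hKβ
  exact (Groth.Agent.Lib.Helper4.KosQuot3.krIdeal_ker_comp_ringEquiv e.toRingEquiv
    ρ.toRingHom).1 h1

end Groth.Agent.Helper2.Synt
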