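import Mathlib
import Groth.Agent.Lib.Helper2.Synt.LciSrcKR
import Groth.Agent.Lib.Helper2.Synt.LciSrcFT
import Groth.Agent.Lib.Lead.LciLocal1

/-!
# Local complete intersection ring maps descend along syntomic maps surjective on spectra (helper2)
-/

set_option autoImplicit false
set_option linter.style.haveILetI false
set_option linter.unusedSectionVars false
universe u

namespace Groth.Agent.Helper2.Synt

open TensorProduct PrimeSpectrum MvPolynomial
open Groth.Agent.Lib.Helper4.KosExch1 Groth.Agent.Lib.Helper4.KosQuot2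
open Groth.Agent.Lead.LciComp Groth.Agent.Lead.LciLocal

/-- the local statement: around the image of a prime of `C`, the kernel of a presentation of `B`
is generated by a Koszul-regular sequence -/
theorem exists_krLoc_of_syntomic_comp (A B C : Type u) [CommRing A] [CommRing B] [CommRing C]
    [Algebra A B] [Algebra B C] [Algebra A C] [IsScalarTower A B C]
    (hBC : _root_.Synt.IsSyntomic B C) (hAC : LCI.IsLCI A C) (n : ℕ)
    (π : MvPolynomial (Fin n) A →ₐ[A] B) (hπ : Function.Surjective π)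
    (q' : Ideal C) [q'.IsPrime] :
    ∃ g : MvPolynomial (Fin n) A, g ∉ (q'.comap (algebraMap B C)).comap π.toRingHom ∧
      KRLoc (RingHom.ker π.toRingHom) g := by
  letI : Algebra (MvPolynomial (Fin n) A) B := π.toRingHom.toAlgebra
  haveI : IsScalarTower A (MvPolynomial (Fin n) A) B :=
    IsScalarTower.of_algebraMap_eq (fun a => (π.commutes a).symm)
  have hsurjπ : Function.Surjective (algebraMap (MvPolynomial (Fin n) A) B) := hπ
  obtain ⟨g, hg, m, c, G, hrel, ⟨ι⟩, q'', hq''p, hGq'', hq''⟩ :=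
    exists_chart_of_isSyntomic B C hBC q'
  haveI := hq''p
  have hlift : ∀ i, ∃ f : MvPolynomial (Fin m) (MvPolynomial (Fin n) A),
      MvPolynomial.map (algebraMap (MvPolynomial (Fin n) A) B) f = G i := fun i =>
    MvPolynomial.map_surjective _ hsurjπ (G i)
  choose G₀ hG₀ using hlift
  have hG : G = mapRel (MvPolynomial (Fin n) A) m c G₀ B := funext fun i => (hG₀ i).symm
  subst hG
  obtain ⟨H₀, hH₀, hrelP, Q, hQ⟩ :=
    exists_isRelGCI_model (MvPolynomial (Fin n) A) B m c G₀ hrel q'' hGq''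
  -- the localized chart is lci over `A`
  have h1 : LCI.IsLCI A (Localization.Away g) :=
    isLCI_comp A C _ hAC (isLCI_of_isLocalizationAway g)
  have h2 : LCI.IsLCI A (_root_.Synt.RelGCIRing B m c (mapRel (MvPolynomial (Fin n) A) m c G₀ B)) :=
    isLCI_of_algEquiv (ι.restrictScalars A) h1
  have h3 : LCI.IsLCI A (Localization.Away (Ideal.Quotient.mk
      (Ideal.span (Set.range (mapRel (MvPolynomial (Fin n) A) m c G₀ B)))
        (MvPolynomial.map (algebraMap (MvPolynomial (Fin n) A) B) H₀))) :=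
    isLCI_comp A _ _ h2 (isLCI_of_isLocalizationAway (Ideal.Quotient.mk
      (Ideal.span (Set.range (mapRel (MvPolynomial (Fin n) A) m c G₀ B)))
        (MvPolynomial.map (algebraMap (MvPolynomial (Fin n) A) B) H₀)))
  have h4 : LCI.IsLCI A (_root_.Synt.RelGCIRing B (m + 1) (c + 1)
      (mapRel (MvPolynomial (Fin n) A) (m + 1) (c + 1)
        (awayRel' (MvPolynomial (Fin n) A) m c G₀ H₀) B)) :=
    isLCI_of_algEquiv ((awayMapEquiv (MvPolynomial (Fin n) A) m c G₀ H₀ B).symm.restrictScalars A) h3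
  -- the presentation
  obtain ⟨ρ, hρdef⟩ : ∃ ρ : MvPolynomial (Fin (m + 1)) (MvPolynomial (Fin n) A) →ₐ[A]
      _root_.Synt.RelGCIRing B (m + 1) (c + 1) (mapRel (MvPolynomial (Fin n) A) (m + 1) (c + 1)
        (awayRel' (MvPolynomial (Fin n) A) m c G₀ H₀) B),
      ∀ x, ρ x = Ideal.Quotient.mk _ (MvPolynomial.map (algebraMap (MvPolynomial (Fin n) A) B) x) :=
    ⟨(Ideal.Quotient.mkₐ A _).comp (MvPolynomial.mapAlgHom π), fun x => rfl⟩
  have hρ : Function.Surjective ρ := by
    intro y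
    obtain ⟨z, rfl⟩ := Ideal.Quotient.mk_surjective y
    obtain ⟨x, rfl⟩ := MvPolynomial.map_surjective _ hsurjπ z
    exact ⟨x, hρdef x⟩
  have hkerρ : RingHom.ker ρ.toRingHom =
      (Ideal.span (Set.range (mapRel (MvPolynomial (Fin n) A) (m + 1) (c + 1)
        (awayRel' (MvPolynomial (Fin n) A) m c G₀ H₀) B))).comap
        (MvPolynomial.map (algebraMap (MvPolynomial (Fin n) A) B)) := by
    ext x
    rw [RingHom.mem_ker, Ideal.mem_comap]
    show ρ x = 0 ↔ _
    rw [hρdef, Ideal.Quotient.eq_zero_iff_mem]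
  have hKR := krIdeal_ker_of_isLCI A _ n (m + 1) ρ hρ h4
  rw [hkerρ] at hKR
  have hKR' := krIdeal_map_of_relGCI (MvPolynomial (Fin n) A) B hsurjπ (m + 1) (c + 1)
    (awayRel' (MvPolynomial (Fin n) A) m c G₀ H₀) hrelP hKR
  haveI : Module.Flat (MvPolynomial (Fin n) A) (_root_.Synt.RelGCIRing (MvPolynomial (Fin n) A)
      (m + 1) (c + 1) (awayRel' (MvPolynomial (Fin n) A) m c G₀ H₀)) :=
    flat_of_isRelGCI _ (m + 1) (c + 1) _ hrelP
  haveI : Algebra.FinitePresentation (MvPolynomial (Fin n) A)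
      (_root_.Synt.RelGCIRing (MvPolynomial (Fin n) A)
      (m + 1) (c + 1) (awayRel' (MvPolynomial (Fin n) A) m c G₀ H₀)) :=
    Algebra.FinitePresentation.quotient (Submodule.fg_span (Set.finite_range _))
  haveI : ((q'.comap (algebraMap B C)).comap π.toRingHom).IsPrime := Ideal.comap_isPrime _ _
  refine exists_krLoc_of_flat (MvPolynomial (Fin n) A) _ _ hKR'
    ((q'.comap (algebraMap B C)).comap π.toRingHom) ?_ ⟨Q, ?_⟩
  · intro x hx
    rw [Ideal.mem_comap, Ideal.mem_comap]
    have : π.toRingHom x = 0 := hx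
    rw [this, map_zero]
    exact Ideal.zero_mem _
  · apply PrimeSpectrum.ext
    rw [hQ]
    show _ = Ideal.comap (algebraMap (MvPolynomial (Fin n) A) B)
      (Ideal.comap (algebraMap B C) q')
    rw [← hq'', Ideal.comap_comap, ← IsScalarTower.algebraMap_eq]

/-- **lci descends along a syntomic map which is surjective on spectra** (ring level) -/
theorem isLCI_of_syntomic_comp (A B C : Type u) [CommRing A] [CommRing B] [CommRing C]
    [Algebra A B] [Algebra B C] [Algebra A C] [IsScalarTower A B C]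
    (hBC : _root_.Synt.IsSyntomic B C)
    (hsurj : Function.Surjective (PrimeSpectrum.comap (algebraMap B C)))
    (hAC : LCI.IsLCI A C) : LCI.IsLCI A B := by
  haveI := hAC.1
  have hft : Algebra.FiniteType A B := finiteType_of_syntomic_comp A B C hBC hsurj
  obtain ⟨n, π, hπ⟩ := Algebra.FiniteType.iff_quotient_mvPolynomial''.1 hft
  refine ⟨hft, n, π, hπ, ?_⟩
  rw [isKoszulRegularIdeal_iff]
  intro 𝔭 h𝔭 hI𝔭
  haveI := h𝔭
  have hk𝔭 : RingHom.ker π.toRingHom ≤ 𝔭 := hI𝔭
  haveI h𝔭' : (𝔭.map π.toRingHom).IsPrime := Ideal.map_isPrime_of_surjective hπ hk𝔭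
  have hcomap : (𝔭.map π.toRingHom).comap π.toRingHom = 𝔭 := by
    have hπ' : Function.Surjective π.toRingHom := hπ
    rw [Ideal.comap_map_of_surjective π.toRingHom hπ', ← RingHom.ker_eq_comap_bot]
    exact sup_eq_left.mpr hk𝔭
  obtain ⟨⟨q', hq'p⟩, hq'⟩ := hsurj ⟨𝔭.map π.toRingHom, h𝔭'⟩
  haveI := hq'p
  have hq'𝔭 : q'.comap (algebraMap B C) = 𝔭.map π.toRingHom := congrArg PrimeSpectrum.asIdeal hq'
  obtain ⟨g, hg, hK⟩ := exists_krLoc_of_syntomic_comp A B C hBC hAC n π hπ q'
  rw [hq'𝔭, hcomap] at hg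
  exact ⟨g, hg, hK⟩

end Groth.Agent.Helper2.Synt
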