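import Mathlib
import Groth.Agent.Lib.Helper2.Synt.LciSrcMain
import Groth.Agent.Lib.Helper2.Synt.BridgeMp
import Groth.Agent.Lib.Lead.SyntLci1
import Groth.Agent.Lib.Lead.LciKos2

/-!
# lci morphisms are syntomic local on the source (helper2)
-/

set_option backward.isDefEq.respectTransparency.types false
set_option autoImplicit false
set_option linter.style.haveILetI false
set_option linter.unusedSectionVars false
universe u

namespace Groth.Agent.Helper2.Synt

open CategoryTheory CategoryTheory.Limits AlgebraicGeometry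
open Groth.Agent.Lead.LciLocal Groth.Agent.Lead.SyntLci

variable {X' X Y : Scheme.{u}}

theorem flat_of_isSyntomicMor' (f : X ⟶ Y) (h : _root_.Synt.IsSyntomicMor f) : Flat f := by
  rw [HasRingHomProperty.iff_exists_appLE (P := @Flat)
    (RingHom.Flat.stableUnderComposition.stableUnderCompositionWithLocalizationAway
      RingHom.Flat.holdsForLocalizationAway).left]
  intro x
  obtain ⟨U, V, e, hx, hs⟩ := h x
  exact ⟨V, U, hx, e, hs.1⟩

theorem lfp_of_isSyntomicMor' (f : X ⟶ Y) (h : _root_.Synt.IsSyntomicMor f) :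
    LocallyOfFinitePresentation f := by
  rw [HasRingHomProperty.iff_exists_appLE (P := @LocallyOfFinitePresentation)
    (RingHom.finitePresentation_stableUnderComposition.stableUnderCompositionWithLocalizationAway
      RingHom.finitePresentation_holdsForLocalizationAway).left]
  intro x
  obtain ⟨U, V, e, hx, hs⟩ := h x
  exact ⟨V, U, hx, e, hs.2.1⟩

theorem bridge : Bridge.{u} :=
  fun R S _ _ _ => Groth.Agent.Helper2.Synt.isSyntomic_iff_flat_and_isLCI R S

/-- lci morphisms descend along syntomic surjections on the source -/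
theorem lciMor_of_syntomic_cover (g : X' ⟶ X) (hg : _root_.Synt.IsSyntomicMor g) [Surjective g]
    (f : X ⟶ Y) (h : LciMor (g ≫ f)) : LciMor f := by
  haveI : Flat g := flat_of_isSyntomicMor' g hg
  haveI : LocallyOfFinitePresentation g := lfp_of_isSyntomicMor' g hg
  have hall := (S9363_main bridge g).1 hg
  rw [HasRingHomProperty.iff_exists_appLE (P := @LciMor)
    lciRingHom_stableUnderCompositionWithLocalizationAwaySource]
  intro x
  obtain ⟨x', rfl⟩ := g.surjective x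
  obtain ⟨_, ⟨V, hV, rfl⟩, hyV, -⟩ :=
    Y.isBasis_affineOpens.exists_subset_of_mem_open (Set.mem_univ (f (g x'))) isOpen_univ
  obtain ⟨_, ⟨W₀, hW₀, rfl⟩, hxW₀, hW₀V0⟩ :=
    X.isBasis_affineOpens.exists_subset_of_mem_open hyV (V.2.preimage f.continuous)
  have hW₀V : W₀ ≤ f ⁻¹ᵁ V := hW₀V0
  obtain ⟨_, ⟨W', hW', rfl⟩, hx'W', hW'W₀0⟩ :=
    X'.isBasis_affineOpens.exists_subset_of_mem_open hxW₀ (W₀.2.preimage g.continuous)
  have hW'W₀ : W' ≤ g ⁻¹ᵁ W₀ := hW'W₀0
  clear hW₀V0 hW'W₀0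
  let O : X.Opens := ⟨g '' W', g.isOpenMap _ W'.2⟩
  have hxO : g x' ∈ O := ⟨x', hx'W', rfl⟩
  obtain ⟨a, haO, hxa⟩ := hW₀.exists_basicOpen_le ⟨g x', hxO⟩ hxW₀
  set W : X.Opens := X.basicOpen a with hWdef
  have hW : IsAffineOpen W := hW₀.basicOpen a
  have hWW₀ : W ≤ W₀ := X.basicOpen_le a
  set a' := g.appLE W₀ W' hW'W₀ a with ha'
  set W'' : X'.Opens := X'.basicOpen a' with hW''def
  have hW'' : IsAffineOpen W'' := hW'.basicOpen a'
  have hW''eq : W'' = W' ⊓ g ⁻¹ᵁ W := Scheme.basicOpen_appLE g W' W₀ hW'W₀ a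
  have e'' : W'' ≤ g ⁻¹ᵁ W := by rw [hW''eq]; exact inf_le_right
  have hWV : W ≤ f ⁻¹ᵁ V := hWW₀.trans hW₀V
  refine ⟨⟨V, hV⟩, ⟨W, hW⟩, hxa, hWV, ?_⟩
  have hcomp : f.appLE V W hWV ≫ g.appLE W W'' e'' = (g ≫ f).appLE V W''
      (e''.trans ((TopologicalSpace.Opens.map g.base).map (homOfLE hWV)).le) :=
    Scheme.Hom.appLE_comp_appLE g f V W W'' hWV e''
  letI algAB : Algebra Γ(Y, V) Γ(X, W) := (f.appLE V W hWV).hom.toAlgebra
  letI algBC : Algebra Γ(X, W) Γ(X', W'') := (g.appLE W W'' e'').hom.toAlgebra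
  letI algAC : Algebra Γ(Y, V) Γ(X', W'') := ((g ≫ f).appLE V W''
      (e''.trans ((TopologicalSpace.Opens.map g.base).map (homOfLE hWV)).le)).hom.toAlgebra
  haveI : IsScalarTower Γ(Y, V) Γ(X, W) Γ(X', W'') :=
    IsScalarTower.of_algebraMap_eq (fun r => by
      show ((g ≫ f).appLE V W'' _).hom r = (g.appLE W W'' e'').hom ((f.appLE V W hWV).hom r)
      rw [← hcomp]
      rfl)
  have hBC : _root_.Synt.IsSyntomic Γ(X, W) Γ(X', W'') := hall ⟨W'', hW''⟩ ⟨W, hW⟩ e''
  have hAC : LCI.IsLCI Γ(Y, V) Γ(X', W'') := (lciMor_iff (g ≫ f)).1 h W'' V hW'' hV _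
  have hsurj : Function.Surjective (PrimeSpectrum.comap (algebraMap Γ(X, W) Γ(X', W''))) := by
    intro p
    obtain ⟨z, rfl⟩ : ∃ z : W, hW.primeIdealOf z = p :=
      ⟨hW.isoSpec.inv p, by simp [IsAffineOpen.primeIdealOf]⟩
    obtain ⟨z', hz'W', hz'⟩ := haO z.2
    have hz'W'' : z' ∈ W'' := by
      rw [hW''eq]
      exact ⟨hz'W', by show g z' ∈ W; rw [hz']; exact z.2⟩
    refine ⟨hW''.primeIdealOf ⟨z', hz'W''⟩, ?_⟩
    show PrimeSpectrum.comap (g.appLE W W'' e'').hom _ = _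
    rw [IsAffineOpen.comap_primeIdealOf_appLE W hW W'' hW'' e'' hz'W'']
    congr 1
    exact Subtype.ext hz'
  exact isLCI_of_syntomic_comp Γ(Y, V) Γ(X, W) Γ(X', W'') hBC hsurj hAC

/-- **S9730** -/
theorem forall_isKoszulAt_comp_iff_of_syntomic_surjective (g : X' ⟶ X)
    (hg : _root_.Synt.IsSyntomicMor g) [Surjective g] (f : X ⟶ Y) :
    (∀ x' : X', _root_.Synt.IsKoszulAt (g ≫ f) x') ↔ (∀ x : X, _root_.Synt.IsKoszulAt f x) := by
  rw [forall_isKoszulAt_iff_lciMor, forall_isKoszulAt_iff_lciMor]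
  constructor
  · exact lciMor_of_syntomic_cover g hg f
  · intro h
    exact MorphismProperty.comp_mem _ _ _ (flat_and_lciMor_of_isSyntomicMor bridge g hg).2 h

end Groth.Agent.Helper2.Synt
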