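import Mathlib
import Groth.Agent.Lib.Helper2.Synt.LciSrcModel

/-!
# Descent of relative global complete intersections to finite type `ℤ`-subalgebras (helper2)
-/

set_option autoImplicit false
set_option linter.style.haveILetI false
set_option linter.unusedSectionVars false
universe u

namespace Groth.Agent.Helper2.Synt

open TensorProduct MvPolynomial

/-- generic: a ring covered by principal opens of dimension at most `d` has dimension at most `d` -/
theorem ringKrullDim_le_of_span_eq_top {T : Type u} [CommRing T] {ι : Type*} (δ : ι → T)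
    (hδ : Ideal.span (Set.range δ) = ⊤) (d : WithBot ℕ∞)
    (h : ∀ i, ringKrullDim (Localization.Away (δ i)) ≤ d) : ringKrullDim T ≤ d := by
  have h1 := ringKrullDim_away_le_of_mem_span (1 : T) δ (by rw [hδ]; trivial) d h
  rwa [← ringKrullDim_eq_of_ringEquiv
    (IsLocalization.atOne T (Localization.Away (1 : T))).toRingEquiv] at h1

/-- generic: a nontrivial ring covered by principal opens has a nontrivial one among them -/
theorem exists_nontrivial_away_of_span_eq_top {T : Type u} [CommRing T] [Nontrivial T]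
    {ι : Type*} (δ : ι → T) (hδ : Ideal.span (Set.range δ) = ⊤) :
    ∃ i, Nontrivial (Localization.Away (δ i)) := by
  obtain ⟨M, hM⟩ := Ideal.exists_maximal T
  obtain ⟨i, hi⟩ : ∃ i, δ i ∉ M := by
    by_contra hcon
    have hall : ∀ i, δ i ∈ M := fun i => by
      by_contra hi
      exact hcon ⟨i, hi⟩
    have hle : Ideal.span (Set.range δ) ≤ M := by
      rw [Ideal.span_le]
      rintro _ ⟨i, rfl⟩
      exact hall i
    rw [hδ] at hle
    exact hM.ne_top (top_le_iff.mp hle)
  refine ⟨i, ?_⟩
  by_contra hnt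
  rw [not_nontrivial_iff_subsingleton,
    IsLocalization.subsingleton_iff (M := Submonoid.powers (δ i))] at hnt
  obtain ⟨m, hm⟩ := hnt
  apply hi
  have hm' : (δ i) ^ m = 0 := hm
  have : (δ i) ^ m ∈ M := by
    rw [hm']
    exact M.zero_mem
  exact hM.isPrime.mem_of_pow_mem m this

/-- **Gluing of relative global complete intersections**: a presentation whose principal
localizations along a cover are relative global complete intersections is one. -/
theorem isRelGCI_of_cover (R : Type u) [CommRing R] (n c : ℕ) (F : Fin c → MvPolynomial (Fin n) R)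
    {ι : Type*} (H : ι → MvPolynomial (Fin n) R)
    (hspan : Ideal.span (Set.range fun k => Ideal.Quotient.mk (Ideal.span (Set.range F)) (H k)) = ⊤)
    (hk : ∀ k, _root_.Synt.IsRelGCI R (n + 1) (c + 1) (awayRel' R n c F (H k))) :
    _root_.Synt.IsRelGCI R n c F := by
  intro p hnt
  haveI := p.isPrime
  -- the cover of the fibre
  obtain ⟨δ, hδdef⟩ : ∃ δ : ι → p.asIdeal.Fiber (_root_.Synt.RelGCIRing R n c F),
      δ = fun k => (1 : p.asIdeal.ResidueField) ⊗ₜ[R]
        (Ideal.Quotient.mk (Ideal.span (Set.range F)) (H k)) := ⟨_, rfl⟩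
  have hδ : Ideal.span (Set.range δ) = ⊤ := by
    have h1 : (Ideal.span (Set.range fun k =>
        Ideal.Quotient.mk (Ideal.span (Set.range F)) (H k))).map
        (Algebra.TensorProduct.includeRight :
          _root_.Synt.RelGCIRing R n c F →ₐ[R] p.asIdeal.Fiber (_root_.Synt.RelGCIRing R n c F)) =
        ⊤ := by
      rw [hspan, Ideal.map_top]
    rw [Ideal.map_span, ← Set.range_comp] at h1
    rw [← h1, hδdef]
    rfl
  -- the localizations of the fibre are the fibres of the localized presentations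
  have hequiv : ∀ k, ringKrullDim (Localization.Away (δ k)) = ringKrullDim
      (p.asIdeal.Fiber (_root_.Synt.RelGCIRing R (n + 1) (c + 1) (awayRel' R n c F (H k)))) ∧
      (Nontrivial (Localization.Away (δ k)) → Nontrivial
        (p.asIdeal.Fiber (_root_.Synt.RelGCIRing R (n + 1) (c + 1) (awayRel' R n c F (H k))))) := by
    intro k
    have e1 := (IsLocalization.Away.tensorProductEquivTMulRight R p.asIdeal.ResidueField
      (Ideal.Quotient.mk (Ideal.span (Set.range F)) (H k))
      (Localization.Away (Ideal.Quotient.mk (Ideal.span (Set.range F)) (H k)))).toRingEquiv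
    have e2 : p.asIdeal.Fiber (Localization.Away
        (Ideal.Quotient.mk (Ideal.span (Set.range F)) (H k))) ≃ₐ[R]
        p.asIdeal.Fiber (_root_.Synt.RelGCIRing R (n + 1) (c + 1) (awayRel' R n c F (H k))) :=
      Algebra.TensorProduct.congr AlgEquiv.refl (awayEquivRelGCIRing R n c F (H k))
    rw [hδdef]
    refine ⟨(ringKrullDim_eq_of_ringEquiv e1).symm.trans
      (ringKrullDim_eq_of_ringEquiv e2.toRingEquiv), fun hnt' => ?_⟩
    haveI := hnt'
    exact (e1.symm.trans e2.toRingEquiv).injective.nontrivial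
  -- `c ≤ n`
  obtain ⟨k₀, hk₀⟩ := exists_nontrivial_away_of_span_eq_top δ hδ
  have hnt₀ := (hequiv k₀).2 hk₀
  have hcn : c ≤ n := by
    have := (hk k₀ p hnt₀).1
    omega
  refine ⟨hcn, ?_⟩
  -- the upper bound
  have hle : ringKrullDim (p.asIdeal.Fiber (_root_.Synt.RelGCIRing R n c F)) ≤
      ((n - c : ℕ) : WithBot ℕ∞) := by
    refine ringKrullDim_le_of_span_eq_top δ hδ _ (fun k => ?_)
    rw [(hequiv k).1]
    by_cases hntk : Nontrivial (p.asIdeal.Fiber
      (_root_.Synt.RelGCIRing R (n + 1) (c + 1) (awayRel' R n c F (H k))))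
    · rw [(hk k p hntk).2]
      have : n + 1 - (c + 1) = n - c := by omega
      rw [this]
    · rw [not_nontrivial_iff_subsingleton] at hntk
      rw [ringKrullDim_eq_bot_of_subsingleton]
      exact bot_le
  refine le_antisymm hle ?_
  have h1 := le_dim_fiber_add R n c F p.asIdeal
  obtain ⟨m, hm⟩ : ∃ m : ℕ, ringKrullDim (p.asIdeal.Fiber (_root_.Synt.RelGCIRing R n c F)) = m :=
    exists_nat_eq_of_le ringKrullDim_nonneg_of_nontrivial hle
  rw [hm] at h1 ⊢
  have h2 : n ≤ m + c := by exact_mod_cast h1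
  have : n - c ≤ m := by omega
  exact_mod_cast this

/-- the denominators whose localized presentation is a relative global complete intersection -/
def goodSet (R₀ : Type u) [CommRing R₀] (m c : ℕ) (G₀ : Fin c → MvPolynomial (Fin m) R₀) :
    Set (MvPolynomial (Fin m) R₀) :=
  {H | _root_.Synt.IsRelGCI R₀ (m + 1) (c + 1) (awayRel' R₀ m c G₀ H)}

/-- the relations and the good denominators generate the unit ideal after base change to a ring
over which the presentation is a relative global complete intersection -/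
theorem span_model_eq_top (R₀ B : Type u) [CommRing R₀] [CommRing B] [Algebra R₀ B] (m c : ℕ)
    (G₀ : Fin c → MvPolynomial (Fin m) R₀)
    (hrel : _root_.Synt.IsRelGCI B m c (mapRel R₀ m c G₀ B)) :
    Ideal.span (MvPolynomial.map (algebraMap R₀ B) '' (Set.range G₀ ∪ goodSet R₀ m c G₀)) = ⊤ := by
  by_contra hne
  obtain ⟨M, hM, hle⟩ := Ideal.exists_le_maximal _ hne
  haveI := hM.isPrime
  have hq' : Ideal.span (Set.range (mapRel R₀ m c G₀ B)) ≤ M := by
    rw [Ideal.span_le]
    rintro _ ⟨i, rfl⟩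
    exact hle (Ideal.subset_span ⟨G₀ i, Or.inl ⟨i, rfl⟩, rfl⟩)
  obtain ⟨H₀, hH₀, hgood, -⟩ := exists_isRelGCI_model R₀ B m c G₀ hrel M hq'
  exact hH₀ (hle (Ideal.subset_span ⟨H₀, Or.inr hgood, rfl⟩))

/-- if the relations and the good denominators generate the unit ideal after a base change, the
base changed presentation is a relative global complete intersection -/
theorem isRelGCI_mapRel_of_span (R₁ R₂ : Type u) [CommRing R₁] [CommRing R₂] [Algebra R₁ R₂]
    (n c : ℕ) (F₁ : Fin c → MvPolynomial (Fin n) R₁)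
    (hspan : Ideal.span (MvPolynomial.map (algebraMap R₁ R₂) ''
      (Set.range F₁ ∪ goodSet R₁ n c F₁)) = ⊤) :
    _root_.Synt.IsRelGCI R₂ n c (mapRel R₁ n c F₁ R₂) := by
  refine isRelGCI_of_cover R₂ n c _ (ι := goodSet R₁ n c F₁)
    (fun k => MvPolynomial.map (algebraMap R₁ R₂) k.1) ?_ (fun k => ?_)
  · have h1 : (Ideal.span (MvPolynomial.map (algebraMap R₁ R₂) ''
        (Set.range F₁ ∪ goodSet R₁ n c F₁))).map
        (Ideal.Quotient.mk (Ideal.span (Set.range (mapRel R₁ n c F₁ R₂)))) = ⊤ := by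
      rw [hspan, Ideal.map_top]
    rw [Ideal.map_span] at h1
    rw [eq_top_iff, ← h1, Ideal.span_le]
    rintro _ ⟨_, ⟨P, hP | hP, rfl⟩, rfl⟩
    · obtain ⟨i, rfl⟩ := hP
      have : Ideal.Quotient.mk (Ideal.span (Set.range (mapRel R₁ n c F₁ R₂)))
          (MvPolynomial.map (algebraMap R₁ R₂) (F₁ i)) = 0 :=
        Ideal.Quotient.eq_zero_iff_mem.mpr (Ideal.subset_span ⟨i, rfl⟩)
      rw [this]
      exact Ideal.zero_mem _
    · exact Ideal.subset_span ⟨⟨P, hP⟩, rfl⟩
  · have := isRelGCI_mapRel R₁ (n + 1) (c + 1) (awayRel' R₁ n c F₁ k.1) R₂ k.2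
    rwa [mapRel_awayRel'] at this

/-- finitely many coefficients: a unit ideal generated by polynomials defined over a finitely
generated subalgebra is already the unit ideal over a larger finitely generated subalgebra -/
theorem exists_subalgebra_span_eq_top {R : Type u} [CommRing R] {σ : Type*}
    (R₀ : Subalgebra ℤ R) (hfg : R₀.FG) (s : Set (MvPolynomial σ R₀))
    (h : Ideal.span (MvPolynomial.map (algebraMap R₀ R) '' s) = ⊤) :
    ∃ (R₁ : Subalgebra ℤ R) (hle : R₀ ≤ R₁), R₁.FG ∧
      Ideal.span (MvPolynomial.map (Subalgebra.inclusion hle).toRingHom '' s) = ⊤ := by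
  classical
  have h1 : (1 : MvPolynomial σ R) ∈ Ideal.span (MvPolynomial.map (algebraMap R₀ R) '' s) := by
    rw [h]
    trivial
  rw [Ideal.span] at h1
  obtain ⟨t, hts, cf, hsum⟩ := (Submodule.mem_span_image_iff_exists_fun _).mp h1
  let coeffsAll : Finset R := Finset.univ.biUnion (fun i : t => (cf i).coeffs)
  let R₁ : Subalgebra ℤ R := R₀ ⊔ Algebra.adjoin ℤ (coeffsAll : Set R)
  have hle : R₀ ≤ R₁ := le_sup_left
  have hfg₁ : R₁.FG := hfg.sup (Subalgebra.fg_adjoin_finset _)
  have hcf : ∀ i, cf i ∈ Set.range (MvPolynomial.map (σ := σ) (algebraMap R₁ R)) := by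
    intro i
    rw [MvPolynomial.mem_range_map_iff_coeffs_subset]
    intro x hx
    refine ⟨⟨x, ?_⟩, rfl⟩
    apply (le_sup_right : Algebra.adjoin ℤ (coeffsAll : Set R) ≤ R₁)
    apply Algebra.subset_adjoin
    simp only [coeffsAll, Finset.coe_biUnion, Finset.coe_univ, Set.mem_univ, Set.iUnion_true,
      Set.mem_iUnion]
    exact ⟨i, hx⟩
  choose cf' hcf' using hcf
  refine ⟨R₁, hle, hfg₁, ?_⟩
  rw [Ideal.eq_top_iff_one]
  have hone : (1 : MvPolynomial σ R₁) =
      ∑ i, cf' i * MvPolynomial.map (Subalgebra.inclusion hle).toRingHom i.1 := by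
    apply MvPolynomial.map_injective (algebraMap R₁ R) Subtype.val_injective
    rw [map_one, map_sum, ← hsum]
    refine Finset.sum_congr rfl (fun i _ => ?_)
    rw [map_mul, hcf', MvPolynomial.map_map, smul_eq_mul]
    rfl
  rw [hone]
  exact Ideal.sum_mem _ (fun i _ => Ideal.mul_mem_left _ _ (Ideal.subset_span ⟨i.1, hts i.2, rfl⟩))

/-- **S9148**: a relative global complete intersection descends to a finite type `ℤ`-subalgebra. -/
theorem S9148_main (R : Type u) [CommRing R] (n c : ℕ)
    (F : Fin c → MvPolynomial (Fin n) R) (h : _root_.Synt.IsRelGCI R n c F) :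
    ∃ (R₀ : Subalgebra ℤ R) (F₀ : Fin c → MvPolynomial (Fin n) R₀), Algebra.FiniteType ℤ R₀ ∧
      (∀ i, MvPolynomial.map (algebraMap R₀ R) (F₀ i) = F i) ∧ _root_.Synt.IsRelGCI R₀ n c F₀ := by
  obtain ⟨R₁, F₁, hft₁, hF₁⟩ := exists_finiteType_descent R (Fin n) F
  have hmap : mapRel R₁ n c F₁ R = F := funext hF₁
  rw [← hmap] at h
  have hspan := span_model_eq_top R₁ R n c F₁ h
  obtain ⟨R₂, hle, hfg₂, hspan₂⟩ := exists_subalgebra_span_eq_top R₁
    ((Subalgebra.fg_iff_finiteType R₁).mpr hft₁) _ hspan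
  letI : Algebra R₁ R₂ := (Subalgebra.inclusion hle).toRingHom.toAlgebra
  have hrel := isRelGCI_mapRel_of_span R₁ R₂ n c F₁ hspan₂
  refine ⟨R₂, mapRel R₁ n c F₁ R₂, (Subalgebra.fg_iff_finiteType R₂).mp hfg₂, fun i => ?_, hrel⟩
  rw [← hF₁ i]
  simp only [mapRel]
  rw [MvPolynomial.map_map]
  rfl

end Groth.Agent.Helper2.Synt
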