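import Mathlib
import Groth.Agent.Lib.Helper2.Synt.RelDescent

/-!
# Noetherian approximation of standard syntomic morphisms (helper2)
-/

set_option autoImplicit false
set_option linter.style.haveILetI false
set_option linter.unusedSectionVars false
set_option backward.isDefEq.respectTransparency.types false
universe u

namespace Groth.Agent.Helper2.Synt

open TensorProduct MvPolynomial CategoryTheory CategoryTheory.Limits AlgebraicGeometry

/-- the base change square of a presentation, on spectra -/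
theorem exists_isPullback_mapRel (R₀ R : Type u) [CommRing R₀] [CommRing R] [Algebra R₀ R]
    (n c : ℕ) (F₀ : Fin c → MvPolynomial (Fin n) R₀) :
    ∃ φ : _root_.Synt.RelGCIRing R₀ n c F₀ →+*
        _root_.Synt.RelGCIRing R n c (mapRel R₀ n c F₀ R),
      IsPullback (Spec.map (CommRingCat.ofHom φ))
        (Spec.map (CommRingCat.ofHom (algebraMap R
          (_root_.Synt.RelGCIRing R n c (mapRel R₀ n c F₀ R)))))
        (Spec.map (CommRingCat.ofHom (algebraMap R₀ (_root_.Synt.RelGCIRing R₀ n c F₀))))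
        (Spec.map (CommRingCat.ofHom (algebraMap R₀ R))) := by
  obtain ⟨e, -⟩ : ∃ e : R ⊗[R₀] _root_.Synt.RelGCIRing R₀ n c F₀ ≃ₐ[R]
      _root_.Synt.RelGCIRing R n c (mapRel R₀ n c F₀ R), True := ⟨fiberEquiv R₀ n c F₀ R, trivial⟩
  have hpo := CommRingCat.isPushout_tensorProduct R₀ R (_root_.Synt.RelGCIRing R₀ n c F₀)
  have hpo' : IsPushout (CommRingCat.ofHom (algebraMap R₀ R))
      (CommRingCat.ofHom (algebraMap R₀ (_root_.Synt.RelGCIRing R₀ n c F₀)))
      (CommRingCat.ofHom (algebraMap R (_root_.Synt.RelGCIRing R n c (mapRel R₀ n c F₀ R))))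
      (CommRingCat.ofHom (e.toRingEquiv.toRingHom.comp
        (Algebra.TensorProduct.includeRight (R := R₀) (A := R)
          (B := _root_.Synt.RelGCIRing R₀ n c F₀)).toRingHom)) := by
    refine hpo.of_iso (Iso.refl _) (Iso.refl _) (Iso.refl _) e.toRingEquiv.toCommRingCatIso
      (by simp) (by simp) ?_ ?_
    · ext x
      simp only [Iso.refl_hom, Category.id_comp, CommRingCat.hom_comp, CommRingCat.hom_ofHom,
        RingHom.comp_apply, RingEquiv.toCommRingCatIso_hom]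
      exact e.commutes x
    · rw [Iso.refl_hom, Category.id_comp]
      rfl
  refine ⟨_, (isPullback_SpecMap_of_isPushout _ _ _ _ hpo').flip⟩

/-- finite type over `ℤ` passes to the global sections of the spectrum -/
theorem finiteType_int_Γ_Spec (R₀ : Type u) [CommRing R₀] [Algebra ℤ R₀]
    (hft : Algebra.FiniteType ℤ R₀) :
    Algebra.FiniteType ℤ Γ(Spec (CommRingCat.of R₀), ⊤) := by
  haveI := hft
  let ψ : R₀ →ₐ[ℤ] Γ(Spec (CommRingCat.of R₀), ⊤) :=
    { (Scheme.ΓSpecIso (CommRingCat.of R₀)).commRingCatIsoToRingEquiv.symm.toRingHom with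
      commutes' := fun k => by
        simp only [RingHom.toMonoidHom_eq_coe, OneHom.toFun_eq_coe, MonoidHom.toOneHom_coe,
          MonoidHom.coe_coe]
        rw [eq_intCast, eq_intCast, map_intCast] }
  exact Algebra.FiniteType.of_surjective ψ
    (Scheme.ΓSpecIso (CommRingCat.of R₀)).commRingCatIsoToRingEquiv.symm.surjective

/-- **S9736**, generic form -/
theorem S9736_generic (R₀ R : Type u) [CommRing R₀] [CommRing R] [Algebra R₀ R] [Algebra ℤ R₀]
    (hft : Algebra.FiniteType ℤ R₀) (n c : ℕ) (F₀ : Fin c → MvPolynomial (Fin n) R₀)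
    (hrel₀ : _root_.Synt.IsRelGCI R₀ n c F₀) {X S : Scheme.{u}} (f : X ⟶ S)
    (e₁ : X ≅ Spec (CommRingCat.of (_root_.Synt.RelGCIRing R n c (mapRel R₀ n c F₀ R))))
    (e₂ : S ≅ Spec (CommRingCat.of R))
    (hsq : e₁.hom ≫ Spec.map (CommRingCat.ofHom (algebraMap R
      (_root_.Synt.RelGCIRing R n c (mapRel R₀ n c F₀ R)))) = f ≫ e₂.hom) :
    ∃ (X₀ S₀ : Scheme.{u}) (f₀ : X₀ ⟶ S₀) (g : S ⟶ S₀) (g' : X ⟶ X₀), IsAffine X₀ ∧ IsAffine S₀ ∧
      IsPullback g' f f₀ g ∧ Algebra.FiniteType ℤ Γ(S₀, ⊤) ∧ LocallyOfFiniteType f₀ ∧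
      _root_.Synt.IsStandardSyntomic f₀ := by
  obtain ⟨φ, hpb⟩ := exists_isPullback_mapRel R₀ R n c F₀
  refine ⟨Spec (CommRingCat.of (_root_.Synt.RelGCIRing R₀ n c F₀)), Spec (CommRingCat.of R₀),
    Spec.map (CommRingCat.ofHom (algebraMap R₀ (_root_.Synt.RelGCIRing R₀ n c F₀))),
    e₂.hom ≫ Spec.map (CommRingCat.ofHom (algebraMap R₀ R)),
    e₁.hom ≫ Spec.map (CommRingCat.ofHom φ), inferInstance, inferInstance, ?_,
    finiteType_int_Γ_Spec R₀ hft, ?_, ?_⟩
  · refine hpb.of_iso e₁.symm (Iso.refl _) e₂.symm (Iso.refl _) (by simp) ?_ (by simp) (by simp)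
    rw [Iso.symm_hom, Iso.symm_hom, Iso.eq_inv_comp, ← Category.assoc, hsq, Category.assoc,
      Iso.hom_inv_id, Category.comp_id]
  · rw [HasRingHomProperty.Spec_iff (P := @LocallyOfFiniteType)]
    simp only [CommRingCat.hom_ofHom]
    rw [RingHom.finiteType_algebraMap]
    exact Algebra.FiniteType.of_surjective (Ideal.Quotient.mkₐ R₀ _)
      (Ideal.Quotient.mkₐ_surjective R₀ _)
  · exact ⟨R₀, inferInstance, n, c, F₀, hrel₀, Iso.refl _, Iso.refl _, by simp⟩

/-- **S9736** -/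
theorem S9736_main {X S : Scheme.{u}} (f : X ⟶ S) (hf : _root_.Synt.IsStandardSyntomic f) :
    ∃ (X₀ S₀ : Scheme.{u}) (f₀ : X₀ ⟶ S₀) (g : S ⟶ S₀) (g' : X ⟶ X₀), IsAffine X₀ ∧ IsAffine S₀ ∧
      IsPullback g' f f₀ g ∧ Algebra.FiniteType ℤ Γ(S₀, ⊤) ∧ LocallyOfFiniteType f₀ ∧
      _root_.Synt.IsStandardSyntomic f₀ := by
  obtain ⟨R, _, n, c, F, hrel, e₁, e₂, hsq⟩ := hf
  obtain ⟨R₀, F₀, hft, hF₀, hrel₀⟩ := S9148_main R n c F hrel
  have hF : mapRel R₀ n c F₀ R = F := funext hF₀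
  subst hF
  exact S9736_generic R₀ R hft n c F₀ hrel₀ f e₁ e₂ hsq

end Groth.Agent.Helper2.Synt
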