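import Mathlib
import Groth.Agent.Lib.Helper2.Synt.SyntLoc10
import Groth.Agent.Lib.Helper2.Synt.SyntNhd

set_option autoImplicit false
set_option linter.style.haveILetI false
set_option linter.unusedSectionVars false
universe u

namespace Groth.Agent.Helper2.Synt

open TensorProduct MvPolynomial IsLocalRing

section PartII''

variable (R : Type u) [CommRing R] (n : ℕ) (I : Ideal (MvPolynomial (Fin n) R))
  (q' : Ideal (MvPolynomial (Fin n) R)) [q'.IsPrime]

/-- from local generators to a relative global complete intersection neighbourhood, keeping the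
generators -/
theorem exists_generators_isRelGCI_away (hIq' : I ≤ q')
    (p : Ideal R) [p.IsPrime] (hp : q'.comap (algebraMap R (MvPolynomial (Fin n) R)) = p)
    (c₀ : ℕ) (F : Fin c₀ → MvPolynomial (Fin n) R) (G₁ G₂ : MvPolynomial (Fin n) R)
    (hc₀n : c₀ ≤ n) (hFI : ∀ i, F i ∈ I) (hG₁ : G₁ ∉ q')
    (hG₁I : ∀ x ∈ I, G₁ * x ∈ Ideal.span (Set.range F)) (hG₂ : G₂ ∉ q')
    (hG₂d : ∀ G : MvPolynomial (Fin n) R, G₂ ∣ G →
        ringKrullDim (p.ResidueField ⊗[R] (Localization.Away
          (Ideal.Quotient.mk (Ideal.span (Set.range F)) G))) ≤ ((n - c₀ : ℕ) : WithBot ℕ∞))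
    (Gd : MvPolynomial (Fin n) R) (hGd : Gd ∉ q') :
    ∃ H : MvPolynomial (Fin n) R, H ∉ q' ∧ Gd ∣ H ∧
      (∀ x ∈ I, H * x ∈ Ideal.span (Set.range F)) ∧
      _root_.Synt.IsRelGCI R (n + 1) (c₀ + 1) (awayRel' R n c₀ F H) := by
  have hFle : Ideal.span (Set.range F) ≤ I := by
    rw [Ideal.span_le]
    rintro _ ⟨i, rfl⟩
    exact hFI i
  -- the prime of `R[x]/(F)`
  have hkerle : RingHom.ker (Ideal.Quotient.mk (Ideal.span (Set.range F))) ≤ q' := by
    rw [Ideal.mk_ker]
    exact hFle.trans hIq'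
  haveI hq₁ : (q'.map (Ideal.Quotient.mk (Ideal.span (Set.range F)))).IsPrime :=
    Ideal.map_isPrime_of_surjective Ideal.Quotient.mk_surjective hkerle
  have hcm : (q'.map (Ideal.Quotient.mk (Ideal.span (Set.range F)))).comap
      (Ideal.Quotient.mk (Ideal.span (Set.range F))) = q' := by
    rw [Ideal.comap_map_of_surjective _ Ideal.Quotient.mk_surjective, ← RingHom.ker_eq_comap_bot]
    exact sup_eq_left.mpr hkerle
  have hunder : (q'.map (Ideal.Quotient.mk (Ideal.span (Set.range F)))).under R = p := by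
    rw [← hp]
    conv_rhs => rw [← hcm]
    rfl
  have key : ∀ (I₁ I₂ : Ideal R) [I₁.IsPrime] [I₂.IsPrime], I₁ = I₂ →
      ringKrullDim (I₁.Fiber (Localization.Away
        (Ideal.Quotient.mk (Ideal.span (Set.range F)) G₂))) =
      ringKrullDim (I₂.Fiber (Localization.Away
        (Ideal.Quotient.mk (Ideal.span (Set.range F)) G₂))) := by
    intro I₁ I₂ _ _ h
    subst h
    rfl
  haveI : ((q'.map (Ideal.Quotient.mk (Ideal.span (Set.range F)))).under R).IsPrime :=
    Ideal.comap_isPrime _ _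
  have hd : ringKrullDim (((q'.map (Ideal.Quotient.mk (Ideal.span (Set.range F)))).under R).Fiber
      (Localization.Away (Ideal.Quotient.mk (Ideal.span (Set.range F)) G₂))) ≤
      ((n - c₀ : ℕ) : WithBot ℕ∞) := by
    rw [key _ _ hunder]
    exact hG₂d G₂ dvd_rfl
  have hG₂' : Ideal.Quotient.mk (Ideal.span (Set.range F)) G₂ ∉
      q'.map (Ideal.Quotient.mk (Ideal.span (Set.range F))) := by
    intro hmem
    apply hG₂
    rw [← hcm]
    exact hmem
  obtain ⟨g, hgood, hg⟩ := exists_fibreDimLE_notMem_of_away (R := R)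
    (S := _root_.Synt.RelGCIRing R n c₀ F)
    (q'.map (Ideal.Quotient.mk (Ideal.span (Set.range F))))
    (Ideal.Quotient.mk (Ideal.span (Set.range F)) G₂) hG₂' (n - c₀) hd
  obtain ⟨G₃, rfl⟩ := Ideal.Quotient.mk_surjective g
  have hG₃ : G₃ ∉ q' := by
    intro hmem
    exact hg (Ideal.mem_map_of_mem _ hmem)
  have hgood' : FibreDimLE R (_root_.Synt.RelGCIRing R n c₀ F) (n - c₀)
      (Ideal.Quotient.mk (Ideal.span (Set.range F)) (Gd * (G₁ * G₃))) := by
    apply fibreDimLE_of_mem_span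
    rw [map_mul, map_mul]
    exact Ideal.mul_mem_left _ _ (Ideal.mul_mem_left _ _ (Ideal.subset_span hgood))
  refine ⟨Gd * (G₁ * G₃), ?_, dvd_mul_right _ _, ?_, isRelGCI_away_of_fibreDimLE hc₀n hgood'⟩
  · intro hmem
    rcases Ideal.IsPrime.mem_or_mem inferInstance hmem with h1 | h1
    · exact hGd h1
    · rcases Ideal.IsPrime.mem_or_mem inferInstance h1 with h2 | h2
      · exact hG₁ h2
      · exact hG₃ h2
  · intro x hx
    have : Gd * (G₁ * G₃) * x = Gd * G₃ * (G₁ * x) := by ring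
    rw [this]
    exact Ideal.mul_mem_left _ _ (hG₁I x hx)

end PartII''

section Generic'

variable (R S : Type u) [CommRing R] [CommRing S] [Algebra R S] (n : ℕ)
  (f : MvPolynomial (Fin n) R →ₐ[R] S) (hf : Function.Surjective f)
  (hker : (RingHom.ker f.toRingHom).FG)
  (p : Ideal R) [p.IsPrime] (qS : Ideal S) [qS.IsPrime] (hp : qS.under R = p)

include hf hker hp in
/-- local generators of the kernel of a presentation near a point where the algebra is flat with
complete intersection fibre -/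
theorem exists_generators_of_local
    [Module.Flat R (Localization.AtPrime qS)]
    (Q : Ideal (p.Fiber S)) [Q.IsPrime]
    (hQ : Q.comap (Algebra.TensorProduct.includeRight : S →ₐ[R] p.Fiber S).toRingHom = qS)
    (hCIQ : _root_.Synt.IsCIOver p.ResidueField (Localization.AtPrime Q))
    (Gd : MvPolynomial (Fin n) R) (hGd : f Gd ∉ qS) :
    ∃ (c₀ : ℕ) (F : Fin c₀ → MvPolynomial (Fin n) R) (H : MvPolynomial (Fin n) R),
      (∀ i, F i ∈ RingHom.ker f.toRingHom) ∧ f H ∉ qS ∧ Gd ∣ H ∧
      (∀ x ∈ RingHom.ker f.toRingHom, H * x ∈ Ideal.span (Set.range F)) ∧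
      _root_.Synt.IsRelGCI R (n + 1) (c₀ + 1) (awayRel' R n c₀ F H) := by
  obtain ⟨e, he⟩ : ∃ e : (MvPolynomial (Fin n) R ⧸ RingHom.ker f.toRingHom) ≃ₐ[R] S,
      ∀ x, e (Ideal.Quotient.mk _ x) = f x :=
    ⟨Ideal.quotientKerAlgEquivOfSurjective hf, fun x => rfl⟩
  -- the primes upstairs
  haveI hqI : (qS.comap (e : (MvPolynomial (Fin n) R ⧸ RingHom.ker f.toRingHom) →+* S)).IsPrime :=
    Ideal.comap_isPrime _ _
  have hq'mem : ∀ x, x ∈ (qS.comap (e : (MvPolynomial (Fin n) R ⧸ RingHom.ker f.toRingHom) →+*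
      S)).comap (Ideal.Quotient.mk (RingHom.ker f.toRingHom)) ↔ f x ∈ qS := by
    intro x
    rw [Ideal.mem_comap, Ideal.mem_comap]
    show e (Ideal.Quotient.mk _ x) ∈ qS ↔ _
    rw [he]
  have hIq' : RingHom.ker f.toRingHom ≤ (qS.comap (e : (MvPolynomial (Fin n) R ⧸
      RingHom.ker f.toRingHom) →+* S)).comap (Ideal.Quotient.mk (RingHom.ker f.toRingHom)) := by
    intro x hx
    rw [hq'mem]
    have : f x = 0 := hx
    rw [this]
    exact Ideal.zero_mem _
  have hp' : ((qS.comap (e : (MvPolynomial (Fin n) R ⧸ RingHom.ker f.toRingHom) →+*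
      S)).comap (Ideal.Quotient.mk (RingHom.ker f.toRingHom))).comap
        (algebraMap R (MvPolynomial (Fin n) R)) = p := by
    rw [← hp]
    ext x
    rw [Ideal.mem_comap, hq'mem, AlgHom.commutes]
    rfl
  -- flatness of the local ring
  haveI hflat : Module.Flat R (Localization.AtPrime ((qS.comap (e : (MvPolynomial (Fin n) R ⧸
      RingHom.ker f.toRingHom) →+* S)).comap (Ideal.Quotient.mk (RingHom.ker f.toRingHom))) ⧸
      (RingHom.ker f.toRingHom).map (algebraMap (MvPolynomial (Fin n) R) (Localization.AtPrime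
        ((qS.comap (e : (MvPolynomial (Fin n) R ⧸ RingHom.ker f.toRingHom) →+* S)).comap
          (Ideal.Quotient.mk (RingHom.ker f.toRingHom)))))) := by
    have e₁ : (Localization.AtPrime ((qS.comap (e : (MvPolynomial (Fin n) R ⧸
      RingHom.ker f.toRingHom) →+* S)).comap (Ideal.Quotient.mk (RingHom.ker f.toRingHom))) ⧸
      (RingHom.ker f.toRingHom).map (algebraMap (MvPolynomial (Fin n) R) (Localization.AtPrime
        ((qS.comap (e : (MvPolynomial (Fin n) R ⧸ RingHom.ker f.toRingHom) →+* S)).comap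
          (Ideal.Quotient.mk (RingHom.ker f.toRingHom)))))) ≃ₐ[R]
        Localization.AtPrime (qS.comap (e : (MvPolynomial (Fin n) R ⧸
          RingHom.ker f.toRingHom) →+* S)) :=
      ((IsLocalization.algEquiv (qS.comap (e : (MvPolynomial (Fin n) R ⧸
          RingHom.ker f.toRingHom) →+* S)).primeCompl
          (Localization.AtPrime (qS.comap (e : (MvPolynomial (Fin n) R ⧸
          RingHom.ker f.toRingHom) →+* S)))
          (Localization.AtPrime ((qS.comap (e : (MvPolynomial (Fin n) R ⧸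
      RingHom.ker f.toRingHom) →+* S)).comap (Ideal.Quotient.mk (RingHom.ker f.toRingHom))) ⧸
      (RingHom.ker f.toRingHom).map (algebraMap (MvPolynomial (Fin n) R) (Localization.AtPrime
        ((qS.comap (e : (MvPolynomial (Fin n) R ⧸ RingHom.ker f.toRingHom) →+* S)).comap
          (Ideal.Quotient.mk (RingHom.ker f.toRingHom))))))).restrictScalars R).symm
    have e₂ : Localization.AtPrime (qS.comap (e : (MvPolynomial (Fin n) R ⧸
          RingHom.ker f.toRingHom) →+* S)) ≃ₐ[R] Localization.AtPrime qS :=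
      atPrimeAlgEquivOfComap e qS _ rfl
    exact Module.Flat.of_linearEquiv (e₁.trans e₂).toLinearEquiv
  -- the fibre
  obtain ⟨E, hE⟩ : ∃ E : (MvPolynomial (Fin n) p.ResidueField ⧸ (RingHom.ker f.toRingHom).map
      (MvPolynomial.map (algebraMap R p.ResidueField))) ≃ₐ[p.ResidueField] p.ResidueField ⊗[R] S,
      ∀ x, E (Ideal.Quotient.mk _ (MvPolynomial.map (algebraMap R p.ResidueField) x)) =
        (1 : p.ResidueField) ⊗ₜ[R] f x := by
    refine ⟨(quotTensorEquiv R p.ResidueField (Fin n) (RingHom.ker f.toRingHom)).symm.trans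
      (Algebra.TensorProduct.congr AlgEquiv.refl e), fun x => ?_⟩
    have h1 : (quotTensorEquiv R p.ResidueField (Fin n) (RingHom.ker f.toRingHom)).symm
        (Ideal.Quotient.mk _ (MvPolynomial.map (algebraMap R p.ResidueField) x)) =
        (1 : p.ResidueField) ⊗ₜ[R] (Ideal.Quotient.mk (RingHom.ker f.toRingHom) x) := by
      rw [AlgEquiv.symm_apply_eq, quotTensorEquiv_tmul_mk, map_one, one_mul]
    rw [AlgEquiv.trans_apply, h1, Algebra.TensorProduct.congr_apply,
      Algebra.TensorProduct.map_tmul]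
    simp only [AlgEquiv.coe_toAlgHom, AlgEquiv.coe_refl, id_eq]
    congr 1
    exact he x
  haveI hqprime : (Q.comap (E : (MvPolynomial (Fin n) p.ResidueField ⧸
      (RingHom.ker f.toRingHom).map (MvPolynomial.map (algebraMap R p.ResidueField))) →+*
      p.ResidueField ⊗[R] S)).IsPrime := Ideal.comap_isPrime _ _
  have hcomap : (qS.comap (e : (MvPolynomial (Fin n) R ⧸ RingHom.ker f.toRingHom) →+*
      S)).comap (Ideal.Quotient.mk (RingHom.ker f.toRingHom)) =
      ((Q.comap (E : (MvPolynomial (Fin n) p.ResidueField ⧸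
      (RingHom.ker f.toRingHom).map (MvPolynomial.map (algebraMap R p.ResidueField))) →+*
      p.ResidueField ⊗[R] S)).comap (Ideal.Quotient.mk _)).comap
        (MvPolynomial.map (algebraMap R p.ResidueField)) := by
    ext x
    rw [hq'mem, Ideal.mem_comap, Ideal.mem_comap, Ideal.mem_comap]
    show _ ↔ E (Ideal.Quotient.mk _ (MvPolynomial.map (algebraMap R p.ResidueField) x)) ∈ Q
    rw [hE, ← hQ]
    rfl
  have hCI' : _root_.Synt.IsCIOver p.ResidueField (Localization.AtPrime
      (Q.comap (E : (MvPolynomial (Fin n) p.ResidueField ⧸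
      (RingHom.ker f.toRingHom).map (MvPolynomial.map (algebraMap R p.ResidueField))) →+*
      p.ResidueField ⊗[R] S))) :=
    isCIOver_of_algEquiv (atPrimeAlgEquivOfComap E Q _ rfl).symm hCIQ
  have hCI := (isCIOver_atPrime_iff_isCIIdeal p.ResidueField n _ _).mp hCI'
  obtain ⟨c₀, F, G₁, G₂, hc₀n, hFI, hG₁, hG₁I, hG₂, hG₂d⟩ := exists_local_generators' R n
    (RingHom.ker f.toRingHom) ((qS.comap (e : (MvPolynomial (Fin n) R ⧸ RingHom.ker f.toRingHom) →+*
      S)).comap (Ideal.Quotient.mk (RingHom.ker f.toRingHom)))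
    p.ResidueField
    (exists_denominators_map_residueField R (Fin n) p)
    ((Ideal.ker_algebraMap_residueField p).trans hp'.symm) hker _ hcomap hCI
  obtain ⟨H, hH, hdvd, hHI, hrel⟩ := exists_generators_isRelGCI_away R n
    (RingHom.ker f.toRingHom) _ hIq' p hp' c₀ F G₁ G₂ hc₀n hFI hG₁ hG₁I hG₂ hG₂d Gd
    (fun hmem => hGd ((hq'mem Gd).mp hmem))
  exact ⟨c₀, F, H, hFI, fun hmem => hH ((hq'mem H).mpr hmem), hdvd, hHI, hrel⟩

end Generic'

section Away

variable (R S : Type u) [CommRing R] [CommRing S] [Algebra R S] (n : ℕ)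
  (f : MvPolynomial (Fin n) R →ₐ[R] S) (hf : Function.Surjective f)
  (hker : (RingHom.ker f.toRingHom).FG)

include hf hker in
/-- local generators of the kernel of a presentation near a point of a syntomic principal
open -/
theorem exists_generators_of_syntomic_away (g : S)
    (hsynt : _root_.Synt.IsSyntomic R (Localization.Away g)) (q : Ideal S) [q.IsPrime]
    (hg : g ∉ q) (Gd : MvPolynomial (Fin n) R) (hGd : f Gd ∉ q) :
    ∃ (c₀ : ℕ) (F : Fin c₀ → MvPolynomial (Fin n) R) (H : MvPolynomial (Fin n) R),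
      (∀ i, F i ∈ RingHom.ker f.toRingHom) ∧ f H ∉ q ∧ Gd ∣ H ∧
      (∀ x ∈ RingHom.ker f.toRingHom, H * x ∈ Ideal.span (Set.range F)) ∧
      _root_.Synt.IsRelGCI R (n + 1) (c₀ + 1) (awayRel' R n c₀ F H) := by
  haveI : (q.under R).IsPrime := Ideal.comap_isPrime _ _
  haveI : q.LiesOver (q.under R) := ⟨rfl⟩
  obtain ⟨Q, hQprime, hQ⟩ := Groth.Agent.Helper8.Fib.exists_fiber_prime (q.under R) q rfl
  haveI := hQprime
  obtain ⟨-, hflat, hCI⟩ := local_conditions_of_syntomic_away R S (q.under R) q Q hQ g hg hsynt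
  haveI := hflat
  exact exists_generators_of_local R S n f hf hker (q.under R) q rfl Q hQ hCI Gd hGd

end Away

end Groth.Agent.Helper2.Synt
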