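import Mathlib
import Groth.Agent.Lib.Helper2.Synt.SyntGen
import Groth.Agent.Lib.Helper2.Synt.RelGCIMain
import Groth.Agent.Lib.Helper4.KosH1b

set_option autoImplicit false
set_option linter.style.haveILetI false
set_option linter.unusedSectionVars false
universe u

namespace Groth.Agent.Helper2.Synt

open TensorProduct MvPolynomial IsLocalRing

/-- `H_1`-regularity descends to the quotient by the last element of the sequence -/
theorem isH1Regular_of_surjective_snoc {B B' : Type u} [CommRing B] [CommRing B'] (π : B →+* B')
    (hπ : Function.Surjective π) {c : ℕ} (f₀ : Fin c → B) (a : B)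
    (hker : RingHom.ker π = Ideal.span {a})
    (h : CAlgX.IsH1Regular (Fin.snoc (α := fun _ => B) f₀ a : Fin (c + 1) → B)) :
    CAlgX.IsH1Regular (fun i => π (f₀ i)) := by
  classical
  intro ab hab
  choose b hb using fun i => hπ (ab i)
  have h1 : ∑ i, b i * f₀ i ∈ RingHom.ker π := by
    rw [RingHom.mem_ker, map_sum, ← hab]
    apply Finset.sum_congr rfl
    intro i _
    rw [map_mul, hb]
  rw [hker, Ideal.mem_span_singleton'] at h1
  obtain ⟨b', hb'⟩ := h1
  have hv : ∑ i, (Fin.snoc (α := fun _ => B) b (-b') : Fin (c + 1) → B) i *
      (Fin.snoc (α := fun _ => B) f₀ a : Fin (c + 1) → B) i = 0 := by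
    rw [Fin.sum_univ_castSucc]
    simp only [Fin.snoc_castSucc, Fin.snoc_last]
    rw [← hb']
    ring
  have hmem := h _ hv
  have hπa : π a = 0 := by
    have : a ∈ RingHom.ker π := by
      rw [hker]
      exact Ideal.subset_span rfl
    exact this
  have key : ∀ w ∈ Submodule.span B {v : Fin (c + 1) → B | ∃ i j : Fin (c + 1),
      v = Pi.single i ((Fin.snoc (α := fun _ => B) f₀ a : Fin (c + 1) → B) j) -
        Pi.single j ((Fin.snoc (α := fun _ => B) f₀ a : Fin (c + 1) → B) i)},
      (fun i : Fin c => π (w (Fin.castSucc i))) ∈ Submodule.span B' {v : Fin c → B' |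
        ∃ i j : Fin c, v = Pi.single i (π (f₀ j)) - Pi.single j (π (f₀ i))} := by
    intro w hw
    induction hw using Submodule.span_induction with
    | mem w hw =>
      obtain ⟨i, j, rfl⟩ := hw
      induction i using Fin.lastCases with
      | last =>
        induction j using Fin.lastCases with
        | last =>
          have : (fun k : Fin c => π ((Pi.single (Fin.last c)
              ((Fin.snoc (α := fun _ => B) f₀ a : Fin (c + 1) → B) (Fin.last c)) -
              Pi.single (Fin.last c) ((Fin.snoc (α := fun _ => B) f₀ a : Fin (c + 1) → B)
                (Fin.last c)) : Fin (c + 1) → B) (Fin.castSucc k))) = 0 := by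
            funext k
            simp
          rw [this]
          exact Submodule.zero_mem _
        | cast j' =>
          have : (fun k : Fin c => π ((Pi.single (Fin.last c)
              ((Fin.snoc (α := fun _ => B) f₀ a : Fin (c + 1) → B) (Fin.castSucc j')) -
              Pi.single (Fin.castSucc j') ((Fin.snoc (α := fun _ => B) f₀ a : Fin (c + 1) → B)
                (Fin.last c)) : Fin (c + 1) → B) (Fin.castSucc k))) = 0 := by
            funext k
            simp only [Fin.snoc_castSucc, Fin.snoc_last, Pi.sub_apply, Pi.single_apply,
              Pi.zero_apply]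
            split_ifs with h1 h2 h2
            · exact absurd h1 (Fin.castSucc_lt_last k).ne
            · exact absurd h1 (Fin.castSucc_lt_last k).ne
            · rw [zero_sub, map_neg, hπa, neg_zero]
            · rw [sub_zero, map_zero]
          rw [this]
          exact Submodule.zero_mem _
      | cast i' =>
        induction j using Fin.lastCases with
        | last =>
          have : (fun k : Fin c => π ((Pi.single (Fin.castSucc i')
              ((Fin.snoc (α := fun _ => B) f₀ a : Fin (c + 1) → B) (Fin.last c)) -
              Pi.single (Fin.last c) ((Fin.snoc (α := fun _ => B) f₀ a : Fin (c + 1) → B)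
                (Fin.castSucc i')) : Fin (c + 1) → B) (Fin.castSucc k))) = 0 := by
            funext k
            simp only [Fin.snoc_castSucc, Fin.snoc_last, Pi.sub_apply, Pi.single_apply,
              Pi.zero_apply]
            split_ifs with h1 h2 h2
            · exact absurd h2 (Fin.castSucc_lt_last k).ne
            · rw [sub_zero, hπa]
            · exact absurd h2 (Fin.castSucc_lt_last k).ne
            · rw [sub_zero, map_zero]
          rw [this]
          exact Submodule.zero_mem _
        | cast j' =>
          have : (fun k : Fin c => π ((Pi.single (Fin.castSucc i')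
              ((Fin.snoc (α := fun _ => B) f₀ a : Fin (c + 1) → B) (Fin.castSucc j')) -
              Pi.single (Fin.castSucc j') ((Fin.snoc (α := fun _ => B) f₀ a : Fin (c + 1) → B)
                (Fin.castSucc i')) : Fin (c + 1) → B) (Fin.castSucc k))) =
              Pi.single i' (π (f₀ j')) - Pi.single j' (π (f₀ i')) := by
            funext k
            simp only [Fin.snoc_castSucc, Pi.sub_apply, Pi.single_apply, Fin.castSucc_inj]
            split_ifs <;> simp
          rw [this]
          exact Submodule.subset_span ⟨i', j', rfl⟩
    | zero =>
      have : (fun i : Fin c => π ((0 : Fin (c + 1) → B) (Fin.castSucc i))) = 0 := by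
        funext i
        simp
      rw [this]
      exact Submodule.zero_mem _
    | add x y _ _ hx hy =>
      have : (fun i : Fin c => π ((x + y) (Fin.castSucc i))) =
          (fun i : Fin c => π (x (Fin.castSucc i))) + (fun i : Fin c => π (y (Fin.castSucc i))) := by
        funext i
        simp
      rw [this]
      exact Submodule.add_mem _ hx hy
    | smul t x _ hx =>
      have : (fun i : Fin c => π ((t • x) (Fin.castSucc i))) =
          π t • (fun i : Fin c => π (x (Fin.castSucc i))) := by
        funext i
        simp
      rw [this]
      exact Submodule.smul_mem _ _ hx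
  have h2 := key _ hmem
  have h3 : (fun i : Fin c => π ((Fin.snoc (α := fun _ => B) b (-b') : Fin (c + 1) → B)
      (Fin.castSucc i))) = ab := by
    funext i
    simp only [Fin.snoc_castSucc]
    exact hb i
  rw [h3] at h2
  exact h2

section AwayH1

variable (R : Type u) [CommRing R] (n c : ℕ) (F : Fin c → MvPolynomial (Fin n) R)
  (H : MvPolynomial (Fin n) R)

/-- the kernel of the presentation of `R[x]_H` by one more variable -/
theorem ker_awayHom_id (T : Type u) [CommRing T] [Algebra (MvPolynomial (Fin n) R) T]
    [Algebra R T] [IsScalarTower R (MvPolynomial (Fin n) R) T]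
    [IsLocalization.Away ((AlgHom.id R (MvPolynomial (Fin n) R)) H) T] :
    RingHom.ker (awayHom (AlgHom.id R (MvPolynomial (Fin n) R)) H T).toRingHom =
      Ideal.span {rename Fin.castSucc H * X (Fin.last n) - 1} := by
  have h1 := ker_awayHom' (AlgHom.id R (MvPolynomial (Fin n) R))
    (Fin.elim0 : Fin 0 → MvPolynomial (Fin n) R) H T Function.surjective_id
    (fun i => Fin.elim0 i) (fun x hx => by
      have hx0 : x = 0 := hx
      rw [hx0, mul_zero]
      exact Ideal.zero_mem _)
  have h2 : Set.range (awayRel (Fin.elim0 : Fin 0 → MvPolynomial (Fin n) R) H) =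
      {rename Fin.castSucc H * X (Fin.last n) - 1} := by
    ext y
    constructor
    · rintro ⟨i, rfl⟩
      have hi : i = Fin.last 0 := by
        apply Fin.ext
        have := i.2
        simp only [Fin.val_last]
        omega
      rw [hi, Set.mem_singleton_iff]
      simp only [awayRel, Fin.snoc_last]
      rw [mul_comm]
    · intro hy
      rw [Set.mem_singleton_iff] at hy
      refine ⟨Fin.last 0, ?_⟩
      rw [hy]
      simp only [awayRel, Fin.snoc_last]
      rw [mul_comm]
  rw [← h2]
  exact h1

/-- the generators of a relative global complete intersection are `H_1`-regular in the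
localized polynomial ring -/
theorem isH1Regular_away_of_isRelGCI
    (hrel : _root_.Synt.IsRelGCI R (n + 1) (c + 1) (awayRel' R n c F H)) :
    CAlgX.IsH1Regular (fun i => algebraMap (MvPolynomial (Fin n) R) (Localization.Away H) (F i)) := by
  have hKR := isKoszulRegularSeq_of_isRelGCI R (n + 1) (c + 1) (awayRel' R n c F H) hrel
  have hH1 : CAlgX.IsH1Regular (awayRel' R n c F H) :=
    Groth.Agent.Lib.Helper4.KosH1b.isH1Regular_ofFn _
      (Groth.Agent.Lib.Helper4.KosH1.isH1Regular_of_koszul _ hKR)
  haveI : IsLocalization.Away ((AlgHom.id R (MvPolynomial (Fin n) R)) H) (Localization.Away H) :=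
    (inferInstance : IsLocalization.Away H (Localization.Away H))
  have hsurj : Function.Surjective
      (awayHom (AlgHom.id R (MvPolynomial (Fin n) R)) H (Localization.Away H)).toRingHom :=
    awayHom_surjective (AlgHom.id R (MvPolynomial (Fin n) R)) H (Localization.Away H)
      Function.surjective_id
  have h1 := isH1Regular_of_surjective_snoc
    (awayHom (AlgHom.id R (MvPolynomial (Fin n) R)) H (Localization.Away H)).toRingHom hsurj
    (fun i => rename Fin.castSucc (F i)) (rename Fin.castSucc H * X (Fin.last n) - 1)
    (ker_awayHom_id R n H (Localization.Away H)) hH1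
  have h2 : (fun i => (awayHom (AlgHom.id R (MvPolynomial (Fin n) R)) H
      (Localization.Away H)).toRingHom (rename Fin.castSucc (F i))) =
      (fun i => algebraMap (MvPolynomial (Fin n) R) (Localization.Away H) (F i)) := by
    funext i
    exact awayHom_rename (AlgHom.id R (MvPolynomial (Fin n) R)) H (Localization.Away H) (F i)
  rw [h2] at h1
  exact h1

end AwayH1

end Groth.Agent.Helper2.Synt
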