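import Mathlib
import Groth.Agent.Lib.Helper2.Synt.H1Away

set_option autoImplicit false
set_option linter.style.haveILetI false
set_option linter.unusedSectionVars false
universe u

namespace Groth.Agent.Helper2.Synt

open TensorProduct MvPolynomial IsLocalRing

section FreeCot

variable {P : Type u} [CommRing P] (I : Ideal P) (H : P) {c : ℕ} (F : Fin c → P)
  (hFI : ∀ i, F i ∈ I) (hHI : ∀ x ∈ I, H * x ∈ Ideal.span (Set.range F))
  (hH1 : CAlgX.IsH1Regular (fun i => algebraMap P (Localization.Away H) (F i)))

include hFI hHI in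
theorem map_away_eq_span :
    I.map (algebraMap P (Localization.Away H)) =
      Ideal.span (Set.range fun i => algebraMap P (Localization.Away H) (F i)) := by
  apply le_antisymm
  · rw [Ideal.map_le_iff_le_comap]
    intro x hx
    rw [Ideal.mem_comap]
    have h1 := Ideal.mem_map_of_mem (algebraMap P (Localization.Away H)) (hHI x hx)
    rw [Ideal.map_span, ← Set.range_comp, map_mul] at h1
    have hunit : IsUnit (algebraMap P (Localization.Away H) H) :=
      IsLocalization.Away.algebraMap_isUnit H
    exact (Ideal.unit_mul_mem_iff_mem _ hunit).mp h1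
  · rw [Ideal.span_le]
    rintro _ ⟨i, rfl⟩
    exact Ideal.mem_map_of_mem _ (hFI i)

include hFI hHI hH1 in
/-- the key coefficient lemma: a combination of the generators lying in `I²` up to a power of
`H` has its coefficients in `I` up to a power of `H` -/
theorem exists_pow_mul_mem_of_sum_mem_sq (b : Fin c → P) (j : ℕ)
    (hb : H ^ j * ∑ i, b i * F i ∈ I ^ 2) (k : Fin c) : ∃ m : ℕ, H ^ m * b k ∈ I := by
  have hspan := map_away_eq_span I H F hFI hHI
  have hunit : IsUnit (algebraMap P (Localization.Away H) H) :=
    IsLocalization.Away.algebraMap_isUnit H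
  have h1 : ∑ i, algebraMap P (Localization.Away H) (b i) *
      algebraMap P (Localization.Away H) (F i) ∈
      (I.map (algebraMap P (Localization.Away H))) ^ 2 := by
    have h2 := Ideal.mem_map_of_mem (algebraMap P (Localization.Away H)) hb
    rw [Ideal.map_pow, map_mul, map_pow, map_sum] at h2
    have h3 := (Ideal.unit_mul_mem_iff_mem _ (hunit.pow j)).mp h2
    convert h3 using 2 with i
    rw [map_mul]
  have h4 := Groth.Agent.Lib.Helper4.KosH1b.coeff_mem_of_h1
    (fun i => algebraMap P (Localization.Away H) (F i)) hH1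
    (I.map (algebraMap P (Localization.Away H))) hspan.symm
    (fun i => algebraMap P (Localization.Away H) (b i)) h1 k
  rw [IsLocalization.algebraMap_mem_map_algebraMap_iff (Submonoid.powers H)] at h4
  obtain ⟨_, ⟨m, rfl⟩, hm⟩ := h4
  exact ⟨m, hm⟩

section Basis

variable (A' : Type u) [CommRing A'] [Algebra (P ⧸ I) A']
    [IsLocalization.Away (Ideal.Quotient.mk I H) A']
    (N' : Type u) [AddCommGroup N'] [Module (P ⧸ I) N'] [Module A' N']
    [IsScalarTower (P ⧸ I) A' N']
    (φ : I.Cotangent →ₗ[P ⧸ I] N')
    [IsLocalizedModule (Submonoid.powers (Ideal.Quotient.mk I H)) φ]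

include hFI hHI hH1 in
theorem linearIndependent_localized_cotangent :
    LinearIndependent A' (fun i => φ (I.toCotangent ⟨F i, hFI i⟩)) := by
  have hunitH : IsUnit (algebraMap (P ⧸ I) A' (Ideal.Quotient.mk I H)) :=
    IsLocalization.Away.algebraMap_isUnit _
  rw [Fintype.linearIndependent_iff]
  intro a ha k
  obtain ⟨⟨d, hd⟩, hint⟩ := IsLocalization.exist_integer_multiples_of_finite
    (Submonoid.powers (Ideal.Quotient.mk I H)) a
  choose z hz using hint
  choose b hb using fun i => Ideal.Quotient.mk_surjective (z i)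
  have hdunit : IsUnit (algebraMap (P ⧸ I) A' d) := by
    obtain ⟨j, rfl⟩ := hd
    rw [map_pow]
    exact hunitH.pow j
  -- the relation in the cotangent module
  have h1 : φ (∑ i, z i • I.toCotangent ⟨F i, hFI i⟩) = 0 := by
    rw [map_sum]
    have h2 : ∀ i, φ (z i • I.toCotangent ⟨F i, hFI i⟩) =
        d • (a i • φ (I.toCotangent ⟨F i, hFI i⟩)) := by
      intro i
      rw [map_smul, ← algebraMap_smul A' (z i), hz i, smul_assoc]
    simp_rw [h2]
    rw [← Finset.smul_sum, ha, smul_zero]
  obtain ⟨⟨_, ⟨j, rfl⟩⟩, hj⟩ := IsLocalizedModule.exists_of_eq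
    (S := Submonoid.powers (Ideal.Quotient.mk I H)) (f := φ) (h1.trans (map_zero φ).symm)
  rw [smul_zero] at hj
  have h3 : (⟨Ideal.Quotient.mk I H ^ j, j, rfl⟩ : Submonoid.powers (Ideal.Quotient.mk I H)) •
      (∑ i, z i • I.toCotangent ⟨F i, hFI i⟩) =
      I.toCotangent ⟨H ^ j * ∑ i, b i * F i, I.mul_mem_left _ (I.sum_mem fun i _ =>
        I.mul_mem_left _ (hFI i))⟩ := by
    have h4 : ∀ i, z i • I.toCotangent ⟨F i, hFI i⟩ =
        I.toCotangent ⟨b i * F i, I.mul_mem_left _ (hFI i)⟩ := by
      intro i
      rw [← hb i]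
      rfl
    simp_rw [h4]
    rw [← map_sum, Submonoid.smul_def]
    show (Ideal.Quotient.mk I H ^ j) • I.toCotangent _ = _
    rw [← map_pow]
    have h5 : ∀ y : I, Ideal.Quotient.mk I (H ^ j) • I.toCotangent y =
        I.toCotangent ((H ^ j) • y) := fun y => rfl
    rw [h5]
    congr 1
    apply Subtype.ext
    simp only [SetLike.val_smul, smul_eq_mul, Submodule.coe_sum]
  rw [h3, Ideal.toCotangent_eq_zero] at hj
  obtain ⟨m, hm⟩ := exists_pow_mul_mem_of_sum_mem_sq I H F hFI hHI hH1 b j hj k
  have h5 : Ideal.Quotient.mk I H ^ m * z k = 0 := by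
    rw [← hb k, ← map_pow, ← map_mul]
    exact Ideal.Quotient.eq_zero_iff_mem.mpr hm
  have h6 : algebraMap (P ⧸ I) A' (z k) = 0 := by
    have := congrArg (algebraMap (P ⧸ I) A') h5
    rw [map_mul, map_zero, map_pow] at this
    exact (hunitH.pow m).mul_right_eq_zero.mp this
  rw [hz k, Algebra.smul_def] at h6
  exact hdunit.mul_right_eq_zero.mp h6

include hHI in
theorem span_localized_cotangent :
    ⊤ ≤ Submodule.span A' (Set.range fun i => φ (I.toCotangent ⟨F i, hFI i⟩)) := by
  have hunitH : IsUnit (algebraMap (P ⧸ I) A' (Ideal.Quotient.mk I H)) :=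
    IsLocalization.Away.algebraMap_isUnit _
  rintro x -
  obtain ⟨⟨w, ⟨_, ⟨j, rfl⟩⟩⟩, hws⟩ := IsLocalizedModule.surj
    (Submonoid.powers (Ideal.Quotient.mk I H)) φ x
  have hws' : algebraMap (P ⧸ I) A' (Ideal.Quotient.mk I H ^ j) • x = φ w := by
    rw [algebraMap_smul]
    exact hws
  suffices hφ : φ w ∈ Submodule.span A' (Set.range fun i => φ (I.toCotangent ⟨F i, hFI i⟩)) by
    rw [← hws'] at hφ
    have hu : IsUnit (algebraMap (P ⧸ I) A' (Ideal.Quotient.mk I H ^ j)) := by
      rw [map_pow]
      exact hunitH.pow j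
    exact (Submodule.smul_mem_iff_of_isUnit _ hu).mp hφ
  obtain ⟨y, rfl⟩ := I.toCotangent_surjective w
  obtain ⟨t, ht⟩ := (Ideal.mem_span_range_iff_exists_fun).mp (hHI y y.2)
  have h1 : Ideal.Quotient.mk I H • I.toCotangent y =
      ∑ i, Ideal.Quotient.mk I (t i) • I.toCotangent ⟨F i, hFI i⟩ := by
    have h2 : Ideal.Quotient.mk I H • I.toCotangent y = I.toCotangent (H • y) := rfl
    have h3 : ∀ i, Ideal.Quotient.mk I (t i) • I.toCotangent ⟨F i, hFI i⟩ =
        I.toCotangent (t i • ⟨F i, hFI i⟩) := fun i => rfl
    simp_rw [h3]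
    rw [h2, ← map_sum]
    congr 1
    apply Subtype.ext
    rw [Submodule.coe_sum]
    simp only [SetLike.val_smul, smul_eq_mul]
    exact ht.symm
  have h4 := congrArg φ h1
  rw [map_smul, map_sum] at h4
  have h5 : algebraMap (P ⧸ I) A' (Ideal.Quotient.mk I H) • φ (I.toCotangent y) ∈
      Submodule.span A' (Set.range fun i => φ (I.toCotangent ⟨F i, hFI i⟩)) := by
    rw [algebraMap_smul, h4]
    refine Submodule.sum_mem _ fun i _ => ?_
    rw [map_smul, ← algebraMap_smul A']
    exact Submodule.smul_mem _ _ (Submodule.subset_span ⟨i, rfl⟩)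
  exact (Submodule.smul_mem_iff_of_isUnit _ hunitH).mp h5

include hFI hHI hH1 φ in
/-- **Freeness of the localized conormal module** -/
theorem free_finite_localized_cotangent : Module.Free A' N' ∧ Module.Finite A' N' := by
  have b := Module.Basis.mk (linearIndependent_localized_cotangent I H F hFI hHI hH1 A' N' φ)
    (span_localized_cotangent I H F hFI hHI A' N' φ)
  exact ⟨Module.Free.of_basis b, Module.Finite.of_basis b⟩

end Basis

end FreeCot

section Double

variable {P : Type u} [CommRing P] (I : Ideal P) (G H₀ : P) {c : ℕ} (F : Fin c → P)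
  (hFI : ∀ i, F i ∈ I) (hHI : ∀ x ∈ I, (G * H₀) * x ∈ Ideal.span (Set.range F))
  (hH1 : CAlgX.IsH1Regular (fun i => algebraMap P (Localization.Away (G * H₀)) (F i)))

include hFI hHI hH1 in
/-- freeness of the conormal module on a smaller principal open, as a double localization -/
theorem free_finite_double_localized_cotangent :
    Module.Free (Localization.Away (algebraMap (P ⧸ I) (Localization.Away (Ideal.Quotient.mk I G))
        (Ideal.Quotient.mk I H₀)))
      (LocalizedModule (Submonoid.powers (algebraMap (P ⧸ I)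
        (Localization.Away (Ideal.Quotient.mk I G)) (Ideal.Quotient.mk I H₀)))
        (LocalizedModule (Submonoid.powers (Ideal.Quotient.mk I G)) I.Cotangent)) ∧
    Module.Finite (Localization.Away (algebraMap (P ⧸ I) (Localization.Away (Ideal.Quotient.mk I G))
        (Ideal.Quotient.mk I H₀)))
      (LocalizedModule (Submonoid.powers (algebraMap (P ⧸ I)
        (Localization.Away (Ideal.Quotient.mk I G)) (Ideal.Quotient.mk I H₀)))
        (LocalizedModule (Submonoid.powers (Ideal.Quotient.mk I G)) I.Cotangent)) := by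
  haveI h1 : IsLocalization.Away (Ideal.Quotient.mk I G * Ideal.Quotient.mk I H₀)
      (Localization.Away (algebraMap (P ⧸ I) (Localization.Away (Ideal.Quotient.mk I G))
        (Ideal.Quotient.mk I H₀))) :=
    IsLocalization.Away.mul_of_associated (Ideal.Quotient.mk I G) (Ideal.Quotient.mk I H₀)
      (algebraMap (P ⧸ I) (Localization.Away (Ideal.Quotient.mk I G))
        (Ideal.Quotient.mk I H₀)) (Associated.refl (algebraMap (P ⧸ I)
          (Localization.Away (Ideal.Quotient.mk I G)) (Ideal.Quotient.mk I H₀)))
  haveI h2 : IsLocalization.Away (Ideal.Quotient.mk I (G * H₀))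
      (Localization.Away (algebraMap (P ⧸ I) (Localization.Away (Ideal.Quotient.mk I G))
        (Ideal.Quotient.mk I H₀))) := by
    rw [map_mul]
    exact h1
  have hb1 : IsBaseChange (Localization.Away (Ideal.Quotient.mk I G))
      (LocalizedModule.mkLinearMap (Submonoid.powers (Ideal.Quotient.mk I G)) I.Cotangent) :=
    (isLocalizedModule_iff_isBaseChange (Submonoid.powers (Ideal.Quotient.mk I G)) _ _).mp
      inferInstance
  have hb2 : IsBaseChange (Localization.Away (algebraMap (P ⧸ I)
      (Localization.Away (Ideal.Quotient.mk I G)) (Ideal.Quotient.mk I H₀)))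
      (LocalizedModule.mkLinearMap (Submonoid.powers (algebraMap (P ⧸ I)
        (Localization.Away (Ideal.Quotient.mk I G)) (Ideal.Quotient.mk I H₀)))
        (LocalizedModule (Submonoid.powers (Ideal.Quotient.mk I G)) I.Cotangent)) :=
    (isLocalizedModule_iff_isBaseChange (Submonoid.powers (algebraMap (P ⧸ I)
        (Localization.Away (Ideal.Quotient.mk I G)) (Ideal.Quotient.mk I H₀))) _ _).mp
      inferInstance
  have hb3 := IsBaseChange.comp hb1 hb2
  haveI hloc : IsLocalizedModule (Submonoid.powers (Ideal.Quotient.mk I (G * H₀)))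
      ((LocalizedModule.mkLinearMap (Submonoid.powers (algebraMap (P ⧸ I)
        (Localization.Away (Ideal.Quotient.mk I G)) (Ideal.Quotient.mk I H₀)))
        (LocalizedModule (Submonoid.powers (Ideal.Quotient.mk I G)) I.Cotangent)).restrictScalars
          (P ⧸ I) ∘ₗ
        LocalizedModule.mkLinearMap (Submonoid.powers (Ideal.Quotient.mk I G)) I.Cotangent) :=
    (isLocalizedModule_iff_isBaseChange (Submonoid.powers (Ideal.Quotient.mk I (G * H₀)))
      (Localization.Away (algebraMap (P ⧸ I) (Localization.Away (Ideal.Quotient.mk I G))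
        (Ideal.Quotient.mk I H₀))) _).mpr hb3
  exact free_finite_localized_cotangent I (G * H₀) F hFI hHI hH1 _ _
    ((LocalizedModule.mkLinearMap (Submonoid.powers (algebraMap (P ⧸ I)
        (Localization.Away (Ideal.Quotient.mk I G)) (Ideal.Quotient.mk I H₀)))
        (LocalizedModule (Submonoid.powers (Ideal.Quotient.mk I G)) I.Cotangent)).restrictScalars
          (P ⧸ I) ∘ₗ
        LocalizedModule.mkLinearMap (Submonoid.powers (Ideal.Quotient.mk I G)) I.Cotangent)

end Double

/-- a module which is finite free on a cover by principal opens is projective -/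
theorem projective_of_localizationSpan_free {A : Type u} [CommRing A] {N : Type u}
    [AddCommGroup N] [Module A N] (s : Set A) (hs : Ideal.span s = ⊤)
    (h : ∀ r : s, Module.Free (Localization.Away r.1) (LocalizedModule.Away r.1 N) ∧
      Module.Finite (Localization.Away r.1) (LocalizedModule.Away r.1 N)) :
    Module.Projective A N := by
  haveI : Module.FinitePresentation A N :=
    Module.FinitePresentation.of_localizationSpan s hs (fun r => by
      haveI := (h r).1
      haveI := (h r).2
      exact Module.finitePresentation_of_projective _ _)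
  haveI : Module.Flat A N := Module.flat_of_localized_span A N s hs (fun r => by
    haveI := (h r).1
    exact Module.Flat.trans A (Localization.Away r.1) _)
  exact Module.Flat.projective_of_finitePresentation

end Groth.Agent.Helper2.Synt
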