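import Mathlib
import Groth.Agent.Lib.Helper2.Synt.CotFree

set_option autoImplicit false
set_option linter.style.haveILetI false
set_option linter.unusedSectionVars false
universe u

namespace Groth.Agent.Helper2.Synt

open TensorProduct MvPolynomial IsLocalRing

/-- **S9151** -/
theorem cotangent_localization_finite_projective (R : Type u) [CommRing R] (n : ℕ)
    (I : Ideal (MvPolynomial (Fin n) R)) (hI : I.FG) (g : MvPolynomial (Fin n) R ⧸ I)
    (hg : _root_.Synt.IsSyntomic R (Localization.Away g)) :
    Module.Finite (Localization.Away g) (LocalizedModule (Submonoid.powers g) I.Cotangent) ∧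
      Module.Projective (Localization.Away g)
        (LocalizedModule (Submonoid.powers g) I.Cotangent) := by
  obtain ⟨G, rfl⟩ := Ideal.Quotient.mk_surjective g
  constructor
  · haveI : Module.Finite (MvPolynomial (Fin n) R) I := Module.Finite.iff_fg.mpr hI
    haveI : Module.Finite (MvPolynomial (Fin n) R) I.Cotangent :=
      Module.Finite.of_surjective I.toCotangent I.toCotangent_surjective
    haveI : Module.Finite (MvPolynomial (Fin n) R ⧸ I) I.Cotangent :=
      Module.Finite.of_restrictScalars_finite (MvPolynomial (Fin n) R) _ _
    infer_instance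
  · have hkerI : RingHom.ker (Ideal.Quotient.mkₐ R I).toRingHom = I := Ideal.mk_ker
    apply projective_of_localizationSpan_free
      {r : Localization.Away (Ideal.Quotient.mk I G) |
        Module.Free (Localization.Away r) (LocalizedModule.Away r
          (LocalizedModule (Submonoid.powers (Ideal.Quotient.mk I G)) I.Cotangent)) ∧
        Module.Finite (Localization.Away r) (LocalizedModule.Away r
          (LocalizedModule (Submonoid.powers (Ideal.Quotient.mk I G)) I.Cotangent))}
    · by_contra hne
      obtain ⟨m, hm, hle⟩ := Ideal.exists_le_maximal _ hne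
      haveI := hm.isPrime
      haveI hq : (m.comap (algebraMap (MvPolynomial (Fin n) R ⧸ I)
          (Localization.Away (Ideal.Quotient.mk I G)))).IsPrime := Ideal.comap_isPrime _ _
      have hgq : Ideal.Quotient.mk I G ∉ m.comap (algebraMap (MvPolynomial (Fin n) R ⧸ I)
          (Localization.Away (Ideal.Quotient.mk I G))) := by
        intro hmem
        rw [Ideal.mem_comap] at hmem
        exact hm.ne_top (Ideal.eq_top_of_isUnit_mem _ hmem
          (IsLocalization.Away.algebraMap_isUnit _))
      obtain ⟨c₀, F, H, hFker, hH, hdvd, hHI, hrel⟩ := exists_generators_of_syntomic_away R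
        (MvPolynomial (Fin n) R ⧸ I) n (Ideal.Quotient.mkₐ R I)
        (Ideal.Quotient.mkₐ_surjective R I) (by rw [hkerI]; exact hI)
        (Ideal.Quotient.mk I G) hg _ hgq G hgq
      rw [hkerI] at hFker hHI
      obtain ⟨H₀, rfl⟩ := hdvd
      have hH1 := isH1Regular_away_of_isRelGCI R n c₀ F (G * H₀) hrel
      have hfree := free_finite_double_localized_cotangent I G H₀ F hFker hHI hH1
      have hr : algebraMap (MvPolynomial (Fin n) R ⧸ I)
          (Localization.Away (Ideal.Quotient.mk I G)) (Ideal.Quotient.mk I H₀) ∈ m :=
        hle (Ideal.subset_span hfree)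
      apply hH
      show Ideal.Quotient.mk I (G * H₀) ∈ _
      rw [map_mul]
      exact Ideal.mul_mem_left _ _ hr
    · rintro ⟨r, hr⟩
      exact hr

end Groth.Agent.Helper2.Synt
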