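import Mathlib
import Groth.Agent.Lib.Helper2.Synt.SyntLift

set_option autoImplicit false
set_option linter.style.haveILetI false
set_option linter.unusedSectionVars false
universe u

namespace Groth.Agent.Helper2.Synt

open TensorProduct MvPolynomial IsLocalRing

theorem ringKrullDim_fiber_eq_zero_of_quasiFinite {R S : Type u} [CommRing R] [CommRing S]
    [Algebra R S] [Algebra.QuasiFinite R S] (p : Ideal R) [p.IsPrime] [Nontrivial (p.Fiber S)] :
    ringKrullDim (p.Fiber S) = 0 :=
  ringKrullDimZero_iff_ringKrullDim_eq_zero.mp inferInstance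

/-- a quasi-finite relative global complete intersection has as many equations as variables -/
theorem eq_of_isRelGCI_of_quasiFinite (R : Type u) [CommRing R] (n c : ℕ)
    (F : Fin c → MvPolynomial (Fin n) R) (h : _root_.Synt.IsRelGCI R n c F)
    [Nontrivial (_root_.Synt.RelGCIRing R n c F)]
    [Algebra.QuasiFinite R (_root_.Synt.RelGCIRing R n c F)] : n = c := by
  obtain ⟨m, hm⟩ := Ideal.exists_maximal (_root_.Synt.RelGCIRing R n c F)
  haveI := hm.isPrime
  have hle : Ideal.span (Set.range F) ≤ m.comap (Ideal.Quotient.mk (Ideal.span (Set.range F))) := by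
    intro x hx
    rw [Ideal.mem_comap, Ideal.Quotient.eq_zero_iff_mem.mpr hx]
    exact Ideal.zero_mem _
  obtain ⟨hcn, hdim⟩ := fibre_dim_of_isRelGCI R n c F _ h hle
  haveI := nontrivial_fiber_of_le R n c F _ hle
  have h0 := ringKrullDim_fiber_eq_zero_of_quasiFinite (R := R)
    (S := _root_.Synt.RelGCIRing R n c F)
    ((m.comap (Ideal.Quotient.mk (Ideal.span (Set.range F)))).comap
      (algebraMap R (MvPolynomial (Fin n) R)))
  rw [h0] at hdim
  have : (0 : ℕ) = n - c := by exact_mod_cast hdim
  omega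

/-- **S2237** -/
theorem exists_away_algEquiv_square_presentation {A B : Type u} [CommRing A]
    [CommRing B] [Algebra A B] [Module.Flat A B] [Algebra.QuasiFinite A B] (hlci : LCI.IsLCI A B)
    (q : Ideal B) [q.IsPrime] :
    ∃ g : B, g ∉ q ∧ ∃ (n : ℕ) (f : Fin n → MvPolynomial (Fin n) A),
      Nonempty (Localization.Away g ≃ₐ[A]
        (MvPolynomial (Fin n) A ⧸ Ideal.span (Set.range f))) := by
  have hsynt := isSyntomic_of_flat_of_isLCI A B hlci
  obtain ⟨g, hg, n, c, F, hrel, ⟨ι⟩⟩ := exists_away_isRelGCI_of_isSyntomic A B hsynt q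
  haveI hprime := isPrime_map_away q g hg
  haveI : Nontrivial (Localization.Away g) := by
    by_contra hnt
    rw [not_nontrivial_iff_subsingleton] at hnt
    exact hprime.ne_top (Subsingleton.elim _ _)
  haveI : Nontrivial (_root_.Synt.RelGCIRing A n c F) := ι.injective.nontrivial
  haveI : Algebra.QuasiFinite A (_root_.Synt.RelGCIRing A n c F) :=
    (Algebra.QuasiFinite.iff_of_algEquiv ι).mp inferInstance
  obtain rfl := eq_of_isRelGCI_of_quasiFinite A n c F hrel
  exact ⟨g, hg, n, F, ⟨ι⟩⟩

end Groth.Agent.Helper2.Synt
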