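import Mathlib
import Groth.Agent.Lib.Helper2.Synt.SyntQF
import Groth.Agent.Lib.Helper2.Synt.CotProj
import Groth.Agent.Lib.Helper2.Synt.RelGCISynt
import Groth.Agent.Lib.Helper7.Hensel.FiniteDecomp

/-!
# Finite syntomic algebras over a local ring have square presentations
-/

set_option autoImplicit false
set_option linter.style.haveILetI false
set_option linter.unusedSectionVars false
universe u

namespace Groth.Agent.Helper2.Synt

open TensorProduct MvPolynomial IsLocalRing

/-- Nakayama: an ideal generated by `K` up to its square is generated by `K` after inverting an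
element which is `1` modulo the ideal -/
theorem exists_mul_mem_of_le_sup_sq {P : Type u} [CommRing P] (J K : Ideal P) (hJ : J.FG)
    (hKJ : K ≤ J) (h : J ≤ K ⊔ J * J) :
    ∃ H : P, H - 1 ∈ J ∧ ∀ x ∈ J, H * x ∈ K := by
  have hN : (J.map (Ideal.Quotient.mk K)).FG := hJ.map _
  have hle : J.map (Ideal.Quotient.mk K) ≤
      J.map (Ideal.Quotient.mk K) • (J.map (Ideal.Quotient.mk K) : Submodule (P ⧸ K) (P ⧸ K)) := by
    have h1 := Ideal.map_mono (f := Ideal.Quotient.mk K) h
    rw [Ideal.map_sup, Ideal.map_mul, Ideal.map_quotient_self, bot_sup_eq] at h1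
    exact h1
  obtain ⟨r, hr1, hr0⟩ := Submodule.exists_sub_one_mem_and_smul_eq_zero_of_fg_of_le_smul
    (J.map (Ideal.Quotient.mk K)) (J.map (Ideal.Quotient.mk K)) hN hle
  obtain ⟨H, rfl⟩ := Ideal.Quotient.mk_surjective r
  refine ⟨H, ?_, fun x hx => ?_⟩
  · rw [← map_one (Ideal.Quotient.mk K), ← map_sub] at hr1
    have h2 : H - 1 ∈ (J.map (Ideal.Quotient.mk K)).comap (Ideal.Quotient.mk K) := hr1
    rw [Ideal.comap_map_of_surjective _ Ideal.Quotient.mk_surjective, ← RingHom.ker_eq_comap_bot,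
      Ideal.mk_ker, sup_eq_left.mpr hKJ] at h2
    exact h2
  · have h3 := hr0 _ (Ideal.mem_map_of_mem (Ideal.Quotient.mk K) hx)
    rw [smul_eq_mul, ← map_mul] at h3
    exact Ideal.Quotient.eq_zero_iff_mem.mp h3

/-- local generators of the kernel of a presentation of a finite syntomic algebra: as many as
variables -/
theorem exists_local_square_generators (A : Type u) [CommRing A] (n : ℕ)
    (J : Ideal (MvPolynomial (Fin n) A)) (hJ : J.FG)
    [Module.Finite A (MvPolynomial (Fin n) A ⧸ J)]
    (hsyn : _root_.Synt.IsSyntomic A (MvPolynomial (Fin n) A ⧸ J))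
    (q : Ideal (MvPolynomial (Fin n) A ⧸ J)) [q.IsPrime] :
    ∃ (F : Fin n → MvPolynomial (Fin n) A) (H : MvPolynomial (Fin n) A), (∀ i, F i ∈ J) ∧
      Ideal.Quotient.mk J H ∉ q ∧ (∀ x ∈ J, H * x ∈ Ideal.span (Set.range F)) ∧
      CAlgX.IsH1Regular (fun i => algebraMap _ (Localization.Away H) (F i)) := by
  have hkerJ : RingHom.ker (Ideal.Quotient.mkₐ A J).toRingHom = J := Ideal.mk_ker
  have hsynt1 : _root_.Synt.IsSyntomic A
      (Localization.Away (1 : MvPolynomial (Fin n) A ⧸ J)) :=
    isSyntomic_of_algEquiv ((IsLocalization.atOne (MvPolynomial (Fin n) A ⧸ J)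
      (Localization.Away (1 : MvPolynomial (Fin n) A ⧸ J))).restrictScalars A) hsyn
  have h1q : (1 : MvPolynomial (Fin n) A ⧸ J) ∉ q := fun h =>
    (inferInstance : q.IsPrime).ne_top ((Ideal.eq_top_iff_one _).mpr h)
  obtain ⟨c₀, F, H, hFker, hH, -, hHI, hrel⟩ := exists_generators_of_syntomic_away A
    (MvPolynomial (Fin n) A ⧸ J) n (Ideal.Quotient.mkₐ A J)
    (Ideal.Quotient.mkₐ_surjective A J) (by rw [hkerJ]; exact hJ) 1 hsynt1 q h1q 1
    (by rw [map_one]; exact h1q)
  rw [hkerJ] at hFker hHI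
  have hH' : Ideal.Quotient.mk J H ∉ q := hH
  have hFle : Ideal.span (Set.range F) ≤ J := by
    rw [Ideal.span_le]
    rintro _ ⟨i, rfl⟩
    exact hFker i
  obtain ⟨e₁⟩ := nonempty_away_algEquiv_of_le A (Ideal.span (Set.range F)) J hFle H H dvd_rfl hHI
  obtain ⟨ι, -⟩ : ∃ ι : Localization.Away (Ideal.Quotient.mk J H) ≃ₐ[A]
      _root_.Synt.RelGCIRing A (n + 1) (c₀ + 1) (awayRel' A n c₀ F H), True :=
    ⟨e₁.symm.trans (awayEquivRelGCIRing A n c₀ F H), trivial⟩
  haveI hprime := isPrime_map_away q _ hH'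
  haveI : Nontrivial (Localization.Away (Ideal.Quotient.mk J H)) := by
    by_contra hnt
    rw [not_nontrivial_iff_subsingleton] at hnt
    exact hprime.ne_top (Subsingleton.elim _ _)
  haveI : Nontrivial (_root_.Synt.RelGCIRing A (n + 1) (c₀ + 1) (awayRel' A n c₀ F H)) :=
    ι.injective.nontrivial
  haveI : Algebra.QuasiFinite A
      (_root_.Synt.RelGCIRing A (n + 1) (c₀ + 1) (awayRel' A n c₀ F H)) :=
    (Algebra.QuasiFinite.iff_of_algEquiv ι).mp inferInstance
  have hnc := eq_of_isRelGCI_of_quasiFinite A (n + 1) (c₀ + 1) _ hrel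
  have hc₀ : c₀ = n := by omega
  subst hc₀
  exact ⟨F, H, hFker, hH', hHI, isH1Regular_away_of_isRelGCI A c₀ c₀ F H hrel⟩

theorem finrank_quotient_tensor_eq_rankAtStalk {R : Type u} {M : Type u} [CommRing R]
    [AddCommGroup M] [Module R M] [Module.Flat R M] [Module.Finite R M] (P : Ideal R)
    [hP : P.IsMaximal] :
    Module.finrank (R ⧸ P) ((R ⧸ P) ⊗[R] M) = Module.rankAtStalk M ⟨P, hP.isPrime⟩ := by
  letI : Field (R ⧸ P) := Ideal.Quotient.field P
  rw [Module.rankAtStalk_eq]
  let e : P.ResidueField ⊗[R ⧸ P] ((R ⧸ P) ⊗[R] M) ≃ₗ[P.ResidueField] P.ResidueField ⊗[R] M :=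
    AlgebraTensorModule.cancelBaseChange _ _ _ _ _
  rw [← e.finrank_eq]
  exact (Module.finrank_baseChange (R := P.ResidueField) (S := R ⧸ P)
    (M' := (R ⧸ P) ⊗[R] M)).symm

section Cot

variable (A : Type u) [CommRing A] (n : ℕ)
    (J : Ideal (MvPolynomial (Fin n) A)) (hJ : J.FG)
    [Module.Finite A (MvPolynomial (Fin n) A ⧸ J)]
    (hsyn : _root_.Synt.IsSyntomic A (MvPolynomial (Fin n) A ⧸ J))

include hJ in
theorem finite_cotangent_of_fg : Module.Finite (MvPolynomial (Fin n) A ⧸ J) J.Cotangent := by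
  haveI : Module.Finite (MvPolynomial (Fin n) A) J := Module.Finite.iff_fg.mpr hJ
  haveI : Module.Finite (MvPolynomial (Fin n) A) J.Cotangent :=
    Module.Finite.of_surjective J.toCotangent J.toCotangent_surjective
  exact Module.Finite.of_restrictScalars_finite (MvPolynomial (Fin n) A) _ _

include hJ hsyn in
theorem projective_cotangent_of_finite_syntomic :
    Module.Projective (MvPolynomial (Fin n) A ⧸ J) J.Cotangent := by
  apply projective_of_localizationSpan_free
    {r : MvPolynomial (Fin n) A ⧸ J |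
      Module.Free (Localization.Away r) (LocalizedModule.Away r J.Cotangent) ∧
      Module.Finite (Localization.Away r) (LocalizedModule.Away r J.Cotangent)}
  · by_contra hne
    obtain ⟨m, hm, hle⟩ := Ideal.exists_le_maximal _ hne
    haveI := hm.isPrime
    obtain ⟨F, H, hFJ, hHm, hHJ, hH1⟩ := exists_local_square_generators A n J hJ hsyn m
    apply hHm
    apply hle
    apply Ideal.subset_span
    exact free_finite_localized_cotangent J H F hFJ hHJ hH1 _ _
      (LocalizedModule.mkLinearMap (Submonoid.powers (Ideal.Quotient.mk J H)) J.Cotangent)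
  · rintro ⟨r, hr⟩
    exact hr

include hJ hsyn in
theorem rankAtStalk_cotangent_of_finite_syntomic (m : Ideal (MvPolynomial (Fin n) A ⧸ J))
    [hm : m.IsPrime] :
    Module.rankAtStalk (R := MvPolynomial (Fin n) A ⧸ J) J.Cotangent ⟨m, hm⟩ = n := by
  obtain ⟨F, H, hFJ, hHm, hHJ, hH1⟩ := exists_local_square_generators A n J hJ hsyn m
  have b := Module.Basis.mk (linearIndependent_localized_cotangent J H F hFJ hHJ hH1
      (Localization.Away (Ideal.Quotient.mk J H))
      (LocalizedModule (Submonoid.powers (Ideal.Quotient.mk J H)) J.Cotangent)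
      (LocalizedModule.mkLinearMap (Submonoid.powers (Ideal.Quotient.mk J H)) J.Cotangent))
    (span_localized_cotangent J H F hFJ hHJ
      (Localization.Away (Ideal.Quotient.mk J H))
      (LocalizedModule (Submonoid.powers (Ideal.Quotient.mk J H)) J.Cotangent)
      (LocalizedModule.mkLinearMap (Submonoid.powers (Ideal.Quotient.mk J H)) J.Cotangent))
  haveI hprime := isPrime_map_away m _ hHm
  haveI : Nontrivial (Localization.Away (Ideal.Quotient.mk J H)) := by
    by_contra hnt
    rw [not_nontrivial_iff_subsingleton] at hnt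
    exact hprime.ne_top (Subsingleton.elim _ _)
  haveI := Module.Free.of_basis b
  haveI := Module.Finite.of_basis b
  haveI := finite_cotangent_of_fg A n J hJ
  haveI := projective_cotangent_of_finite_syntomic A n J hJ hsyn
  have hbc : IsBaseChange (Localization.Away (Ideal.Quotient.mk J H))
      (LocalizedModule.mkLinearMap (Submonoid.powers (Ideal.Quotient.mk J H)) J.Cotangent) :=
    (isLocalizedModule_iff_isBaseChange (Submonoid.powers (Ideal.Quotient.mk J H)) _ _).mp
      inferInstance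
  have h1 := Module.rankAtStalk_isBaseChange hbc
    ⟨m.map (algebraMap _ (Localization.Away (Ideal.Quotient.mk J H))), hprime⟩
  have h2 : (PrimeSpectrum.comap (algebraMap (MvPolynomial (Fin n) A ⧸ J)
      (Localization.Away (Ideal.Quotient.mk J H))))
      ⟨m.map (algebraMap _ (Localization.Away (Ideal.Quotient.mk J H))), hprime⟩ = ⟨m, hm⟩ := by
    apply PrimeSpectrum.ext
    exact comap_map_away m _ hHm
  rw [h2] at h1
  rw [← h1, Module.rankAtStalk_eq_finrank_of_free]
  simp [Module.finrank_eq_card_basis b]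

include hJ hsyn in
theorem exists_square_generators_of_finite_syntomic [IsLocalRing A] :
    ∃ (F : Fin n → MvPolynomial (Fin n) A) (H : MvPolynomial (Fin n) A),
      Ideal.span (Set.range F) ≤ J ∧ H - 1 ∈ J ∧ ∀ x ∈ J, H * x ∈ Ideal.span (Set.range F) := by
  haveI := Groth.Agent.Helper7.Hensel.finite_maximalSpectrum A (MvPolynomial (Fin n) A ⧸ J)
  haveI := finite_cotangent_of_fg A n J hJ
  haveI := projective_cotangent_of_finite_syntomic A n J hJ hsyn
  obtain ⟨b⟩ := Module.nonempty_basis_of_flat_of_finrank_eq (MvPolynomial (Fin n) A ⧸ J)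
    J.Cotangent n (fun m => by
      haveI := m.isMaximal
      rw [finrank_quotient_tensor_eq_rankAtStalk]
      exact rankAtStalk_cotangent_of_finite_syntomic A n J hJ hsyn m.asIdeal)
  choose F' hF' using fun i => J.toCotangent_surjective (b i)
  have hFle : Ideal.span (Set.range fun i => (F' i : MvPolynomial (Fin n) A)) ≤ J := by
    rw [Ideal.span_le]
    rintro _ ⟨i, rfl⟩
    exact (F' i).2
  have hsup : J ≤ Ideal.span (Set.range fun i => (F' i : MvPolynomial (Fin n) A)) ⊔ J * J := by
    intro x hx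
    have hrepr := b.sum_repr (J.toCotangent ⟨x, hx⟩)
    choose t ht using fun i => Ideal.Quotient.mk_surjective (b.repr (J.toCotangent ⟨x, hx⟩) i)
    have h1 : J.toCotangent ⟨x, hx⟩ = J.toCotangent (∑ i, t i • F' i) := by
      rw [map_sum, ← hrepr]
      refine Finset.sum_congr rfl fun i _ => ?_
      rw [← ht i, ← hF' i]
      rfl
    rw [Ideal.toCotangent_eq, pow_two] at h1
    have h2 : x = (∑ i, t i • F' i : J) + (x - (∑ i, t i • F' i : J)) := by ring
    rw [h2]
    refine Ideal.add_mem _ (Ideal.mem_sup_left ?_) (Ideal.mem_sup_right h1)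
    rw [Submodule.coe_sum]
    refine Ideal.sum_mem _ fun i _ => ?_
    simp only [SetLike.val_smul, smul_eq_mul]
    exact Ideal.mul_mem_left _ _ (Ideal.subset_span ⟨i, rfl⟩)
  obtain ⟨H, hH1, hHJ⟩ := exists_mul_mem_of_le_sup_sq J _ hJ hFle hsup
  exact ⟨fun i => (F' i : MvPolynomial (Fin n) A), H, hFle, hH1, hHJ⟩

end Cot

theorem ringKrullDim_le_zero_of_finite (K T : Type u) [Field K] [CommRing T] [Algebra K T]
    [Module.Finite K T] : ringKrullDim T ≤ 0 := by
  haveI : IsArtinianRing T := IsArtinianRing.of_finite K T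
  exact Ring.krullDimLE_iff.mp inferInstance

theorem S8954_main (A B : Type u) [CommRing A] [IsLocalRing A] [CommRing B] [Algebra A B]
    [Module.Finite A B] : _root_.Synt.IsSyntomic A B ↔
    ∃ (n : ℕ) (F : Fin n → MvPolynomial (Fin n) A),
      Nonempty (B ≃ₐ[A] _root_.Synt.RelGCIRing A n n F) := by
  constructor
  · intro hsyn
    obtain ⟨n, f, hf, hker⟩ := hsyn.2.1.out
    obtain ⟨J, hJdef⟩ : ∃ J : Ideal (MvPolynomial (Fin n) A), J = RingHom.ker f := ⟨_, rfl⟩
    have hJ : J.FG := by rw [hJdef]; exact hker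
    obtain ⟨e₀, -⟩ : ∃ e₀ : (MvPolynomial (Fin n) A ⧸ J) ≃ₐ[A] B, True := by
      subst hJdef
      exact ⟨Ideal.quotientKerAlgEquivOfSurjective hf, trivial⟩
    haveI : Module.Finite A (MvPolynomial (Fin n) A ⧸ J) :=
      Module.Finite.equiv e₀.symm.toLinearEquiv
    have hsyn' : _root_.Synt.IsSyntomic A (MvPolynomial (Fin n) A ⧸ J) :=
      isSyntomic_of_algEquiv e₀.symm hsyn
    obtain ⟨F, H, hFle, hH1, hHJ⟩ := exists_square_generators_of_finite_syntomic A n J hJ hsyn'
    obtain ⟨e₁⟩ := nonempty_away_algEquiv_of_le A (Ideal.span (Set.range F)) J hFle H H dvd_rfl hHJ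
    have hone : Ideal.Quotient.mk J H = 1 := by
      rw [← map_one (Ideal.Quotient.mk J)]
      exact Ideal.Quotient.eq.mpr hH1
    have hle : Submonoid.powers (Ideal.Quotient.mk J H) ≤
        IsUnit.submonoid (MvPolynomial (Fin n) A ⧸ J) := by
      rw [Submonoid.powers_le, hone]
      exact isUnit_one
    have e₂ : (MvPolynomial (Fin n) A ⧸ J) ≃ₐ[A] Localization.Away (Ideal.Quotient.mk J H) :=
      (IsLocalization.atUnits (MvPolynomial (Fin n) A ⧸ J)
        (Submonoid.powers (Ideal.Quotient.mk J H)) hle :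
          _ ≃ₐ[MvPolynomial (Fin n) A ⧸ J]
            Localization.Away (Ideal.Quotient.mk J H)).restrictScalars A
    exact ⟨n + 1, awayRel' A n n F H,
      ⟨((e₀.symm.trans e₂).trans e₁.symm).trans (awayEquivRelGCIRing A n n F H)⟩⟩
  · rintro ⟨n, F, ⟨e⟩⟩
    haveI : Module.Finite A (_root_.Synt.RelGCIRing A n n F) :=
      Module.Finite.equiv e.toLinearEquiv
    have hrel : _root_.Synt.IsRelGCI A n n F := by
      refine isRelGCI_of_fibre_dim_le A n n F le_rfl (fun p _ => ?_)
      rw [Nat.sub_self, Nat.cast_zero]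
      exact ringKrullDim_le_zero_of_finite p.ResidueField
        (p.Fiber (_root_.Synt.RelGCIRing A n n F))
    exact isSyntomic_of_algEquiv e.symm (isSyntomic_of_isRelGCI A n n F hrel)

end Groth.Agent.Helper2.Synt
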