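import Mathlib
import Groth.Agent.Lib.Helper2.Synt.CIOverFT
import Groth.Agent.Lib.Helper8.AdicFS17
import Groth.Prelude.Def_RegImm

/-!
# Smooth algebras over a field are local complete intersections
-/

set_option autoImplicit false
universe u

namespace Groth.Agent.Helper2.Synt

open IsLocalRing

/-- a regular local ring essentially of finite type over `k` is a complete intersection over `k` -/
theorem isCIOver_of_isRegularLocalRing (k R : Type u) [Field k] [CommRing R] [Algebra k R]
    [IsRegularLocalRing R] [Algebra.EssFiniteType k R] : _root_.Synt.IsCIOver k R := by
  unfold _root_.Synt.IsCIOver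
  refine ⟨R, inferInstance, inferInstance, inferInstance, inferInstance, [], by simp, ?_, ⟨?_⟩⟩
  · refine ⟨RingTheory.Sequence.IsWeaklyRegular.nil R R, ?_⟩
    simp
  · have h : Ideal.ofList ([] : List R) = ⊥ := by simp [Ideal.ofList]
    exact ((Ideal.quotientEquivAlgOfEq k h).trans (AlgEquiv.quotientBot k R)).symm

/-- a finite type algebra over a field which is a regular ring is a local complete intersection -/
theorem isLCIOver_of_isRegularRing (k : Type u) [Field k] (S : Type u) [CommRing S] [Algebra k S]
    [Algebra.FiniteType k S] [IsRegularRing S] : _root_.Synt.IsLCIOver k S := by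
  refine ⟨inferInstance, fun p => ?_⟩
  have := p.isPrime
  rw [← isCIOver_atPrime_iff_exists_away_of_finiteType]
  exact isCIOver_of_isRegularLocalRing k _

/-- a smooth algebra over a field is a local complete intersection -/
theorem isLCIOver_of_smooth (k : Type u) [Field k] (S : Type u) [CommRing S] [Algebra k S]
    [Algebra.Smooth k S] : _root_.Synt.IsLCIOver k S := by
  have : Algebra.FiniteType k S := inferInstance
  have : IsNoetherianRing S := Algebra.FiniteType.isNoetherianRing k S
  have : IsRegularRing S := Groth.Agent.Helper8.AdicFS.isRegularRing_of_formallySmooth_field k S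
  exact isLCIOver_of_isRegularRing k S

end Groth.Agent.Helper2.Synt
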