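import Mathlib
import Groth.Agent.Lib.Helper2.Synt.SyntFinite
import Groth.Agent.Lib.Helper2.Synt.BridgeMp
import Groth.Agent.Lib.Helper2.Synt.RelGCISynt
import Groth.Agent.Lib.Lead.LciComp1
import Groth.Agent.Lib.Lead.SyntSm1

/-!
# Splitting a monic polynomial over a syntomic finite free faithfully flat algebra (helper2)
-/

set_option autoImplicit false
set_option linter.style.haveILetI false
set_option linter.unusedSectionVars false
universe u

namespace Groth.Agent.Helper2.Synt

open TensorProduct Polynomial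

/-- composition of syntomic ring maps -/
theorem isSyntomic_comp (A B C : Type u) [CommRing A] [CommRing B] [CommRing C] [Algebra A B]
    [Algebra B C] [Algebra A C] [IsScalarTower A B C] (h1 : _root_.Synt.IsSyntomic A B)
    (h2 : _root_.Synt.IsSyntomic B C) : _root_.Synt.IsSyntomic A C := by
  rw [isSyntomic_iff_flat_and_isLCI] at h1 h2 ⊢
  haveI := h1.1
  haveI := h2.1
  exact ⟨Module.Flat.trans A B C, Groth.Agent.Lead.LciComp.isLCI_comp A B C h1.2 h2.2⟩

/-- the identity is syntomic -/
theorem isSyntomic_self (A : Type u) [CommRing A] : _root_.Synt.IsSyntomic A A := by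
  haveI : Algebra.Smooth A A := ⟨inferInstance, inferInstance⟩
  exact Groth.Agent.Lead.SyntSm.isSyntomic_of_smooth A A

/-- a finite presentation with one variable and one relation is a relative global complete
intersection -/
theorem isRelGCI_one_of_finite (A : Type u) [CommRing A] (F : Fin 1 → MvPolynomial (Fin 1) A)
    [Module.Finite A (_root_.Synt.RelGCIRing A 1 1 F)] : _root_.Synt.IsRelGCI A 1 1 F := by
  intro p hnt
  haveI := p.isPrime
  refine ⟨le_refl _, le_antisymm ?_ ?_⟩
  · exact ringKrullDim_le_zero_of_finite p.asIdeal.ResidueField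
      (p.asIdeal.Fiber (_root_.Synt.RelGCIRing A 1 1 F))
  · exact ringKrullDim_nonneg_of_nontrivial

/-- adjoining a root of a monic polynomial is syntomic -/
theorem isSyntomic_adjoinRoot (A : Type u) [CommRing A] (P : A[X]) (hP : P.Monic) :
    _root_.Synt.IsSyntomic A (AdjoinRoot P) := by
  obtain ⟨e, -⟩ : ∃ e : MvPolynomial (Fin 1) A ≃ₐ[A] A[X], True :=
    ⟨MvPolynomial.uniqueAlgEquiv A (Fin 1), trivial⟩
  obtain ⟨F, hF⟩ : ∃ F : Fin 1 → MvPolynomial (Fin 1) A, F = fun _ => e.symm P := ⟨_, rfl⟩
  have hmap : Ideal.span {P} = (Ideal.span (Set.range F)).map (e : MvPolynomial (Fin 1) A →+* A[X]) := by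
    rw [Ideal.map_span, hF, Set.range_const, Set.image_singleton]
    congr 2
    exact (e.apply_symm_apply P).symm
  have e' : _root_.Synt.RelGCIRing A 1 1 F ≃ₐ[A] AdjoinRoot P :=
    Ideal.quotientEquivAlg _ _ e hmap
  haveI : Module.Finite A (AdjoinRoot P) := hP.finite_adjoinRoot
  haveI : Module.Finite A (_root_.Synt.RelGCIRing A 1 1 F) :=
    Module.Finite.equiv e'.symm.toLinearEquiv
  exact isSyntomic_of_algEquiv e' (isSyntomic_of_isRelGCI A 1 1 F (isRelGCI_one_of_finite A F))

/-- adjoining a root of a monic polynomial of positive degree is faithfully flat -/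
theorem faithfullyFlat_adjoinRoot (A : Type u) [CommRing A] (P : A[X]) (hP : P.Monic)
    (hd : 0 < P.natDegree) : Module.FaithfullyFlat A (AdjoinRoot P) := by
  haveI : Nonempty (Fin (AdjoinRoot.powerBasis' hP).dim) := by
    rw [AdjoinRoot.powerBasis'_dim]
    exact Fin.pos_iff_nonempty.mp hd
  exact Module.FaithfullyFlat.of_linearEquiv _ _ (AdjoinRoot.powerBasis' hP).basis.repr

/-- **S9149** -/
theorem S9149_aux (d : ℕ) : ∀ (A : Type u) [CommRing A] (P : A[X]), P.Monic → P.natDegree = d →
    ∃ (A' : Type u) (_ : CommRing A') (_ : Algebra A A'),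
      _root_.Synt.IsSyntomic A A' ∧ Module.Finite A A' ∧ Module.Free A A' ∧
        Module.FaithfullyFlat A A' ∧
        ∃ s : Multiset A', P.map (algebraMap A A') = (s.map fun b => X - C b).prod := by
  induction d with
  | zero =>
    intro A _ P hP hd
    have h1 : P = 1 := eq_one_of_monic_natDegree_zero hP hd
    refine ⟨A, inferInstance, inferInstance, isSyntomic_self A, inferInstance, inferInstance,
      inferInstance, 0, ?_⟩
    rw [h1]
    simp
  | succ d ih =>
    intro A _ P hP hd
    by_cases hA : Nontrivial A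
    swap
    · rw [not_nontrivial_iff_subsingleton] at hA
      refine ⟨A, inferInstance, inferInstance, isSyntomic_self A, inferInstance, inferInstance,
        inferInstance, 0, ?_⟩
      exact Subsingleton.elim _ _
    haveI hBnt : Nontrivial (AdjoinRoot P) := by
      haveI : Nonempty (Fin (AdjoinRoot.powerBasis' hP).dim) := by
        rw [AdjoinRoot.powerBasis'_dim, hd]
        exact ⟨0⟩
      exact (AdjoinRoot.powerBasis' hP).basis.repr.toEquiv.nontrivial
    obtain ⟨r, hr⟩ : ∃ r : AdjoinRoot P, r = AdjoinRoot.root P := ⟨_, rfl⟩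
    obtain ⟨P', hP'⟩ : ∃ P' : (AdjoinRoot P)[X], P' = P.map (algebraMap A (AdjoinRoot P)) :=
      ⟨_, rfl⟩
    have hP'monic : P'.Monic := hP' ▸ hP.map _
    have hP'deg : P'.natDegree = d + 1 := by
      rw [hP', hP.natDegree_map, hd]
    have hroot : P'.IsRoot r := by
      rw [hP', hr]
      exact AdjoinRoot.isRoot_root P
    obtain ⟨Q, hQ⟩ : ∃ Q : (AdjoinRoot P)[X], Q = P' /ₘ (X - C r) := ⟨_, rfl⟩
    have hfac : (X - C r) * Q = P' := by
      rw [hQ]
      exact mul_divByMonic_eq_iff_isRoot.mpr hroot
    have hQmonic : Q.Monic := by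
      rw [hQ, Monic, leadingCoeff_divByMonic_of_monic (monic_X_sub_C r)]
      · exact hP'monic
      · rw [degree_X_sub_C, degree_eq_natDegree hP'monic.ne_zero, hP'deg]
        exact_mod_cast Nat.succ_le_succ (Nat.zero_le d)
    have hQdeg : Q.natDegree = d := by
      rw [hQ, natDegree_divByMonic _ (monic_X_sub_C r), natDegree_X_sub_C, hP'deg]
      rfl
    obtain ⟨B', _, _, hsynt, hfin, hfree, hff, s, hs⟩ := ih (AdjoinRoot P) Q hQmonic hQdeg
    letI : Algebra A B' := ((algebraMap (AdjoinRoot P) B').comp (algebraMap A (AdjoinRoot P))).toAlgebra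
    haveI : IsScalarTower A (AdjoinRoot P) B' := IsScalarTower.of_algebraMap_eq (fun _ => rfl)
    haveI : Module.Finite A (AdjoinRoot P) := hP.finite_adjoinRoot
    haveI : Module.Free A (AdjoinRoot P) := hP.free_adjoinRoot
    haveI : Module.FaithfullyFlat A (AdjoinRoot P) :=
      faithfullyFlat_adjoinRoot A P hP (by omega)
    refine ⟨B', inferInstance, inferInstance,
      isSyntomic_comp A (AdjoinRoot P) B' (isSyntomic_adjoinRoot A P hP) hsynt,
      Module.Finite.trans (AdjoinRoot P) B', Module.Free.trans (S := AdjoinRoot P),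
      Module.FaithfullyFlat.trans A (AdjoinRoot P) B',
      algebraMap (AdjoinRoot P) B' r ::ₘ s, ?_⟩
    have h1 : P.map (algebraMap A B') = P'.map (algebraMap (AdjoinRoot P) B') := by
      rw [hP', Polynomial.map_map]
      rfl
    rw [h1, ← hfac, Polynomial.map_mul, hs, Multiset.map_cons, Multiset.prod_cons,
      Polynomial.map_sub, Polynomial.map_X, Polynomial.map_C]

end Groth.Agent.Helper2.Synt
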