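import Mathlib
import Groth.Agent.Lib.Helper2.Synt.FieldSynt
import Groth.Agent.Lib.Helper2.Synt.StdSynt1
import Groth.Agent.Lib.Helper2.Synt.LciSrcSch
import Groth.Agent.Lib.Helper2.Synt.CIOver

/-!
# Schemes locally of finite type over a field: syntomic, local complete intersection (helper2)
-/

set_option autoImplicit false
set_option linter.style.haveILetI false
set_option linter.unusedSectionVars false
set_option backward.isDefEq.respectTransparency.types false
universe u

namespace Groth.Agent.Helper2.Synt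

open CategoryTheory CategoryTheory.Limits AlgebraicGeometry
open Groth.Agent.Lead.LciLocal Groth.Agent.Lead.SyntLci

variable (k : Type u) [Field k] {X : Scheme.{u}} (p : X ⟶ Spec (CommRingCat.of k))

/-- the structure map of the sections over an open of a scheme over a field -/
noncomputable def strHom (U : X.Opens) : k →+* Γ(X, U) :=
  ((Scheme.ΓSpecIso (CommRingCat.of k)).inv ≫ p.appLE ⊤ U le_top).hom

theorem syntQ_strHom_iff (U : X.Opens) :
    SyntQ (strHom k p U) ↔ SyntQ (p.appLE ⊤ U le_top).hom :=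
  (HasRingHomProperty.isLocal_ringHomProperty @SyntMor).respectsIso.cancel_left_isIso
    (Scheme.ΓSpecIso (CommRingCat.of k)).inv (p.appLE ⊤ U le_top)

theorem isSyntomic_strHom_iff (U : X.Opens) :
    @_root_.Synt.IsSyntomic k _ Γ(X, U) _ (strHom k p U).toAlgebra ↔
      @_root_.Synt.IsSyntomic Γ(Spec (CommRingCat.of k), ⊤) _ Γ(X, U) _
        (p.appLE ⊤ U le_top).hom.toAlgebra := by
  rw [← syntQ_toAlgebra_iff, ← syntQ_toAlgebra_iff, syntQ_strHom_iff]

theorem strHom_basicOpen {U : X.Opens} (g : Γ(X, U)) :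
    strHom k p (X.basicOpen g) =
      (X.presheaf.map (homOfLE (X.basicOpen_le g)).op).hom.comp (strHom k p U) := by
  unfold strHom
  rw [← Scheme.Hom.appLE_map p le_top (homOfLE (X.basicOpen_le g)).op]
  rfl

/-- sections over a basic open are the localization, over the base field -/
theorem nonempty_away_algEquiv_basicOpen {U : X.Opens} (hU : IsAffineOpen U) (g : Γ(X, U)) :
    letI := (strHom k p U).toAlgebra
    letI := (strHom k p (X.basicOpen g)).toAlgebra
    Nonempty (Localization.Away g ≃ₐ[k] Γ(X, X.basicOpen g)) := by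
  letI alg₁ := (strHom k p U).toAlgebra
  letI alg₂ := (strHom k p (X.basicOpen g)).toAlgebra
  haveI : IsScalarTower k Γ(X, U) Γ(X, X.basicOpen g) :=
    IsScalarTower.of_algebraMap_eq' (strHom_basicOpen k p g)
  haveI := hU.isLocalization_basicOpen g
  exact ⟨(Localization.algEquiv (Submonoid.powers g) Γ(X, X.basicOpen g)).restrictScalars k⟩

/-- the structure map of the stalk -/
noncomputable def strHomStalk (x : X) : k →+* X.presheaf.stalk x :=
  ((Scheme.ΓSpecIso (CommRingCat.of k)).inv ≫ p.appLE ⊤ ⊤ le_top ≫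
    X.presheaf.germ ⊤ x trivial).hom

theorem strHomStalk_eq {U : X.Opens} (x : X) (hx : x ∈ U) :
    strHomStalk k p x = (X.presheaf.germ U x hx).hom.comp (strHom k p U) := by
  unfold strHomStalk strHom
  have h1 : p.appLE ⊤ ⊤ le_top ≫ X.presheaf.germ ⊤ x trivial =
      p.appLE ⊤ U le_top ≫ X.presheaf.germ U x hx := by
    rw [← Scheme.Hom.appLE_map p le_top (homOfLE (le_top : U ≤ ⊤)).op, Category.assoc,
      X.presheaf.germ_res]
  rw [h1]
  rfl

/-- the stalk is the localization at the prime of the point, over the base field -/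
theorem nonempty_atPrime_algEquiv_stalk {U : X.Opens} (hU : IsAffineOpen U) (x : X) (hx : x ∈ U) :
    letI := (strHom k p U).toAlgebra
    letI := (strHomStalk k p x).toAlgebra
    Nonempty (Localization.AtPrime (hU.primeIdealOf ⟨x, hx⟩).asIdeal ≃ₐ[k] X.presheaf.stalk x) := by
  letI alg₁ := (strHom k p U).toAlgebra
  letI alg₂ := (strHomStalk k p x).toAlgebra
  letI alg₃ := TopCat.Presheaf.algebra_section_stalk X.presheaf (⟨x, hx⟩ : U)
  have hloc := hU.isLocalization_stalk ⟨x, hx⟩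
  haveI : IsScalarTower k Γ(X, U) (X.presheaf.stalk x) :=
    IsScalarTower.of_algebraMap_eq' (strHomStalk_eq k p x hx)
  exact ⟨(IsLocalization.algEquiv (hU.primeIdealOf ⟨x, hx⟩).asIdeal.primeCompl
    (Localization.AtPrime (hU.primeIdealOf ⟨x, hx⟩).asIdeal) (X.presheaf.stalk x)).restrictScalars k⟩

theorem mem_basicOpen_of_notMem_primeIdealOf {U : X.Opens} (hU : IsAffineOpen U) (x : X)
    (hx : x ∈ U) (g : Γ(X, U)) (hg : g ∉ (hU.primeIdealOf ⟨x, hx⟩).asIdeal) :
    x ∈ X.basicOpen g := by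
  have h1 : hU.primeIdealOf ⟨x, hx⟩ ∈ hU.fromSpec ⁻¹ᵁ X.basicOpen g := by
    rw [hU.fromSpec_preimage_basicOpen]
    exact hg
  have h2 := hU.fromSpec_primeIdealOf ⟨x, hx⟩
  have h3 : hU.fromSpec (hU.primeIdealOf ⟨x, hx⟩) ∈ X.basicOpen g := h1
  rw [h2] at h3
  exact h3

theorem finiteType_strHom [LocallyOfFiniteType p] {U : X.Opens} (hU : IsAffineOpen U) :
    (strHom k p U).FiniteType := by
  have h1 : (p.appLE ⊤ U le_top).hom.FiniteType :=
    (HasRingHomProperty.iff_appLE (P := @LocallyOfFiniteType)).1 inferInstance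
      ⟨⊤, isAffineOpen_top _⟩ ⟨U, hU⟩ le_top
  exact (RingHom.finiteType_respectsIso.cancel_left_isIso
    (Scheme.ΓSpecIso (CommRingCat.of k)).inv (p.appLE ⊤ U le_top)).mpr h1

/-- **S9368** -/
theorem S9368_main [LocallyOfFiniteType p] :
    [_root_.Synt.IsSyntomicMor p,
      ∀ x : ↑X, ∃ U : X.affineOpens, x ∈ U.1 ∧
        letI := ((Scheme.ΓSpecIso (CommRingCat.of k)).inv ≫ p.appLE ⊤ U.1 le_top).hom.toAlgebra
        _root_.Synt.IsGlobalCI k Γ(X, U.1),
      ∀ x : ↑X,
        letI := ((Scheme.ΓSpecIso (CommRingCat.of k)).inv ≫ p.appLE ⊤ ⊤ le_top ≫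
          X.presheaf.germ ⊤ x trivial).hom.toAlgebra
        _root_.Synt.IsCIOver k (X.presheaf.stalk x)].TFAE := by
  tfae_have 1 → 2 := by
    intro hf x
    obtain ⟨U, hU, hxU, -⟩ := TopologicalSpace.Opens.isBasis_iff_nbhd.mp X.isBasis_affineOpens
      (show x ∈ (⊤ : X.Opens) from trivial)
    have h1 := (S9363_main bridge p).1 hf ⟨U, hU⟩ ⟨⊤, isAffineOpen_top _⟩ le_top
    have h2 := (isSyntomic_strHom_iff k p U).mpr h1
    letI alg₁ := (strHom k p U).toAlgebra
    have h3 := isLCIOver_of_isSyntomic_field k Γ(X, U) h2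
    obtain ⟨g, hg, hci⟩ := h3.2 (hU.primeIdealOf ⟨x, hxU⟩)
    refine ⟨⟨X.basicOpen g, hU.basicOpen g⟩,
      mem_basicOpen_of_notMem_primeIdealOf hU x hxU g hg, ?_⟩
    letI alg₂ := (strHom k p (X.basicOpen g)).toAlgebra
    obtain ⟨e⟩ := nonempty_away_algEquiv_basicOpen k p hU g
    exact isGlobalCI_of_algEquiv e hci
  tfae_have 2 → 3 := by
    intro h x
    obtain ⟨U, hxU, hci⟩ := h x
    letI alg₁ := (strHom k p U.1).toAlgebra
    letI alg₂ := (strHomStalk k p x).toAlgebra
    have hci' : _root_.Synt.IsGlobalCI k Γ(X, U.1) := hci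
    haveI : Algebra.FiniteType k Γ(X, U.1) := finiteType_strHom k p U.2
    haveI := (U.2.primeIdealOf ⟨x, hxU⟩).isPrime
    obtain ⟨e⟩ := nonempty_atPrime_algEquiv_stalk k p U.2 x hxU
    have h1 : _root_.Synt.IsCIOver k
        (Localization.AtPrime (U.2.primeIdealOf ⟨x, hxU⟩).asIdeal) := by
      apply (isCIOver_atPrime_iff_exists_away_of_finiteType k Γ(X, U.1) _).mpr
      exact ⟨1, fun h1 => (U.2.primeIdealOf ⟨x, hxU⟩).isPrime.ne_top
        ((Ideal.eq_top_iff_one _).mpr h1), isGlobalCI_away k _ 1 hci'⟩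
    exact isCIOver_of_algEquiv e h1
  tfae_have 3 → 1 := by
    intro h x
    obtain ⟨U, hU, hxU, -⟩ := TopologicalSpace.Opens.isBasis_iff_nbhd.mp X.isBasis_affineOpens
      (show x ∈ (⊤ : X.Opens) from trivial)
    letI alg₁ := (strHom k p U).toAlgebra
    letI alg₂ := (strHomStalk k p x).toAlgebra
    haveI : Algebra.FiniteType k Γ(X, U) := finiteType_strHom k p hU
    haveI := (hU.primeIdealOf ⟨x, hxU⟩).isPrime
    obtain ⟨e⟩ := nonempty_atPrime_algEquiv_stalk k p hU x hxU
    have hx : _root_.Synt.IsCIOver k (X.presheaf.stalk x) := h x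
    have h1 : _root_.Synt.IsCIOver k
        (Localization.AtPrime (hU.primeIdealOf ⟨x, hxU⟩).asIdeal) :=
      isCIOver_of_algEquiv e.symm hx
    obtain ⟨g, hg, hci⟩ := (isCIOver_atPrime_iff_exists_away_of_finiteType k Γ(X, U) _).mp h1
    letI alg₃ := (strHom k p (X.basicOpen g)).toAlgebra
    obtain ⟨e'⟩ := nonempty_away_algEquiv_basicOpen k p hU g
    have hci' : _root_.Synt.IsGlobalCI k Γ(X, X.basicOpen g) := isGlobalCI_of_algEquiv e' hci
    have hsyn := isSyntomic_of_isGlobalCI k _ hci'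
    refine ⟨⟨X.basicOpen g, hU.basicOpen g⟩, ⟨⊤, isAffineOpen_top _⟩, le_top,
      mem_basicOpen_of_notMem_primeIdealOf hU x hxU g hg, ?_⟩
    exact (isSyntomic_strHom_iff k p (X.basicOpen g)).mp hsyn
  tfae_finish

end Groth.Agent.Helper2.Synt
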