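import Mathlib
import Groth.Agent.Lib.Helper2.Synt.CIFieldExt3
import Groth.Agent.Lib.Helper2.Synt.FieldSyntSch

/-!
# Complete intersection points of schemes over fields and extension of the base field (helper2)
-/

set_option autoImplicit false
set_option linter.style.haveILetI false
set_option linter.unusedSectionVars false
set_option backward.isDefEq.respectTransparency.types false
universe u

namespace Groth.Agent.Helper2.Synt

open CategoryTheory CategoryTheory.Limits AlgebraicGeometry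

/-- the local ring at `x` is a complete intersection over the base field -/
def CIAt (k : Type u) [Field k] {X : Scheme.{u}} (p : X ⟶ Spec (CommRingCat.of k)) (x : X) : Prop :=
  letI := ((Scheme.ΓSpecIso (CommRingCat.of k)).inv ≫ p.appLE ⊤ ⊤ le_top ≫
    X.presheaf.germ ⊤ x trivial).hom.toAlgebra
  _root_.Synt.IsCIOver k (X.presheaf.stalk x)

/-- the section rings of a base change to a field extension form a pushout -/
theorem isPushout_sections (k₁ k₂ : Type u) [Field k₁] [Field k₂]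
    (φ : CommRingCat.of k₁ ⟶ CommRingCat.of k₂) {Y Y' : Scheme.{u}}
    (p : Y ⟶ Spec (CommRingCat.of k₁)) (p' : Y' ⟶ Spec (CommRingCat.of k₂)) (m : Y' ⟶ Y)
    (H : IsPullback m p' p (Spec.map φ)) {U : Y.Opens} (hU : IsAffineOpen U) :
    IsPushout φ (CommRingCat.ofHom (strHom k₁ p U))
      (CommRingCat.ofHom (strHom k₂ p' (m ⁻¹ᵁ U))) (m.appLE U (m ⁻¹ᵁ U) le_rfl) := by
  have hUY : m ⁻¹ᵁ U = m ⁻¹ᵁ U ⊓ p' ⁻¹ᵁ ⊤ := by
    ext x
    simp
  have hpo := (isIso_pushoutSection_iff H (US := ⊤) (UT := ⊤) (UX := U) le_top le_top hUY).mp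
    (isIso_pushoutSection_of_isAffineOpen H le_top le_top hUY (isAffineOpen_top _)
      (isAffineOpen_top _) hU)
  have h1 : (Spec.map φ).appLE ⊤ ⊤ le_top ≫ (Scheme.ΓSpecIso (CommRingCat.of k₂)).hom =
      (Scheme.ΓSpecIso (CommRingCat.of k₁)).hom ≫ φ := by
    rw [← Scheme.ΓSpecIso_naturality φ]
    congr 1
  have h2 : p.appLE ⊤ U le_top ≫ (Iso.refl Γ(Y, U)).hom =
      (Scheme.ΓSpecIso (CommRingCat.of k₁)).hom ≫ CommRingCat.ofHom (strHom k₁ p U) := by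
    simp [strHom]
  have h3 : p'.appLE ⊤ (m ⁻¹ᵁ U) le_top ≫ (Iso.refl Γ(Y', m ⁻¹ᵁ U)).hom =
      (Scheme.ΓSpecIso (CommRingCat.of k₂)).hom ≫ CommRingCat.ofHom (strHom k₂ p' (m ⁻¹ᵁ U)) := by
    simp [strHom]
  have h4 : m.appLE U (m ⁻¹ᵁ U) le_rfl ≫ (Iso.refl Γ(Y', m ⁻¹ᵁ U)).hom =
      (Iso.refl Γ(Y, U)).hom ≫ m.appLE U (m ⁻¹ᵁ U) le_rfl := by
    simp
  exact hpo.flip.of_iso (Scheme.ΓSpecIso (CommRingCat.of k₁)) (Scheme.ΓSpecIso (CommRingCat.of k₂))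
    (Iso.refl _) (Iso.refl _) h1 h2 h3 h4

/-- **Complete intersection points and base field extension, for schemes.** -/
theorem ciAt_iff_of_isPullback (k₁ k₂ : Type u) [Field k₁] [Field k₂]
    (φ : CommRingCat.of k₁ ⟶ CommRingCat.of k₂) {Y Y' : Scheme.{u}}
    (p : Y ⟶ Spec (CommRingCat.of k₁)) [LocallyOfFiniteType p]
    (p' : Y' ⟶ Spec (CommRingCat.of k₂)) (m : Y' ⟶ Y) (H : IsPullback m p' p (Spec.map φ))
    (y' : Y') : CIAt k₂ p' y' ↔ CIAt k₁ p (m y') := by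
  obtain ⟨U, hU, hyU, -⟩ := TopologicalSpace.Opens.isBasis_iff_nbhd.mp Y.isBasis_affineOpens
    (show m y' ∈ (⊤ : Y.Opens) from trivial)
  haveI : IsAffineHom m := MorphismProperty.of_isPullback H.flip inferInstance
  have hU' : IsAffineOpen (m ⁻¹ᵁ U) := hU.preimage m
  have hy'U : y' ∈ m ⁻¹ᵁ U := hyU
  have hpo := isPushout_sections k₁ k₂ φ p p' m H hU
  letI alg₁ : Algebra k₁ Γ(Y, U) := (strHom k₁ p U).toAlgebra
  letI alg₂ : Algebra k₂ Γ(Y', m ⁻¹ᵁ U) := (strHom k₂ p' (m ⁻¹ᵁ U)).toAlgebra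
  letI alg₃ : Algebra k₁ k₂ := φ.hom.toAlgebra
  letI alg₄ : Algebra Γ(Y, U) Γ(Y', m ⁻¹ᵁ U) := (m.appLE U (m ⁻¹ᵁ U) le_rfl).hom.toAlgebra
  letI alg₅ : Algebra k₁ Γ(Y', m ⁻¹ᵁ U) := ((strHom k₂ p' (m ⁻¹ᵁ U)).comp φ.hom).toAlgebra
  haveI : IsScalarTower k₁ k₂ Γ(Y', m ⁻¹ᵁ U) := IsScalarTower.of_algebraMap_eq' rfl
  haveI : IsScalarTower k₁ Γ(Y, U) Γ(Y', m ⁻¹ᵁ U) := by
    refine IsScalarTower.of_algebraMap_eq' ?_
    have := congrArg CommRingCat.Hom.hom hpo.w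
    exact this
  haveI : Algebra.IsPushout k₁ k₂ Γ(Y, U) Γ(Y', m ⁻¹ᵁ U) :=
    (CommRingCat.isPushout_iff_isPushout (R := k₁) (R' := k₂) (S := Γ(Y, U))
      (S' := Γ(Y', m ⁻¹ᵁ U))).mp hpo
  haveI : Algebra.FiniteType k₁ Γ(Y, U) := finiteType_strHom k₁ p hU
  haveI := (hU.primeIdealOf ⟨m y', hyU⟩).isPrime
  haveI := (hU'.primeIdealOf ⟨y', hy'U⟩).isPrime
  have hq : (hU.primeIdealOf ⟨m y', hyU⟩).asIdeal =
      (hU'.primeIdealOf ⟨y', hy'U⟩).asIdeal.comap (algebraMap Γ(Y, U) Γ(Y', m ⁻¹ᵁ U)) := by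
    have := IsAffineOpen.comap_primeIdealOf_appLE (f := m) (x := y') U hU (m ⁻¹ᵁ U) hU' le_rfl hy'U
    exact (congrArg PrimeSpectrum.asIdeal this).symm
  have hFE := isCIOver_atPrime_iff_of_isPushout k₁ k₂ Γ(Y, U) Γ(Y', m ⁻¹ᵁ U)
    (hU'.primeIdealOf ⟨y', hy'U⟩).asIdeal (hU.primeIdealOf ⟨m y', hyU⟩).asIdeal hq
  letI alg₆ := (strHomStalk k₁ p (m y')).toAlgebra
  letI alg₇ := (strHomStalk k₂ p' y').toAlgebra
  obtain ⟨e⟩ := nonempty_atPrime_algEquiv_stalk k₁ p hU (m y') hyU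
  obtain ⟨e'⟩ := nonempty_atPrime_algEquiv_stalk k₂ p' hU' y' hy'U
  constructor
  · intro h
    have h1 : _root_.Synt.IsCIOver k₂ (Y'.presheaf.stalk y') := h
    exact isCIOver_of_algEquiv e (hFE.mp (isCIOver_of_algEquiv e'.symm h1))
  · intro h
    have h1 : _root_.Synt.IsCIOver k₁ (Y.presheaf.stalk (m y')) := h
    exact isCIOver_of_algEquiv e' (hFE.mpr (isCIOver_of_algEquiv e.symm h1))

end Groth.Agent.Helper2.Synt
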