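import Mathlib
import Groth.Agent.Lib.Helper2.Synt.CIFieldExtSch

/-!
# The complete intersection locus of the fibres is compatible with base change (helper2)
-/

set_option autoImplicit false
set_option linter.style.haveILetI false
set_option linter.unusedSectionVars false
set_option backward.isDefEq.respectTransparency.types false
universe u

namespace Groth.Agent.Helper2.Synt

open CategoryTheory CategoryTheory.Limits AlgebraicGeometry

/-- the local ring of the fibre over `s` at `y` is a complete intersection over `κ(s)` -/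
def FibCI {X S : Scheme.{u}} (f : X ⟶ S) (s : S) (y : f.fiber s) : Prop :=
  CIAt (S.residueField s) (f.fiberToSpecResidueField s) y

theorem fibCI_congr {X S : Scheme.{u}} (f : X ⟶ S) (s₁ s₂ : S) (h : s₁ = s₂) (y₁ : f.fiber s₁)
    (y₂ : f.fiber s₂) (hy : f.fiberι s₁ y₁ = f.fiberι s₂ y₂) : FibCI f s₁ y₁ ↔ FibCI f s₂ y₂ := by
  subst h
  have : y₁ = y₂ := (f.fiberι s₁).isEmbedding.injective hy
  subst this
  exact Iff.rfl

instance {X S : Scheme.{u}} (f : X ⟶ S) [LocallyOfFiniteType f] (s : S) :
    LocallyOfFiniteType (f.fiberToSpecResidueField s) :=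
  MorphismProperty.pullback_snd _ _ inferInstance

/-- **S9379** -/
theorem S9379_main {X S X' S' : Scheme.{u}} (f : X ⟶ S) [LocallyOfFiniteType f] (g : S' ⟶ S)
    (g' : X' ⟶ X) (f' : X' ⟶ S') (hsq : IsPullback g' f' f g) (x' : X') :
    FibCI f' (f' x') (f'.asFiber x') ↔ FibCI f (f (g' x')) (f.asFiber (g' x')) := by
  have hpb := isPullback_fiberToSpecResidueField_of_isPullback hsq (f' x')
  obtain ⟨M, hM⟩ : ∃ M : f'.fiber (f' x') ⟶ f.fiber (g (f' x')),
      M = pullback.map _ _ _ _ g' (Spec.map (g.residueFieldMap (f' x'))) g hsq.w.symm (by simp) :=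
    ⟨_, rfl⟩
  rw [← hM] at hpb
  have h1 : FibCI f' (f' x') (f'.asFiber x') ↔ FibCI f (g (f' x')) (M (f'.asFiber x')) :=
    ciAt_iff_of_isPullback (S.residueField (g (f' x'))) (S'.residueField (f' x'))
      (g.residueFieldMap (f' x')) (f.fiberToSpecResidueField (g (f' x')))
      (f'.fiberToSpecResidueField (f' x')) M hpb (f'.asFiber x')
  rw [h1]
  have hs : g (f' x') = f (g' x') := by
    rw [← Scheme.Hom.comp_apply, ← Scheme.Hom.comp_apply, hsq.w]
  refine fibCI_congr f _ _ hs _ _ ?_
  rw [Scheme.Hom.fiberι_asFiber]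
  have hfst : M ≫ f.fiberι (g (f' x')) = f'.fiberι (f' x') ≫ g' := by
    rw [hM]
    exact pullback.lift_fst _ _ _
  rw [← Scheme.Hom.comp_apply, hfst, Scheme.Hom.comp_apply, Scheme.Hom.fiberι_asFiber]

end Groth.Agent.Helper2.Synt
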