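import Mathlib
import Groth.Agent.Lib.Helper2.Synt.CIOverFT

/-!
# Local algebras essentially of finite type over a field: regular presentations and
localizations of finite type algebras
-/

set_option autoImplicit false
universe u v

namespace Groth.Agent.Helper2.Synt

open RingTheory.Sequence LocCoh IsLocalRing MvPolynomial

section

variable (k S : Type u) [Field k] [CommRing S] [IsLocalRing S] [Algebra k S]
  [Algebra.EssFiniteType k S]

/-- (E) a local `k`-algebra essentially of finite type is a quotient of a regular local
`k`-algebra essentially of finite type -/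
theorem exists_regular_presentation :
    ∃ (R : Type u) (_ : CommRing R) (_ : IsRegularLocalRing R) (_ : Algebra k R)
      (_ : Algebra.EssFiniteType k R) (π : R →ₐ[k] S), Function.Surjective π := by
  classical
  obtain ⟨σ, hσ⟩ := (Algebra.essFiniteType_iff k S).mp inferInstance
  let v : σ → S := fun a => (a : S)
  let 𝔭 : Ideal (MvPolynomial σ k) :=
    (maximalIdeal S).comap (aeval v : MvPolynomial σ k →ₐ[k] S)
  haveI : 𝔭.IsPrime := Ideal.comap_isPrime _ _
  have h𝔭 : ∀ x, x ∈ 𝔭 ↔ aeval v x ∈ maximalIdeal S := fun x => Iff.rfl
  let π : Localization.AtPrime 𝔭 →ₐ[k] S :=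
    { locLift v 𝔭 h𝔭 with
      commutes' := fun c => by
        change locLift v 𝔭 h𝔭 (algebraMap k (Localization.AtPrime 𝔭) c) = algebraMap k S c
        rw [IsScalarTower.algebraMap_apply k (MvPolynomial σ k) (Localization.AtPrime 𝔭),
          locLift_algebraMap, MvPolynomial.algebraMap_eq, aeval_C] }
  refine ⟨Localization.AtPrime 𝔭, inferInstance, inferInstance, inferInstance, inferInstance,
    π, ?_⟩
  apply locLift_surjective v 𝔭 h𝔭 σ _ hσ
  intro a ha
  exact ⟨⟨a, ha⟩, rfl⟩

/-- (F) a local `k`-algebra essentially of finite type is the local ring of a finite type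
`k`-algebra at a prime -/
theorem exists_finiteType_localization :
    ∃ (B : Type u) (_ : CommRing B) (_ : Algebra k B) (_ : Algebra.FiniteType k B)
      (b : Ideal B) (_ : b.IsPrime), Nonempty (S ≃ₐ[k] Localization.AtPrime b) := by
  let B := Algebra.EssFiniteType.subalgebra k S
  let b : Ideal B := (maximalIdeal S).comap (algebraMap B S)
  haveI : b.IsPrime := Ideal.comap_isPrime _ _
  haveI : IsLocalization.AtPrime S b := by
    apply IsLocalization.of_le (Algebra.EssFiniteType.submonoid k S) b.primeCompl
    · intro x hx
      change x ∉ b
      intro hxb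
      have h1 : algebraMap B S x ∈ maximalIdeal S := hxb
      have h2 : IsUnit (algebraMap B S x) := hx
      exact (mem_maximalIdeal _).mp h1 h2
    · intro r hr
      by_contra hnu
      exact hr ((mem_maximalIdeal _).mpr hnu)
  exact ⟨B, inferInstance, inferInstance, inferInstance, b, inferInstance,
    ⟨((IsLocalization.algEquiv b.primeCompl S (Localization.AtPrime b))).restrictScalars k⟩⟩

end

end Groth.Agent.Helper2.Synt
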