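import Mathlib
import Groth.Agent.Lib.Helper2.Synt.EssFT

/-!
# Characterisations of complete intersections over a field (local algebras essentially of finite
type)
-/

set_option autoImplicit false
universe u v

namespace Groth.Agent.Helper2.Synt

open RingTheory.Sequence LocCoh IsLocalRing Groth.Agent.Helper8.Depth

section

variable (k S : Type u) [Field k] [CommRing S] [IsLocalRing S] [Algebra k S]
  [Algebra.EssFiniteType k S]

theorem isCIOver_iff_forall_presentation :
    _root_.Synt.IsCIOver k S ↔
      ∀ (R : Type u) [CommRing R] [IsRegularLocalRing R] [Algebra k R],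
        Algebra.EssFiniteType k R → ∀ π : R →ₐ[k] S, Function.Surjective π →
          ∃ rs : List R, IsRegular R rs ∧ RingHom.ker π.toRingHom = Ideal.ofList rs := by
  constructor
  · intro h R _ _ _ hess π hπ
    obtain ⟨R₀, hR1, hR2, hR3, hess₀, π₀, hπ₀, hci₀, -⟩ := exists_presentation_of_isCIOver h
    have h1 := isCIIdeal_ker_of_isCIIdeal_ker k R R₀ S π π₀ hπ hπ₀ hci₀
    have hm : RingHom.ker (π : R →+* S) ≤ maximalIdeal R :=
      le_maximalIdeal (RingHom.ker_ne_top _)
    obtain ⟨rs, hreg, hof⟩ := (isCIIdeal_iff_exists_isRegular hm).mp h1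
    exact ⟨rs, hreg, hof.symm⟩
  · intro h
    obtain ⟨R, hR1, hR2, hR3, hess, π, hπ⟩ := exists_regular_presentation k S
    obtain ⟨rs, hreg, hker⟩ := h R hess π hπ
    have hm : RingHom.ker (π : R →+* S) ≤ maximalIdeal R :=
      le_maximalIdeal (RingHom.ker_ne_top _)
    exact isCIOver_of_isCIIdeal_ker π hπ
      ((isCIIdeal_iff_exists_isRegular hm).mpr ⟨rs, hreg, hker.symm⟩)

theorem isCIOver_iff_exists_presentation_dim :
    _root_.Synt.IsCIOver k S ↔
      ∃ (R : Type u) (_ : CommRing R) (_ : IsRegularLocalRing R) (_ : Algebra k R),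
        Algebra.EssFiniteType k R ∧ ∃ π : R →ₐ[k] S, Function.Surjective π ∧
          ∃ rs : List R, RingHom.ker π.toRingHom = Ideal.ofList rs ∧
            ringKrullDim R = ringKrullDim S + (rs.length : WithBot ℕ∞) := by
  constructor
  · intro h
    obtain ⟨R₀, hR1, hR2, hR3, hess₀, π₀, hπ₀, hci₀, rs, hreg, hker⟩ :=
      exists_presentation_of_isCIOver h
    refine ⟨R₀, hR1, hR2, hR3, hess₀, π₀, hπ₀, rs, hker, ?_⟩
    haveI : IsCohenMacaulayLocalRing R₀ :=
      Groth.Agent.Helper8.FlatReg.isCohenMacaulayLocalRing_of_isRegularLocalRing R₀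
    have hM : IsCohenMacaulayModule R₀ R₀ := IsCohenMacaulayLocalRing.supportDim_eq_depth
    have hm : RingHom.ker (π₀ : R₀ →+* S) ≤ maximalIdeal R₀ :=
      le_maximalIdeal (RingHom.ker_ne_top _)
    have hmem : ∀ x ∈ rs, x ∈ maximalIdeal R₀ := fun x hx =>
      hm (hker ▸ Ideal.subset_span hx)
    obtain ⟨hiff, -⟩ := cm_list rs hmem R₀ hM
    have h1 := hiff.mp hreg.toIsWeaklyRegular
    rw [supportDim_quot_smul_top_self, Module.supportDim_self_eq_ringKrullDim] at h1
    have h2 : ringKrullDim (R₀ ⧸ Ideal.ofList rs) = ringKrullDim S := by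
      have hker' : RingHom.ker (π₀ : R₀ →+* S) = Ideal.ofList rs := hker
      rw [← hker']
      exact ringKrullDim_eq_of_ringEquiv
        (RingHom.quotientKerEquivOfSurjective (f := (π₀ : R₀ →+* S)) hπ₀)
    rw [← h1, h2]
  · rintro ⟨R, hR1, hR2, hR3, hess, π, hπ, rs, hker, hdim⟩
    haveI : IsCohenMacaulayLocalRing R :=
      Groth.Agent.Helper8.FlatReg.isCohenMacaulayLocalRing_of_isRegularLocalRing R
    have hker' : RingHom.ker (π : R →+* S) = Ideal.ofList rs := hker
    have hm : RingHom.ker (π : R →+* S) ≤ maximalIdeal R :=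
      le_maximalIdeal (RingHom.ker_ne_top _)
    have hmem : ∀ x ∈ rs, x ∈ maximalIdeal R := fun x hx =>
      hm (hker' ▸ Ideal.subset_span hx)
    have h2 : ringKrullDim (R ⧸ Ideal.ofList rs) = ringKrullDim S := by
      rw [← hker']
      exact ringKrullDim_eq_of_ringEquiv
        (RingHom.quotientKerEquivOfSurjective (f := (π : R →+* S)) hπ)
    have hreg := isRegular_of_dim_add_length R rs hmem (by rw [h2, hdim])
    exact isCIOver_of_isCIIdeal_ker π hπ
      ((isCIIdeal_iff_exists_isRegular hm).mpr ⟨rs, hreg, hker'.symm⟩)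

end

/-- the local ring of a principal open at the extended prime -/
theorem nonempty_atPrime_algEquiv_atPrime_map_away (k B : Type u) [Field k] [CommRing B]
    [Algebra k B] (b : Ideal B) [b.IsPrime] (g : B) (hg : g ∉ b)
    [hp : (b.map (algebraMap B (Localization.Away g))).IsPrime] :
    Nonempty (Localization.AtPrime b ≃ₐ[k]
      Localization.AtPrime (b.map (algebraMap B (Localization.Away g)))) := by
  have hdisj : Disjoint (Submonoid.powers g : Set B) (b : Set B) := by
    rw [Set.disjoint_left]
    rintro _ ⟨m, rfl⟩ hm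
    exact hg (Ideal.IsPrime.mem_of_pow_mem inferInstance m hm)
  have hcomap : (b.map (algebraMap B (Localization.Away g))).comap
      (algebraMap B (Localization.Away g)) = b :=
    IsLocalization.under_map_of_isPrime_disjoint (Submonoid.powers g) _ inferInstance hdisj
  haveI h2 : IsLocalization.AtPrime (Localization.AtPrime
      (b.map (algebraMap B (Localization.Away g))))
      ((b.map (algebraMap B (Localization.Away g))).comap (algebraMap B (Localization.Away g))) :=
    IsLocalization.isLocalization_isLocalization_atPrime_isLocalization (Submonoid.powers g) _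
      (b.map (algebraMap B (Localization.Away g)))
  haveI h3 : IsLocalization.AtPrime (Localization.AtPrime
      (b.map (algebraMap B (Localization.Away g)))) b := by
    have h2' : IsLocalization ((b.map (algebraMap B (Localization.Away g))).comap
        (algebraMap B (Localization.Away g))).primeCompl (Localization.AtPrime
      (b.map (algebraMap B (Localization.Away g)))) := h2
    have e : ((b.map (algebraMap B (Localization.Away g))).comap
        (algebraMap B (Localization.Away g))).primeCompl = b.primeCompl := by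
      ext x
      simp only [Ideal.mem_primeCompl_iff]
      rw [hcomap]
    unfold IsLocalization.AtPrime
    rw [← e]
    exact h2'
  exact ⟨(IsLocalization.algEquiv b.primeCompl (Localization.AtPrime b)
    (Localization.AtPrime (b.map (algebraMap B (Localization.Away g))))).restrictScalars k⟩

section

variable (k S : Type u) [Field k] [CommRing S] [IsLocalRing S] [Algebra k S]
  [Algebra.EssFiniteType k S]

theorem isCIOver_iff_exists_globalCI :
    _root_.Synt.IsCIOver k S ↔
      ∃ (A : Type u) (_ : CommRing A) (_ : Algebra k A) (a : Ideal A) (_ : a.IsPrime),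
        Algebra.FiniteType k A ∧ _root_.Synt.IsGlobalCI k A ∧
          Nonempty (S ≃ₐ[k] Localization.AtPrime a) := by
  constructor
  · intro h
    obtain ⟨B, hB1, hB2, hB3, b, hb, ⟨ι⟩⟩ := exists_finiteType_localization k S
    have h1 : _root_.Synt.IsCIOver k (Localization.AtPrime b) := isCIOver_of_algEquiv ι h
    obtain ⟨g, hg, hci⟩ := (isCIOver_atPrime_iff_exists_away_of_finiteType k B b).mp h1
    have hdisj : Disjoint (Submonoid.powers g : Set B) (b : Set B) := by
      rw [Set.disjoint_left]
      rintro _ ⟨m, rfl⟩ hm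
      exact hg (Ideal.IsPrime.mem_of_pow_mem inferInstance m hm)
    haveI hp : (b.map (algebraMap B (Localization.Away g))).IsPrime :=
      IsLocalization.isPrime_of_isPrime_disjoint (Submonoid.powers g) _ b inferInstance hdisj
    obtain ⟨ι₂⟩ := nonempty_atPrime_algEquiv_atPrime_map_away k B b g hg
    exact ⟨Localization.Away g, inferInstance, inferInstance,
      b.map (algebraMap B (Localization.Away g)), hp, inferInstance, hci, ⟨ι.trans ι₂⟩⟩
  · rintro ⟨A, hA1, hA2, a, ha, hft, hci, ⟨ι⟩⟩
    apply isCIOver_of_algEquiv ι.symm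
    apply (isCIOver_atPrime_iff_exists_away_of_finiteType k A a).mpr
    exact ⟨1, fun h1 => ha.ne_top ((Ideal.eq_top_iff_one _).mpr h1), isGlobalCI_away k A 1 hci⟩

theorem isCIOver_iff_exists_lci :
    _root_.Synt.IsCIOver k S ↔
      ∃ (A : Type u) (_ : CommRing A) (_ : Algebra k A) (a : Ideal A) (_ : a.IsPrime),
        _root_.Synt.IsLCIOver k A ∧ Nonempty (S ≃ₐ[k] Localization.AtPrime a) := by
  constructor
  · intro h
    obtain ⟨A, hA1, hA2, a, ha, hft, hci, hι⟩ := (isCIOver_iff_exists_globalCI k S).mp h
    exact ⟨A, hA1, hA2, a, ha, isLCIOver_of_isGlobalCI k A hci, hι⟩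
  · rintro ⟨A, hA1, hA2, a, ha, hlci, ⟨ι⟩⟩
    haveI : Algebra.FiniteType k A := hlci.1
    apply isCIOver_of_algEquiv ι.symm
    apply (isCIOver_atPrime_iff_exists_away_of_finiteType k A a).mpr
    exact hlci.2 ⟨a, ha⟩

end

end Groth.Agent.Helper2.Synt
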