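import Mathlib
import Groth.Agent.Lib.Helper2.Synt.CIDefect

/-!
# Complete intersection ideals of regular local rings and the conormal module
-/

set_option autoImplicit false
universe u
open IsLocalRing

namespace Groth.Agent.Helper2.Synt

/-- the conormal module needs as many generators as the ideal (Nakayama) -/
theorem spanFinrank_cotangent_eq {R : Type u} [CommRing R] [IsLocalRing R] (I : Ideal R)
    (hfg : I.FG) (hI : I ≤ maximalIdeal R) :
    (⊤ : Submodule (R ⧸ I) I.Cotangent).spanFinrank = I.spanFinrank := by
  classical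
  apply le_antisymm
  · obtain ⟨s, hscard, hs⟩ := Submodule.FG.exists_span_finset_card_eq_spanFinrank hfg
    have hsI : ∀ x ∈ s, x ∈ I := fun x hx => hs ▸ Ideal.subset_span hx
    let t : Set I.Cotangent := (fun x : s => I.toCotangent ⟨x.1, hsI x.1 x.2⟩) '' Set.univ
    have htop : Submodule.span (R ⧸ I) t = ⊤ := by
      rw [eq_top_iff]
      rintro m -
      obtain ⟨⟨x, hx⟩, rfl⟩ := I.toCotangent_surjective m
      have hx' : x ∈ Submodule.span R (s : Set R) := by rw [hs]; exact hx
      induction hx' using Submodule.span_induction with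
      | mem y hy =>
        exact Submodule.subset_span ⟨⟨y, hy⟩, Set.mem_univ _, rfl⟩
      | zero =>
        have : I.toCotangent ⟨0, hx⟩ = 0 := by
          rw [Ideal.toCotangent_eq_zero]; exact Ideal.zero_mem _
        rw [this]; exact Submodule.zero_mem _
      | add y z hy hz hy' hz' =>
        have hyI : y ∈ I := hs ▸ hy
        have hzI : z ∈ I := hs ▸ hz
        have : I.toCotangent ⟨y + z, hx⟩ = I.toCotangent ⟨y, hyI⟩ + I.toCotangent ⟨z, hzI⟩ := by
          rw [← map_add]; rfl
        rw [this]
        exact Submodule.add_mem _ (hy' hyI) (hz' hzI)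
      | smul a y hy hy' =>
        have hyI : y ∈ I := hs ▸ hy
        have : I.toCotangent ⟨a • y, hx⟩ = (Ideal.Quotient.mk I a) • I.toCotangent ⟨y, hyI⟩ := by
          have h1 : (⟨a • y, hx⟩ : I) = a • ⟨y, hyI⟩ := rfl
          rw [h1, map_smul]
          rfl
        rw [this]
        exact Submodule.smul_mem _ _ (hy' hyI)
    rw [← htop, ← hscard]
    refine (Submodule.spanFinrank_span_le_ncard_of_finite (Set.toFinite t)).trans ?_
    refine (Set.ncard_image_le Set.finite_univ).trans ?_
    rw [Set.ncard_univ, Nat.card_eq_fintype_card, Fintype.card_coe]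
  · have hfgC : (⊤ : Submodule (R ⧸ I) I.Cotangent).FG := by
      have : Module.Finite R I := Module.Finite.iff_fg.mpr hfg
      have : Module.Finite R I.Cotangent := Module.Finite.of_surjective _ I.toCotangent_surjective
      have : Module.Finite (R ⧸ I) I.Cotangent := Module.Finite.of_restrictScalars_finite R _ _
      exact Module.Finite.fg_top
    obtain ⟨t, htcard, ht⟩ := Submodule.FG.exists_span_finset_card_eq_spanFinrank hfgC
    choose y hy using fun m : I.Cotangent => I.toCotangent_surjective m
    let J : Ideal R := Ideal.span ((fun m => (y m : R)) '' (t : Set I.Cotangent))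
    have hJI : J ≤ I := by
      rw [Ideal.span_le]
      rintro _ ⟨m, -, rfl⟩
      exact (y m).2
    have hIJ : I ≤ J := by
      apply Submodule.le_of_le_smul_of_le_jacobson_bot (I := I) hfg
        (by rw [IsLocalRing.jacobson_eq_maximalIdeal ⊥ bot_ne_top]; exact hI)
      intro x hx
      have hmem : I.toCotangent ⟨x, hx⟩ ∈ Submodule.span (R ⧸ I) (t : Set I.Cotangent) := by
        rw [ht]; trivial
      -- every element of the span is the image of an element of `J`
      have key : ∀ m ∈ Submodule.span (R ⧸ I) (t : Set I.Cotangent),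
          ∃ z : I, (z : R) ∈ J ∧ I.toCotangent z = m := by
        intro m hm
        induction hm using Submodule.span_induction with
        | mem m hm => exact ⟨y m, Ideal.subset_span ⟨m, hm, rfl⟩, hy m⟩
        | zero => exact ⟨0, J.zero_mem, map_zero _⟩
        | add m₁ m₂ _ _ h₁ h₂ =>
          obtain ⟨z₁, hz₁, rfl⟩ := h₁
          obtain ⟨z₂, hz₂, rfl⟩ := h₂
          exact ⟨z₁ + z₂, J.add_mem hz₁ hz₂, map_add _ _ _⟩
        | smul a m _ h =>
          obtain ⟨z, hz, rfl⟩ := h
          obtain ⟨a, rfl⟩ := Ideal.Quotient.mk_surjective a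
          refine ⟨a • z, J.mul_mem_left a hz, ?_⟩
          rw [map_smul]
          rfl
      obtain ⟨z, hzJ, hz⟩ := key _ hmem
      have h2 : (x - z : R) ∈ I ^ 2 := by
        have := (Ideal.toCotangent_eq (I := I) (x := ⟨x, hx⟩) (y := z)).mp hz.symm
        exact this
      have hx_eq : x = (z : R) + (x - z) := by ring
      rw [hx_eq]
      refine Submodule.add_mem_sup hzJ ?_
      rw [pow_two] at h2
      exact h2
    have hJeq : I = J := le_antisymm hIJ hJI
    have hsf : I.spanFinrank = J.spanFinrank := congrArg Submodule.spanFinrank hJeq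
    rw [← htcard, hsf]
    refine (Submodule.spanFinrank_span_le_ncard_of_finite
      ((Finset.finite_toSet t).image _)).trans ?_
    refine (Set.ncard_image_le (Finset.finite_toSet t)).trans ?_
    rw [Set.ncard_coe_finset]


theorem exists_isRegular_iff_cotangent {R : Type u} [CommRing R] [IsRegularLocalRing R]
    (I : Ideal R) (hI : I ≠ ⊤) :
    (∃ rs : List R, Ideal.ofList rs = I ∧ RingTheory.Sequence.IsRegular R rs) ↔
      (((⊤ : Submodule (R ⧸ I) I.Cotangent).spanFinrank : WithBot ℕ∞) + ringKrullDim (R ⧸ I)
        ≤ ringKrullDim R) := by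
  have hIm : I ≤ maximalIdeal R := IsLocalRing.le_maximalIdeal hI
  have hfg : I.FG := (isNoetherianRing_iff_ideal_fg R).mp inferInstance I
  rw [spanFinrank_cotangent_eq I hfg hIm]
  obtain ⟨d, a, hd, ha, hle⟩ := exists_nat_dims hIm
  have h1 : (∃ rs : List R, Ideal.ofList rs = I ∧ RingTheory.Sequence.IsRegular R rs) ↔
      IsCIIdeal R I := by
    rw [isCIIdeal_iff_exists_isRegular hIm]
    constructor
    · rintro ⟨rs, h1, h2⟩; exact ⟨rs, h2, h1⟩
    · rintro ⟨rs, h1, h2⟩; exact ⟨rs, h2, h1⟩
  rw [h1, isCIIdeal_iff_nat hd ha, hd, ha]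
  constructor
  · intro h
    exact_mod_cast h.le
  · intro h
    have : I.spanFinrank + a ≤ d := by exact_mod_cast h
    omega

end Groth.Agent.Helper2.Synt
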