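import Mathlib
import Groth.Prelude.Def_Flat
import Groth.Agent.Lib.Helper2.Synt.RelGCI
import Groth.Agent.Lib.Helper4.DimFT2
import Groth.Agent.Lib.Helper4.Chev2

/-!
# Local fibre dimension of relative global complete intersections (helper2)
-/

set_option autoImplicit false
set_option linter.style.haveILetI false
set_option linter.unusedSectionVars false
set_option backward.isDefEq.respectTransparency.types false
universe u

namespace Groth.Agent.Helper2.Synt

open TensorProduct MvPolynomial CategoryTheory CategoryTheory.Limits AlgebraicGeometry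

/-- Krull: the quotient of a presentation over a field by a minimal prime has dimension at least
`n - c` -/
theorem le_dim_quotient_add_of_height_eq_zero (k : Type u) [Field k] (n c : ℕ)
    (r : Fin c → MvPolynomial (Fin n) k) (q : Ideal (_root_.Synt.RelGCIRing k n c r)) [q.IsPrime]
    (hq0 : q.height = 0) :
    (n : WithBot ℕ∞) ≤ ringKrullDim (_root_.Synt.RelGCIRing k n c r ⧸ q) + (c : WithBot ℕ∞) := by
  set I := Ideal.span (Set.range r) with hI
  have h1 := height_comap_le_add k n I q r hI
  rw [hq0, add_zero] at h1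
  have h2 := Groth.Agent.Lib.Helper4.DimFT1.height_add_dim_quotient k (MvPolynomial (Fin n) k)
    (q.comap (Ideal.Quotient.mk I))
  rw [ringKrullDim_mvPolynomial] at h2
  have h4 : ringKrullDim (MvPolynomial (Fin n) k ⧸ q.comap (Ideal.Quotient.mk I)) =
      ringKrullDim ((MvPolynomial (Fin n) k ⧸ I) ⧸ q) :=
    ringKrullDim_eq_of_ringEquiv (quotQuotEquiv k n I q)
  rw [← h2, add_comm, h4]
  refine add_le_add le_rfl ?_
  exact_mod_cast h1

/-- the local dimension of a presentation over a field is at least `n - c` everywhere -/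
theorem le_localDim_add (k : Type u) [Field k] (n c : ℕ) (r : Fin c → MvPolynomial (Fin n) k)
    (Q : PrimeSpectrum (_root_.Synt.RelGCIRing k n c r)) :
    (n : WithBot ℕ∞) ≤
      FlatMor.localDim (PrimeSpectrum (_root_.Synt.RelGCIRing k n c r)) Q + (c : WithBot ℕ∞) := by
  haveI : Algebra.FiniteType k (_root_.Synt.RelGCIRing k n c r) :=
    Algebra.FiniteType.of_surjective (Ideal.Quotient.mkₐ k _) (Ideal.Quotient.mkₐ_surjective k _)
  haveI := Q.isPrime
  have h := Groth.Agent.Lib.Helper4.DimFT2.localDim_spec_eq (k := k) Q.asIdeal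
  change FlatMor.localDim (PrimeSpectrum (_root_.Synt.RelGCIRing k n c r)) Q = _ at h
  obtain ⟨q₀, hq₀min, hq₀le⟩ := Ideal.exists_minimalPrimes_le (bot_le : (⊥ : Ideal _) ≤ Q.asIdeal)
  haveI : q₀.IsPrime := hq₀min.1.1
  have hq0 : q₀.height = 0 := by
    rw [Ideal.height_eq_zero_iff]
    exact hq₀min
  have h3 := Groth.Agent.Lib.Helper4.DimFT2.height_map_add_dim k
    (_root_.Synt.RelGCIRing k n c r) q₀ Q.asIdeal hq₀le
  have h4 := Groth.Agent.Lib.Helper4.DimFT2.height_map_mk_le q₀ Q.asIdeal hq₀le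
  have h5 := le_dim_quotient_add_of_height_eq_zero k n c r q₀ hq0
  rw [h]
  refine h5.trans (add_le_add ?_ le_rfl)
  rw [← h3]
  refine add_le_add ?_ le_rfl
  exact_mod_cast h4

theorem eq_of_le_of_le_add {x : WithBot ℕ∞} {n c d : ℕ} (hd : d = n - c)
    (h1 : x ≤ (d : WithBot ℕ∞)) (h2 : (n : WithBot ℕ∞) ≤ x + (c : WithBot ℕ∞)) :
    x = (d : WithBot ℕ∞) := by
  induction x using WithBot.recBotCoe with
  | bot =>
    exfalso
    rw [WithBot.bot_add, le_bot_iff] at h2
    exact absurd h2 (by simp)
  | coe x =>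
    induction x using ENat.recTopCoe with
    | top =>
      exfalso
      have : (⊤ : ℕ∞) ≤ (d : ℕ∞) := by exact_mod_cast h1
      simp at this
    | coe m =>
      have h1' : m ≤ d := by exact_mod_cast h1
      have h2' : n ≤ m + c := by exact_mod_cast h2
      have : m = d := by omega
      rw [this]
      rfl

/-- **S9366**, ring level: the local dimension of every fibre of a relative global complete
intersection at every point is `n - c` -/
theorem localDim_fiber_of_isRelGCI (R : Type u) [CommRing R] (n c : ℕ)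
    (F : Fin c → MvPolynomial (Fin n) R) (h : _root_.Synt.IsRelGCI R n c F) (p : PrimeSpectrum R)
    (Q : PrimeSpectrum (p.asIdeal.Fiber (_root_.Synt.RelGCIRing R n c F))) :
    FlatMor.localDim (PrimeSpectrum (p.asIdeal.Fiber (_root_.Synt.RelGCIRing R n c F))) Q =
      ((n - c : ℕ) : WithBot ℕ∞) := by
  haveI := p.isPrime
  have hnt : Nontrivial (p.asIdeal.Fiber (_root_.Synt.RelGCIRing R n c F)) := by
    by_contra hcon
    rw [not_nontrivial_iff_subsingleton] at hcon
    exact Q.isPrime.ne_top (Subsingleton.elim _ _)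
  obtain ⟨hcn, hdim⟩ := h p hnt
  refine eq_of_le_of_le_add rfl ?_ ?_
  · rw [← hdim, ← PrimeSpectrum.topologicalKrullDim_eq_ringKrullDim]
    exact Groth.Agent.Lib.Helper4.Chev2.localDim_le_topologicalKrullDim Q
  · obtain ⟨e, -⟩ : ∃ e : p.asIdeal.Fiber (_root_.Synt.RelGCIRing R n c F) ≃+*
        _root_.Synt.RelGCIRing p.asIdeal.ResidueField n c (mapRel R n c F p.asIdeal.ResidueField),
        True := ⟨(fiberEquiv R n c F p.asIdeal.ResidueField).toRingEquiv, trivial⟩
    rw [Groth.Agent.Lib.Helper4.Chev2.localDim_homeomorph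
      (PrimeSpectrum.homeomorphOfRingEquiv e) Q]
    exact le_localDim_add _ n c _ _

/-- the local fibre dimension of a morphism of affine schemes is a local dimension of a fibre
ring -/
theorem exists_fibreDimAt_Spec_eq (R A : Type u) [CommRing R] [CommRing A] [Algebra R A]
    (x : ↑(Spec (CommRingCat.of A))) :
    ∃ (p : PrimeSpectrum R) (Q : PrimeSpectrum (p.asIdeal.Fiber A)),
      FlatMor.fibreDimAt (Spec.map (CommRingCat.ofHom (algebraMap R A))) x =
        FlatMor.localDim (PrimeSpectrum (p.asIdeal.Fiber A)) Q := by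
  obtain ⟨f, hf⟩ : ∃ f : Spec (CommRingCat.of A) ⟶ Spec (CommRingCat.of R),
      f = Spec.map (CommRingCat.ofHom (algebraMap R A)) := ⟨_, rfl⟩
  rw [← hf]
  let p : PrimeSpectrum R := f.base x
  have ι := Spec.fiberToSpecResidueFieldIso R A p
  rw [← hf] at ι
  let hm : ↥(f.fiber p) ≃ₜ ↥(Spec (CommRingCat.of (p.asIdeal.Fiber A))) :=
    Scheme.homeoOfIso (Arrow.leftFunc.mapIso ι)
  refine ⟨p, hm (f.asFiber x), ?_⟩
  unfold FlatMor.fibreDimAt
  exact Groth.Agent.Lib.Helper4.Chev2.localDim_homeomorph hm (f.asFiber x)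

/-- **S9366** -/
theorem S9366_main (R : Type u) [CommRing R] (n c : ℕ) (F : Fin c → MvPolynomial (Fin n) R)
    (hF : _root_.Synt.IsRelGCI R n c F)
    (x : ↑(Spec (CommRingCat.of (_root_.Synt.RelGCIRing R n c F)))) :
    FlatMor.fibreDimAt
      (Spec.map (CommRingCat.ofHom (algebraMap R (_root_.Synt.RelGCIRing R n c F)))) x =
      ((n - c : ℕ) : WithBot ℕ∞) := by
  obtain ⟨p, Q, h⟩ := exists_fibreDimAt_Spec_eq R (_root_.Synt.RelGCIRing R n c F) x
  rw [h]
  exact localDim_fiber_of_isRelGCI R n c F hF p Q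

end Groth.Agent.Helper2.Synt
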