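import Mathlib
import Groth.Agent.Lib.Helper2.Synt.FibDimRel
import Groth.Agent.Lib.Helper2.Synt.SyntLift

/-!
# The local fibre dimension of a syntomic morphism is locally constant (helper2)
-/

set_option autoImplicit false
set_option linter.style.haveILetI false
set_option linter.unusedSectionVars false
set_option backward.isDefEq.respectTransparency.types false
universe u

namespace Groth.Agent.Helper2.Synt

open TensorProduct MvPolynomial CategoryTheory CategoryTheory.Limits AlgebraicGeometry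

/-- generic: the local dimension of all fibres of an algebra isomorphic to a relative global
complete intersection -/
theorem localDim_fiber_of_algEquiv (R A : Type u) [CommRing R] [CommRing A] [Algebra R A] (n c : ℕ)
    (F : Fin c → MvPolynomial (Fin n) R) (h : _root_.Synt.IsRelGCI R n c F)
    (ε : _root_.Synt.RelGCIRing R n c F ≃ₐ[R] A) (p : PrimeSpectrum R)
    (Q : PrimeSpectrum (p.asIdeal.Fiber A)) :
    FlatMor.localDim (PrimeSpectrum (p.asIdeal.Fiber A)) Q = ((n - c : ℕ) : WithBot ℕ∞) := by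
  haveI := p.isPrime
  obtain ⟨E, -⟩ : ∃ E : p.asIdeal.Fiber A ≃+* p.asIdeal.Fiber (_root_.Synt.RelGCIRing R n c F),
      True := ⟨(Algebra.TensorProduct.congr (AlgEquiv.refl (R := R)
        (A₁ := p.asIdeal.ResidueField)) ε.symm).toRingEquiv, trivial⟩
  rw [Groth.Agent.Lib.Helper4.Chev2.localDim_homeomorph (PrimeSpectrum.homeomorphOfRingEquiv
    (R := p.asIdeal.Fiber A) (S := p.asIdeal.Fiber (_root_.Synt.RelGCIRing R n c F)) E) Q]
  exact localDim_fiber_of_isRelGCI R n c F h p _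

/-- around each point of a syntomic chart the local fibre dimension is constant -/
theorem exists_open_fibreDimAt_eq {X S : Scheme.{u}} (f : X ⟶ S) (x : X)
    (h : _root_.Synt.IsSyntomicAt f x) :
    ∃ (W : X.Opens) (d : ℕ), x ∈ W ∧ ∀ x' ∈ W, FlatMor.fibreDimAt f x' = (d : WithBot ℕ∞) := by
  obtain ⟨U₂, V, e₂, hx, hsyn⟩ := h
  letI alg₂ : Algebra Γ(S, V.1) Γ(X, U₂.1) := (f.appLE V.1 U₂.1 e₂).hom.toAlgebra
  haveI hqprime : (U₂.2.primeIdealOf ⟨x, hx⟩).asIdeal.IsPrime :=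
    (U₂.2.primeIdealOf ⟨x, hx⟩).isPrime
  obtain ⟨g, hgq, n, c, F, hrel, ⟨ε⟩⟩ := exists_away_isRelGCI_of_isSyntomic Γ(S, V.1) Γ(X, U₂.1)
    hsyn (U₂.2.primeIdealOf ⟨x, hx⟩).asIdeal
  have hxg : x ∈ X.basicOpen g := by
    have h1 : U₂.2.primeIdealOf ⟨x, hx⟩ ∈ U₂.2.fromSpec ⁻¹ᵁ X.basicOpen g := by
      rw [U₂.2.fromSpec_preimage_basicOpen]
      exact hgq
    have h2 := U₂.2.fromSpec_primeIdealOf ⟨x, hx⟩
    have h3 : U₂.2.fromSpec (U₂.2.primeIdealOf ⟨x, hx⟩) ∈ X.basicOpen g := h1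
    rw [h2] at h3
    exact h3
  have eU : X.basicOpen g ≤ f ⁻¹ᵁ V.1 := (X.basicOpen_le g).trans e₂
  refine ⟨X.basicOpen g, n - c, hxg, fun x' hx' => ?_⟩
  letI algU : Algebra Γ(S, V.1) Γ(X, X.basicOpen g) :=
    (f.appLE V.1 (X.basicOpen g) eU).hom.toAlgebra
  haveI : IsScalarTower Γ(S, V.1) Γ(X, U₂.1) Γ(X, X.basicOpen g) :=
    IsScalarTower.of_algebraMap_eq' (congrArg CommRingCat.Hom.hom
      (Scheme.Hom.appLE_map f e₂ (homOfLE (X.basicOpen_le g)).op).symm)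
  haveI := U₂.2.isLocalization_basicOpen g
  obtain ⟨ε', -⟩ : ∃ ε' : _root_.Synt.RelGCIRing Γ(S, V.1) n c F ≃ₐ[Γ(S, V.1)]
      Γ(X, X.basicOpen g), True :=
    ⟨ε.symm.trans ((Localization.algEquiv (Submonoid.powers g)
      Γ(X, X.basicOpen g)).restrictScalars Γ(S, V.1)), trivial⟩
  obtain ⟨Q, hQ⟩ := Groth.Agent.Lib.Helper4.Chev2.exists_fiber_point f x' (U₂.2.basicOpen g) V.2 eU
    hx'
  rw [Groth.Agent.Lib.Helper4.Chev2.fibreDimAt_eq_localDim_fiberRing f x' (U₂.2.basicOpen g) V.2 eU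
    hx' Q hQ]
  exact localDim_fiber_of_algEquiv Γ(S, V.1) Γ(X, X.basicOpen g) n c F hrel ε' _ Q

/-- **S9367** -/
theorem S9367_main {X S : Scheme.{u}} (f : X ⟶ S) (hf : _root_.Synt.IsSyntomicMor f) :
    IsLocallyConstant (fun x : ↑X => FlatMor.fibreDimAt f x) := by
  rw [IsLocallyConstant.iff_exists_open]
  intro x
  obtain ⟨W, d, hxW, hW⟩ := exists_open_fibreDimAt_eq f x (hf x)
  refine ⟨W.1, W.2, hxW, fun x' hx' => ?_⟩
  rw [hW x' hx', hW x hxW]

end Groth.Agent.Helper2.Synt
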