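import Mathlib
import Groth.Agent.Lib.Helper2.Synt.Spread
import Groth.Prelude.Def_RegImm

/-!
# Finite subsets of a field extension lie in global complete intersection subalgebras
-/

set_option autoImplicit false
universe u

namespace Groth.Agent.Helper2.Synt

open IsLocalRing

/-- every finite subset of a field extension lies in a subalgebra that is a global complete
intersection -/
theorem exists_subalgebra_isGlobalCI (k : Type u) [Field k] (K : Type u)
    [Field K] [Algebra k K] (E : Finset K) :
    ∃ A : Subalgebra k K, (↑E : Set K) ⊆ (A : Set K) ∧ Synt.IsGlobalCI k A := by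
  classical
  set n := E.card with hn
  let e : Fin n ≃ E := E.equivFin.symm
  let φ : MvPolynomial (Fin n) k →ₐ[k] K := MvPolynomial.aeval (fun i => (e i : K))
  let I : Ideal (MvPolynomial (Fin n) k) := RingHom.ker φ
  have hIp : I.IsPrime := RingHom.ker_isPrime φ
  let q : Ideal (MvPolynomial (Fin n) k ⧸ I) := ⊥
  have : q.IsPrime := Ideal.isPrime_bot
  have hqI : q.comap (Ideal.Quotient.mk I) = I := Ideal.mk_ker
  have hJ : I.map (algebraMap (MvPolynomial (Fin n) k)
      (Localization.AtPrime (q.comap (Ideal.Quotient.mk I)))) =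
      maximalIdeal (Localization.AtPrime (q.comap (Ideal.Quotient.mk I))) := by
    have := Localization.AtPrime.map_eq_maximalIdeal (I := q.comap (Ideal.Quotient.mk I))
    rw [← this]
    exact congrArg (fun J : Ideal (MvPolynomial (Fin n) k) => J.map (algebraMap (MvPolynomial (Fin n) k)
      (Localization.AtPrime (q.comap (Ideal.Quotient.mk I))))) hqI.symm
  have hCI : IsCIIdeal (Localization.AtPrime (q.comap (Ideal.Quotient.mk I)))
      (I.map (algebraMap (MvPolynomial (Fin n) k)
      (Localization.AtPrime (q.comap (Ideal.Quotient.mk I))))) := by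
    rw [hJ]
    unfold IsCIIdeal
    rw [IsRegularLocalRing.spanFinrank_maximalIdeal]
    have : ringKrullDim (Localization.AtPrime (q.comap (Ideal.Quotient.mk I)) ⧸
        maximalIdeal (Localization.AtPrime (q.comap (Ideal.Quotient.mk I)))) = 0 :=
      ringKrullDim_eq_zero_of_isField (Ideal.Quotient.field _).toIsField
    rw [this, add_zero]
  obtain ⟨g, hg, hgCI⟩ := exists_away_globalCI_of_isCIIdeal k n I q hCI
  have hg0 : g ≠ 0 := fun h => hg (h ▸ Ideal.zero_mem _)
  let φ' : (MvPolynomial (Fin n) k ⧸ I) →ₐ[k] K := Ideal.kerLiftAlg φ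
  have hφ' : Function.Injective φ' := Ideal.kerLiftAlg_injective φ
  have hunit : ∀ y : Submonoid.powers g, IsUnit (φ' y) := by
    rintro ⟨_, m, rfl⟩
    rw [map_pow]
    exact (IsUnit.mk0 _ ((map_ne_zero_iff φ' hφ').mpr hg0)).pow m
  let ψ : Localization.Away g →ₐ[k] K := IsLocalization.liftAlgHom (M := Submonoid.powers g) hunit
  have hψ : Function.Injective ψ := by
    have hψeq : ∀ x, ψ (algebraMap _ _ x) = φ' x := fun x =>
      IsLocalization.lift_eq (M := Submonoid.powers g) hunit x
    rw [injective_iff_map_eq_zero]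
    intro z hz
    obtain ⟨a, s, rfl⟩ := IsLocalization.exists_mk'_eq (Submonoid.powers g) z
    have h1 : ψ (IsLocalization.mk' (Localization.Away g) a s) * ψ (algebraMap _ _ (s : MvPolynomial (Fin n) k ⧸ I)) =
        ψ (algebraMap _ _ a) := by
      rw [← map_mul, IsLocalization.mk'_spec]
    rw [hz, zero_mul, hψeq] at h1
    have ha : a = 0 := by
      apply hφ'
      rw [map_zero, ← h1]
    subst ha
    exact IsLocalization.mk'_zero _
  refine ⟨ψ.range, ?_, isGlobalCI_of_algEquiv (AlgEquiv.ofInjective ψ hψ) hgCI⟩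
  intro x hx
  have hx' : x ∈ E := hx
  refine ⟨algebraMap _ _ (Ideal.Quotient.mk I (MvPolynomial.X (e.symm ⟨x, hx'⟩))), ?_⟩
  have h1 : ψ (algebraMap _ _ (Ideal.Quotient.mk I (MvPolynomial.X (e.symm ⟨x, hx'⟩)))) =
      φ' (Ideal.Quotient.mk I (MvPolynomial.X (e.symm ⟨x, hx'⟩))) :=
    IsLocalization.lift_eq (M := Submonoid.powers g) hunit _
  have h2 : φ' (Ideal.Quotient.mk I (MvPolynomial.X (e.symm ⟨x, hx'⟩))) =
      φ (MvPolynomial.X (e.symm ⟨x, hx'⟩)) := Ideal.kerLiftAlg_mk φ _
  have h3 : φ (MvPolynomial.X (e.symm ⟨x, hx'⟩)) = x := by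
    simp [φ]
  exact h1.trans (h2.trans h3)

end Groth.Agent.Helper2.Synt
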