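import Mathlib

set_option autoImplicit false
set_option linter.style.haveILetI false
set_option linter.unusedSectionVars false
universe u

namespace Groth.Agent.Helper2.Synt

open TensorProduct KaehlerDifferential IsLocalRing

section JacLocal

variable {R S' P' K : Type u} [CommRing R] [CommRing S'] [IsLocalRing S'] [Algebra R S']
  [CommRing P'] [Algebra R P'] [Algebra P' S'] [IsScalarTower R P' S'] [Field K] [Algebra S' K]
  [Algebra P' K] [IsScalarTower P' S' K]
  {n c : ℕ} (bΩ : Module.Basis (Fin n) P' Ω[P'⁄R]) (G : Fin c → P')
  (hG : Ideal.span (Set.range G) = RingHom.ker (algebraMap P' S'))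

/-- the Jacobian matrix in the residue field -/
noncomputable def jacK : Matrix (Fin c) (Fin n) K :=
  fun j i => algebraMap P' K (bΩ.repr (D R P' (G j)) i)

include hG in
theorem gen_mem_ker (j : Fin c) : G j ∈ RingHom.ker (algebraMap P' S') := by
  rw [← hG]
  exact Ideal.subset_span ⟨j, rfl⟩

/-- the generators of the kernel, as elements of the base change to `K` -/
noncomputable def genK (j : Fin c) : K ⊗[P'] (RingHom.ker (algebraMap P' S')) :=
  (1 : K) ⊗ₜ[P'] (⟨G j, gen_mem_ker G hG j⟩ : RingHom.ker (algebraMap P' S'))

theorem span_genK : ⊤ ≤ Submodule.span K (Set.range (genK (K := K) G hG)) := by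
  rintro z -
  induction z using TensorProduct.induction_on with
  | zero => exact Submodule.zero_mem _
  | add x y hx hy => exact Submodule.add_mem _ hx hy
  | tmul a y =>
    obtain ⟨y, hy⟩ := y
    have hy' := hy
    rw [← hG] at hy'
    obtain ⟨t, ht⟩ := (Ideal.mem_span_range_iff_exists_fun).mp hy'
    have h1 : (⟨y, hy⟩ : RingHom.ker (algebraMap P' S')) =
        ∑ j, t j • (⟨G j, gen_mem_ker G hG j⟩ : RingHom.ker (algebraMap P' S')) := by
      apply Subtype.ext
      rw [Submodule.coe_sum]
      simp only [SetLike.val_smul, smul_eq_mul]
      exact ht.symm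
    rw [h1, TensorProduct.tmul_sum]
    refine Submodule.sum_mem _ fun j _ => ?_
    have h2 : a ⊗ₜ[P'] (t j • (⟨G j, gen_mem_ker G hG j⟩ : RingHom.ker (algebraMap P' S'))) =
        (t j • a) • genK (K := K) G hG j := by
      unfold genK
      rw [TensorProduct.tmul_smul, TensorProduct.smul_tmul', TensorProduct.smul_tmul', smul_eq_mul,
        mul_one]
    rw [h2]
    exact Submodule.smul_mem _ _ (Submodule.subset_span ⟨j, rfl⟩)

theorem cotangentComplexBaseChange_genK (j : Fin c) :
    (bΩ.baseChange K).equivFun (cotangentComplexBaseChange R S' P' K (genK (K := K) G hG j)) =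
      (jacK (K := K) bΩ G).row j := by
  ext i
  unfold genK jacK
  rw [cotangentComplexBaseChange_tmul, one_smul, kerToTensor_apply, Module.Basis.equivFun_apply,
    Module.Basis.baseChange_repr_tmul, Algebra.smul_def, mul_one]
  rfl

include hG in
/-- Jacobian criterion, sufficiency: if the rows of the Jacobian matrix over the residue field are
linearly independent, the local algebra is formally smooth -/
theorem formallySmooth_of_linearIndependent_jacK [Algebra.FormallySmooth R P']
    (h₁ : Function.Surjective (algebraMap P' S'))
    (h₃ : maximalIdeal S' ≤ RingHom.ker (algebraMap S' K))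
    (hli : LinearIndependent K (jacK (K := K) bΩ G).row) : Algebra.FormallySmooth R S' := by
  haveI := Module.Free.of_basis bΩ
  haveI := Module.Finite.of_basis bΩ
  have h₂ : (RingHom.ker (algebraMap P' S')).FG := by
    rw [← hG]
    exact Submodule.fg_span (Set.finite_range G)
  rw [Algebra.FormallySmooth.iff_injective_cotangentComplexBaseChange P' K h₁ h₂ h₃,
    injective_iff_map_eq_zero]
  intro z hz
  obtain ⟨α, rfl⟩ := (Submodule.mem_span_range_iff_exists_fun K).mp
    (span_genK (K := K) G hG Submodule.mem_top : z ∈ _)
  have h4 := congrArg (bΩ.baseChange K).equivFun hz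
  rw [map_sum, map_sum, map_zero] at h4
  simp_rw [map_smul, cotangentComplexBaseChange_genK] at h4
  have h5 := Fintype.linearIndependent_iff.mp hli α h4
  simp [h5]

include hG in
/-- Jacobian criterion, necessity: if moreover relations among the generators have coefficients
in the kernel of `P' → K`, formal smoothness forces the rows of the Jacobian matrix over the
residue field to be linearly independent -/
theorem linearIndependent_jacK_of_formallySmooth [Algebra.FormallySmooth R P']
    (h₁ : Function.Surjective (algebraMap P' S'))
    (h₃ : maximalIdeal S' ≤ RingHom.ker (algebraMap S' K))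
    (hreg : ∀ a : Fin c → P', ∑ j, a j * G j = 0 → ∀ j, algebraMap P' K (a j) = 0)
    (hsm : Algebra.FormallySmooth R S') : LinearIndependent K (jacK (K := K) bΩ G).row := by
  haveI := Module.Free.of_basis bΩ
  haveI := Module.Finite.of_basis bΩ
  have h₂ : (RingHom.ker (algebraMap P' S')).FG := by
    rw [← hG]
    exact Submodule.fg_span (Set.finite_range G)
  rw [Algebra.FormallySmooth.iff_injective_cotangentComplexBaseChange P' K h₁ h₂ h₃] at hsm
  -- independence of the generators
  have hgen : LinearIndependent K (genK (K := K) G hG) := by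
    let g : Fin c → RingHom.ker (algebraMap P' S') := fun j => ⟨G j, gen_mem_ker G hG j⟩
    let lin : (Fin c → P') →ₗ[P'] RingHom.ker (algebraMap P' S') := Fintype.linearCombination P' g
    have hlin : ∀ a, ((lin a : RingHom.ker (algebraMap P' S')) : P') = ∑ j, a j * G j := by
      intro a
      simp only [lin, Fintype.linearCombination_apply, Submodule.coe_sum, SetLike.val_smul,
        smul_eq_mul, g]
    have hsurj : Function.Surjective lin := by
      rintro ⟨y, hy⟩
      have hy' := hy
      rw [← hG] at hy'
      obtain ⟨t, ht⟩ := (Ideal.mem_span_range_iff_exists_fun).mp hy'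
      refine ⟨t, Subtype.ext ?_⟩
      rw [hlin]
      exact ht
    have key : ∀ k : Fin c, ∃ φ : RingHom.ker (algebraMap P' S') →ₗ[P'] K,
        ∀ a, φ (lin a) = algebraMap P' K (a k) := by
      intro k
      let ev : (Fin c → P') →ₗ[P'] K := (Algebra.linearMap P' K) ∘ₗ (LinearMap.proj k)
      have hle : LinearMap.ker lin ≤ LinearMap.ker ev := by
        intro a ha
        rw [LinearMap.mem_ker] at ha ⊢
        have h0 : ∑ j, a j * G j = 0 := by
          rw [← hlin, ha]
          rfl
        exact hreg a h0 k
      refine ⟨(Submodule.liftQ _ ev hle) ∘ₗ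
        (lin.quotKerEquivOfSurjective hsurj).symm.toLinearMap, fun a => ?_⟩
      have h6 : (lin.quotKerEquivOfSurjective hsurj).symm (lin a) = Submodule.Quotient.mk a := by
        rw [LinearEquiv.symm_apply_eq]
        rfl
      rw [LinearMap.comp_apply, LinearEquiv.coe_coe, h6, Submodule.liftQ_apply]
      rfl
    choose φ hφ using key
    rw [Fintype.linearIndependent_iff]
    intro α hα k
    have h7 := congrArg (LinearMap.liftBaseChange K (φ k)) hα
    rw [map_sum, map_zero] at h7
    have h8 : ∀ j, LinearMap.liftBaseChange K (φ k) (genK (K := K) G hG j) =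
        if j = k then 1 else 0 := by
      intro j
      unfold genK
      rw [LinearMap.liftBaseChange_tmul, one_smul]
      have h9 : (⟨G j, gen_mem_ker G hG j⟩ : RingHom.ker (algebraMap P' S')) =
          lin (Pi.single j 1) := by
        apply Subtype.ext
        rw [hlin]
        simp [Pi.single_apply]
      rw [h9, hφ, Pi.single_apply]
      split_ifs with h10 h11 h11
      · exact map_one _
      · exact absurd h10.symm h11
      · exact absurd h11.symm h10
      · exact map_zero _
    simp_rw [map_smul, h8] at h7
    simpa using h7
  have h11 := (hgen.map' _ (LinearMap.ker_eq_bot_of_injective hsm)).map'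
    (bΩ.baseChange K).equivFun.toLinearMap (bΩ.baseChange K).equivFun.ker
  have h12 : ((bΩ.baseChange K).equivFun.toLinearMap ∘
      ((cotangentComplexBaseChange R S' P' K) ∘ genK (K := K) G hG)) =
      (jacK (K := K) bΩ G).row := by
    ext j : 1
    exact cotangentComplexBaseChange_genK bΩ G hG j
  rw [h12] at h11
  exact h11

end JacLocal

end Groth.Agent.Helper2.Synt
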