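import Mathlib
import Groth.Agent.Lib.Helper2.Synt.JacLocal
import Groth.Agent.Lib.Helper2.Synt.LocQuot

set_option autoImplicit false
set_option linter.style.haveILetI false
set_option linter.unusedSectionVars false
universe u

namespace Groth.Agent.Helper2.Synt

open TensorProduct KaehlerDifferential IsLocalRing

section JacPrime

variable {R P S : Type u} [CommRing R] [CommRing P] [Algebra R P] [CommRing S] [Algebra R S]
  [Algebra P S] [IsScalarTower R P S] [Algebra.FormallySmooth R P]
  (hsurj : Function.Surjective (algebraMap P S))
  {n c : ℕ} (bP : Module.Basis (Fin n) P Ω[P⁄R]) (F : Fin c → P)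
  (hF : Ideal.span (Set.range F) = RingHom.ker (algebraMap P S))
  (q : Ideal S) [q.IsPrime]

/-- the Jacobian matrix at a prime -/
noncomputable def jacAt : Matrix (Fin c) (Fin n) q.ResidueField :=
  fun j i => algebraMap S q.ResidueField (algebraMap P S (bP.repr (D R P (F j)) i))

include hsurj hF in
theorem isSmoothAt_iff_linearIndependent_jacAt
    (hcoef : Algebra.IsSmoothAt R q → ∀ a : Fin c → P, ∑ j, a j * F j = 0 →
      ∀ j, a j ∈ RingHom.ker (algebraMap P S)) :
    Algebra.IsSmoothAt R q ↔ LinearIndependent q.ResidueField (jacAt bP F q).row := by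
  haveI hq' : (q.comap (algebraMap P S)).IsPrime := Ideal.comap_isPrime _ _
  obtain ⟨φ, hφ⟩ : ∃ φ : Localization.AtPrime (q.comap (algebraMap P S)) →+*
      Localization.AtPrime q, φ = Localization.localRingHom (q.comap (algebraMap P S)) q
        (algebraMap P S) rfl := ⟨_, rfl⟩
  have hden : ∀ t : S, ∃ a g : P, IsUnit (algebraMap P S a) ∧
      algebraMap P S a * t = algebraMap P S g := by
    intro t
    obtain ⟨g, rfl⟩ := hsurj t
    exact ⟨1, g, by rw [map_one]; exact isUnit_one, by rw [map_one, one_mul]⟩
  have hφsurj : Function.Surjective φ := by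
    rw [hφ]
    exact localRingHom_surjective_of_denominators (algebraMap P S) q _ rfl hden
  have hφker : RingHom.ker φ = (RingHom.ker (algebraMap P S)).map
      (algebraMap P (Localization.AtPrime (q.comap (algebraMap P S)))) := by
    rw [hφ]
    exact ker_localRingHom_of_denominators (algebraMap P S) q _ rfl hden
  have hφmap : ∀ x : P, φ (algebraMap P _ x) = algebraMap S _ (algebraMap P S x) := by
    intro x
    rw [hφ]
    exact Localization.localRingHom_to_map _ _ _ _ x
  letI : Algebra (Localization.AtPrime (q.comap (algebraMap P S))) (Localization.AtPrime q) :=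
    φ.toAlgebra
  haveI : IsScalarTower R (Localization.AtPrime (q.comap (algebraMap P S)))
      (Localization.AtPrime q) := by
    refine IsScalarTower.of_algebraMap_eq fun r => ?_
    show _ = φ _
    rw [IsScalarTower.algebraMap_apply R P (Localization.AtPrime (q.comap (algebraMap P S))),
      hφmap, ← IsScalarTower.algebraMap_apply R P S,
      ← IsScalarTower.algebraMap_apply R S (Localization.AtPrime q)]
  letI : Algebra (Localization.AtPrime (q.comap (algebraMap P S))) q.ResidueField :=
    ((algebraMap (Localization.AtPrime q) q.ResidueField).comp φ).toAlgebra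
  haveI : IsScalarTower (Localization.AtPrime (q.comap (algebraMap P S)))
      (Localization.AtPrime q) q.ResidueField := IsScalarTower.of_algebraMap_eq fun _ => rfl
  haveI : Algebra.FormallySmooth P (Localization.AtPrime (q.comap (algebraMap P S))) :=
    Algebra.FormallySmooth.of_isLocalization (q.comap (algebraMap P S)).primeCompl
  haveI : Algebra.FormallySmooth R (Localization.AtPrime (q.comap (algebraMap P S))) :=
    Algebra.FormallySmooth.comp R P _
  obtain ⟨bΩ, hbΩ⟩ : ∃ bΩ : Module.Basis (Fin n) (Localization.AtPrime (q.comap (algebraMap P S)))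
      Ω[Localization.AtPrime (q.comap (algebraMap P S))⁄R], ∀ (m : Ω[P⁄R]) (i : Fin n),
      bΩ.repr (KaehlerDifferential.map R R P (Localization.AtPrime (q.comap (algebraMap P S))) m) i
        = algebraMap P (Localization.AtPrime (q.comap (algebraMap P S))) (bP.repr m i) :=
    ⟨bP.ofIsLocalizedModule (Localization.AtPrime (q.comap (algebraMap P S)))
      (q.comap (algebraMap P S)).primeCompl
      (KaehlerDifferential.map R R P (Localization.AtPrime (q.comap (algebraMap P S)))),
      fun m i => Module.Basis.ofIsLocalizedModule_repr_apply _ _ _ _ m i⟩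
  obtain ⟨G, hGdef⟩ : ∃ G : Fin c → Localization.AtPrime (q.comap (algebraMap P S)),
      G = fun j => algebraMap P _ (F j) := ⟨_, rfl⟩
  have hG : Ideal.span (Set.range G) = RingHom.ker (algebraMap
      (Localization.AtPrime (q.comap (algebraMap P S))) (Localization.AtPrime q)) := by
    show _ = RingHom.ker φ
    rw [hφker, ← hF, Ideal.map_span, ← Set.range_comp, hGdef]
    rfl
  have h₁ : Function.Surjective (algebraMap
      (Localization.AtPrime (q.comap (algebraMap P S))) (Localization.AtPrime q)) := hφsurj
  have h₃ : maximalIdeal (Localization.AtPrime q) ≤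
      RingHom.ker (algebraMap (Localization.AtPrime q) q.ResidueField) := by
    intro x hx
    rw [RingHom.mem_ker]
    exact (IsLocalRing.residue_eq_zero_iff x).mpr hx
  have hjac : jacK (K := q.ResidueField) bΩ G = jacAt bP F q := by
    ext j i
    unfold jacK jacAt
    show algebraMap (Localization.AtPrime q) q.ResidueField (φ (bΩ.repr (D R _ (G j)) i)) = _
    rw [hGdef]
    simp only
    rw [← KaehlerDifferential.map_D R R P (Localization.AtPrime (q.comap (algebraMap P S))),
      hbΩ, hφmap, ← IsScalarTower.algebraMap_apply S (Localization.AtPrime q) q.ResidueField]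
  constructor
  · intro hsm
    rw [← hjac]
    refine linearIndependent_jacK_of_formallySmooth bΩ G hG h₁ h₃ ?_ hsm
    intro a h0 j
    obtain ⟨s, hs⟩ := IsLocalization.exist_integer_multiples_of_finite
      (q.comap (algebraMap P S)).primeCompl a
    choose b hb using hs
    have h1 : algebraMap P (Localization.AtPrime (q.comap (algebraMap P S)))
        (∑ j, b j * F j) = 0 := by
      rw [map_sum]
      simp_rw [map_mul, hb, Algebra.smul_def, mul_assoc]
      rw [← Finset.mul_sum]
      have : ∑ i, a i * algebraMap P (Localization.AtPrime (q.comap (algebraMap P S))) (F i) =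
          ∑ j, a j * G j := by rw [hGdef]
      rw [this, h0, mul_zero]
    obtain ⟨t, ht⟩ := (IsLocalization.map_eq_zero_iff (q.comap (algebraMap P S)).primeCompl
      (Localization.AtPrime (q.comap (algebraMap P S))) _).mp h1
    have h2 : ∀ j, (t : P) * b j ∈ RingHom.ker (algebraMap P S) :=
      hcoef hsm (fun j => t * b j) (by
        simp_rw [mul_assoc]
        rw [← Finset.mul_sum]
        exact ht)
    have hπunit : ∀ x : (q.comap (algebraMap P S)).primeCompl,
        algebraMap (Localization.AtPrime (q.comap (algebraMap P S))) q.ResidueField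
          (algebraMap P _ (x : P)) ≠ 0 := fun x =>
      ((IsLocalization.map_units (Localization.AtPrime (q.comap (algebraMap P S))) x).map
        (algebraMap (Localization.AtPrime (q.comap (algebraMap P S))) q.ResidueField)).ne_zero
    have hπker : ∀ y ∈ RingHom.ker (algebraMap P S),
        algebraMap (Localization.AtPrime (q.comap (algebraMap P S))) q.ResidueField
          (algebraMap P _ y) = 0 := by
      intro y hy
      show algebraMap (Localization.AtPrime q) q.ResidueField (φ (algebraMap P _ y)) = 0
      rw [hφmap, (RingHom.mem_ker).mp hy, map_zero, map_zero]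
    have h3 := hπker _ (h2 j)
    rw [map_mul, map_mul] at h3
    have h4 := (mul_eq_zero.mp h3).resolve_left (hπunit t)
    rw [hb j, Algebra.smul_def, map_mul] at h4
    exact (mul_eq_zero.mp h4).resolve_left (hπunit s)
  · intro hli
    rw [← hjac] at hli
    exact formallySmooth_of_linearIndependent_jacK bΩ G hG h₁ h₃ hli

end JacPrime

end Groth.Agent.Helper2.Synt
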