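import Mathlib
import Groth.Agent.Lib.Helper2.Synt.JacPrime
import Groth.Agent.Lib.Helper2.Synt.RelGCIMain
import Groth.Agent.Lib.Helper4.KosH1b

set_option autoImplicit false
set_option linter.style.haveILetI false
set_option linter.unusedSectionVars false
universe u

namespace Groth.Agent.Helper2.Synt

open TensorProduct KaehlerDifferential IsLocalRing MvPolynomial

/-- a matrix over a field with linearly independent rows has a nonvanishing maximal minor -/
theorem exists_minor_ne_zero_of_linearIndependent {K : Type u} [Field K] {c n : ℕ}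
    (J : Matrix (Fin c) (Fin n) K) (h : LinearIndependent K J.row) :
    ∃ I : Fin c ↪ Fin n, (J.submatrix id I).det ≠ 0 := by
  have h1 : J.rank = c := by rw [h.rank_matrix, Fintype.card_fin]
  have h2 : Submodule.span K (Set.range J.col) = ⊤ := by
    apply Submodule.eq_top_of_finrank_eq
    rw [← J.rank_eq_finrank_span_cols, h1, Module.finrank_fin_fun]
  obtain ⟨κ, a, ha, hsp, hli⟩ := exists_linearIndependent' K J.col
  rw [h2] at hsp
  let b : Module.Basis κ K (Fin c → K) := Module.Basis.mk hli hsp.ge
  haveI : Finite κ := Finite.of_injective a ha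
  have hcard : Nat.card κ = c := by
    rw [← Module.finrank_eq_nat_card_basis b, Module.finrank_fin_fun]
  have e : Fin c ≃ κ := (Finite.equivFinOfCardEq hcard).symm
  refine ⟨⟨a ∘ e, ha.comp e.injective⟩, ?_⟩
  have hli2 : LinearIndependent K (J.submatrix id (a ∘ e)).col := by
    have : (J.submatrix id (a ∘ e)).col = (J.col ∘ a) ∘ e := by
      ext i j
      rfl
    rw [this]
    exact hli.comp _ e.injective
  have hunit := Matrix.linearIndependent_cols_iff_isUnit.mp hli2
  exact ((Matrix.isUnit_iff_isUnit_det _).mp hunit).ne_zero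

/-- conversely, a nonvanishing maximal minor forces the rows to be linearly independent -/
theorem linearIndependent_of_minor_ne_zero {K : Type u} [Field K] {c n : ℕ}
    (J : Matrix (Fin c) (Fin n) K) (I : Fin c → Fin n) (h : (J.submatrix id I).det ≠ 0) :
    LinearIndependent K J.row := by
  have hunit : IsUnit (J.submatrix id I) :=
    (Matrix.isUnit_iff_isUnit_det _).mpr (isUnit_iff_ne_zero.mpr h)
  have hli := Matrix.linearIndependent_rows_iff_isUnit.mpr hunit
  rw [Fintype.linearIndependent_iff] at hli ⊢
  intro g hg i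
  apply hli g _ i
  ext k
  have := congrFun hg (I k)
  simpa [Matrix.row, Finset.sum_apply] using this

/-- **S9441** -/
theorem S9441_main (R : Type u) [CommRing R] (n c : ℕ)
    (F : Fin c → MvPolynomial (Fin n) R) (hF : _root_.Synt.IsRelGCI R n c F)
    (q : Ideal (_root_.Synt.RelGCIRing R n c F)) [q.IsPrime] :
    Algebra.IsSmoothAt R q ↔ ∃ I : Fin c ↪ Fin n,
      Ideal.Quotient.mk (Ideal.span (Set.range F))
        (Matrix.det (Matrix.of fun j i => MvPolynomial.pderiv (I i) (F j))) ∉ q := by
  have hsurj : Function.Surjective (algebraMap (MvPolynomial (Fin n) R)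
      (_root_.Synt.RelGCIRing R n c F)) := Ideal.Quotient.mk_surjective
  have hFker : Ideal.span (Set.range F) = RingHom.ker (algebraMap (MvPolynomial (Fin n) R)
      (_root_.Synt.RelGCIRing R n c F)) := by
    rw [Ideal.Quotient.algebraMap_eq, Ideal.mk_ker]
  have hH1 : CAlgX.IsH1Regular F :=
    Groth.Agent.Lib.Helper4.KosH1b.isH1Regular_ofFn _
      (Groth.Agent.Lib.Helper4.KosH1.isH1Regular_of_koszul _
        (isKoszulRegularSeq_of_isRelGCI R n c F hF))
  have hcoef : Algebra.IsSmoothAt R q → ∀ a : Fin c → MvPolynomial (Fin n) R,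
      ∑ j, a j * F j = 0 → ∀ j, a j ∈ RingHom.ker (algebraMap (MvPolynomial (Fin n) R)
        (_root_.Synt.RelGCIRing R n c F)) := by
    intro _ a ha j
    rw [← hFker]
    exact Groth.Agent.Lib.Helper4.KosH1b.coeff_mem_of_h1 F hH1 _ rfl a
      (by rw [ha]; exact Ideal.zero_mem _) j
  rw [isSmoothAt_iff_linearIndependent_jacAt hsurj (mvPolynomialBasis R (Fin n)) F hFker q hcoef]
  have hdet : ∀ I : Fin c → Fin n,
      ((jacAt (mvPolynomialBasis R (Fin n)) F q).submatrix id I).det =
      algebraMap (_root_.Synt.RelGCIRing R n c F) q.ResidueField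
        (Ideal.Quotient.mk (Ideal.span (Set.range F))
          (Matrix.det (Matrix.of fun j i => MvPolynomial.pderiv (I i) (F j)))) := by
    intro I
    rw [RingHom.map_det, RingHom.map_det]
    congr 1
    ext j i
    simp [jacAt, mvPolynomialBasis_repr_apply]
  constructor
  · intro hli
    obtain ⟨I, hI⟩ := exists_minor_ne_zero_of_linearIndependent _ hli
    refine ⟨I, fun hmem => hI ?_⟩
    rw [hdet]
    exact Ideal.algebraMap_residueField_eq_zero.mpr hmem
  · rintro ⟨I, hI⟩
    apply linearIndependent_of_minor_ne_zero _ I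
    rw [hdet]
    intro h0
    exact hI (Ideal.algebraMap_residueField_eq_zero.mp h0)

end Groth.Agent.Helper2.Synt
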