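import Mathlib
import Groth.Agent.Lib.Helper2.Synt.RelGCI

/-!
# Heights of primes in a fibre of a presented algebra
-/


set_option autoImplicit false
universe u

namespace Groth.Agent.Helper2.Synt

open TensorProduct MvPolynomial

section FibreHeight

variable (R : Type u) [CommRing R] (n c : ℕ) (F : Fin c → MvPolynomial (Fin n) R)
  (A : Type u) [CommRing A] [Algebra R A]

/-- the base change of the quotient map -/
noncomputable def fiberMk : A ⊗[R] MvPolynomial (Fin n) R →ₐ[A]
    A ⊗[R] _root_.Synt.RelGCIRing R n c F :=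
  Algebra.TensorProduct.map (AlgHom.id A A) (Ideal.Quotient.mkₐ R (Ideal.span (Set.range F)))

theorem fiberMk_surjective : Function.Surjective (fiberMk R n c F A) :=
  Algebra.TensorProduct.map_surjective _ _ (fun x => ⟨x, rfl⟩) (Ideal.Quotient.mkₐ_surjective R _)

theorem fiberEquiv_fiberMk (x : A ⊗[R] MvPolynomial (Fin n) R) :
    fiberEquiv R n c F A (fiberMk R n c F A x) =
      Ideal.Quotient.mk _ (MvPolynomial.algebraTensorAlgEquiv (σ := Fin n) R A x) := by
  induction x using TensorProduct.induction_on with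
  | zero => simp
  | tmul a P =>
    rw [fiberMk, Algebra.TensorProduct.map_tmul, AlgHom.id_apply, Ideal.Quotient.mkₐ_eq_mk,
      fiberEquiv_tmul_mk, MvPolynomial.algebraTensorAlgEquiv_tmul]
  | add x y hx hy => rw [map_add, map_add, hx, hy, map_add, map_add]

end FibreHeight

/-- abstract form of the height relation -/
theorem height_comap_of_equiv {K : Type u} [Field K] {n c : ℕ}
    (r : Fin c → MvPolynomial (Fin n) K) (hcn : c ≤ n)
    {T₁ T₂ : Type u} [CommRing T₁] [CommRing T₂] (ψ : T₁ →+* T₂)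
    (e₁ : T₁ ≃+* MvPolynomial (Fin n) K)
    (e₂ : T₂ ≃+* MvPolynomial (Fin n) K ⧸ Ideal.span (Set.range r))
    (hcomm : ∀ x, e₂ (ψ x) = Ideal.Quotient.mk _ (e₁ x))
    (hdim : ringKrullDim T₂ = ((n - c : ℕ) : WithBot ℕ∞))
    (Q : Ideal T₂) [Q.IsPrime] :
    (Q.comap ψ).height = (c : ℕ∞) + Q.height := by
  set Qh : Ideal (MvPolynomial (Fin n) K ⧸ Ideal.span (Set.range r)) :=
    Q.comap (e₂.symm : (MvPolynomial (Fin n) K ⧸ Ideal.span (Set.range r)) →+* T₂) with hQh
  haveI : Qh.IsPrime := Ideal.comap_isPrime _ _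
  have h1 : Qh.height = Q.height := RingEquiv.height_comap e₂.symm Q
  have hd : ringKrullDim (MvPolynomial (Fin n) K ⧸ Ideal.span (Set.range r)) =
      ((n - c : ℕ) : WithBot ℕ∞) := by
    rw [← hdim]
    exact (ringKrullDim_eq_of_ringEquiv e₂).symm
  have h2 := height_comap_eq K n (Ideal.span (Set.range r)) Qh r rfl (n - c) hd (by omega)
  have h3 : (Qh.comap (Ideal.Quotient.mk (Ideal.span (Set.range r)))) =
      (Q.comap ψ).comap (e₁.symm : MvPolynomial (Fin n) K →+* T₁) := by
    ext x
    have : e₂.symm (Ideal.Quotient.mk _ x) = ψ (e₁.symm x) := by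
      apply e₂.injective
      rw [RingEquiv.apply_symm_apply, hcomm, RingEquiv.apply_symm_apply]
    constructor
    · intro h
      have h' : e₂.symm (Ideal.Quotient.mk _ x) ∈ Q := h
      rw [this] at h'
      exact h'
    · intro h
      have h' : ψ (e₁.symm x) ∈ Q := h
      rw [← this] at h'
      exact h'
  have h5 : ((Q.comap ψ).comap (e₁.symm : MvPolynomial (Fin n) K →+* T₁)).height = (Q.comap ψ).height :=
    RingEquiv.height_comap e₁.symm (Q.comap ψ)
  have h6 := congrArg Ideal.height h3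
  calc (Q.comap ψ).height = ((Q.comap ψ).comap (e₁.symm : MvPolynomial (Fin n) K →+* T₁)).height := h5.symm
    _ = (Qh.comap (Ideal.Quotient.mk (Ideal.span (Set.range r)))).height := h6.symm
    _ = (c : ℕ∞) + Qh.height := h2.symm
    _ = (c : ℕ∞) + Q.height := congrArg (fun t => (c : ℕ∞) + t) h1


/-- intermediate form of the height relation, for fibres of generic algebras -/
theorem height_comap_tensor {R : Type u} [CommRing R] {P S : Type u} [CommRing P] [CommRing S]
    [Algebra R P] [Algebra R S] (K : Type u) [Field K] [Algebra R K] (π : P →ₐ[R] S) {n c : ℕ}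
    (r : Fin c → MvPolynomial (Fin n) K) (hcn : c ≤ n)
    (e₁ : K ⊗[R] P ≃+* MvPolynomial (Fin n) K)
    (e₂ : K ⊗[R] S ≃+* MvPolynomial (Fin n) K ⧸ Ideal.span (Set.range r))
    (hcomm : ∀ x, e₂ (Algebra.TensorProduct.map (AlgHom.id K K) π x) =
      Ideal.Quotient.mk _ (e₁ x))
    (hdim : ringKrullDim (K ⊗[R] S) = ((n - c : ℕ) : WithBot ℕ∞))
    (Q : Ideal (K ⊗[R] S)) [Q.IsPrime] :
    Ideal.height (R := K ⊗[R] P)
      (Q.comap (Algebra.TensorProduct.map (AlgHom.id K K) π).toRingHom) =
      (c : ℕ∞) + Ideal.height (R := K ⊗[R] S) Q :=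
  height_comap_of_equiv r hcn (Algebra.TensorProduct.map (AlgHom.id K K) π).toRingHom e₁ e₂ hcomm
    hdim Q

/-- In a fibre of the expected dimension, the height of a prime of the polynomial ring of the
fibre containing the relations is `c` plus the height of the corresponding prime of the fibre. -/
theorem height_comap_fiberMk (R : Type u) [CommRing R] (n c : ℕ)
    (F : Fin c → MvPolynomial (Fin n) R) (K : Type u) [Field K] [Algebra R K] (hcn : c ≤ n)
    (hdim : ringKrullDim (K ⊗[R] _root_.Synt.RelGCIRing R n c F) = ((n - c : ℕ) : WithBot ℕ∞))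
    (Q : Ideal (K ⊗[R] _root_.Synt.RelGCIRing R n c F)) [Q.IsPrime] :
    Ideal.height (R := K ⊗[R] MvPolynomial (Fin n) R) (Q.comap (fiberMk R n c F K).toRingHom) =
      (c : ℕ∞) + Ideal.height (R := K ⊗[R] _root_.Synt.RelGCIRing R n c F) Q :=
  height_comap_tensor K (Ideal.Quotient.mkₐ R (Ideal.span (Set.range F))) (mapRel R n c F K) hcn
    (MvPolynomial.algebraTensorAlgEquiv (σ := Fin n) R K).toRingEquiv
    (fiberEquiv R n c F K).toRingEquiv (fiberEquiv_fiberMk R n c F K) hdim Q

end Groth.Agent.Helper2.Synt
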