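import Mathlib
import Groth.Agent.Lib.Helper2.Synt.RelAway

/-!
# Spreading out a fibre of the expected dimension to a relative global complete intersection
-/

set_option autoImplicit false
universe u

namespace Groth.Agent.Helper2.Synt

open TensorProduct MvPolynomial

section

variable {R S : Type u} [CommRing R] [CommRing S] [Algebra R S]

/-- elements of the extension of an ideal to a fibre ring -/
theorem exists_smul_eq_one_tmul_of_mem_map (p : Ideal R) [p.IsPrime] (J : Ideal S)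
    (x : p.Fiber S)
    (hx : x ∈ J.map (Algebra.TensorProduct.includeRight : S →ₐ[R] p.Fiber S)) :
    ∃ r ∉ p, ∃ g ∈ J, r • x = (1 : p.ResidueField) ⊗ₜ[R] g := by
  unfold Ideal.map at hx
  induction hx using Submodule.span_induction with
  | mem x hx =>
    obtain ⟨j, hj, rfl⟩ := hx
    exact ⟨1, fun h1 => (inferInstance : p.IsPrime).ne_top ((Ideal.eq_top_iff_one _).mpr h1),
      j, hj, by simp⟩
  | zero =>
    exact ⟨1, fun h1 => (inferInstance : p.IsPrime).ne_top ((Ideal.eq_top_iff_one _).mpr h1),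
      0, J.zero_mem, by simp⟩
  | add x y _ _ hx hy =>
    obtain ⟨r₁, hr₁, g₁, hg₁, h₁⟩ := hx
    obtain ⟨r₂, hr₂, g₂, hg₂, h₂⟩ := hy
    refine ⟨r₁ * r₂, fun hm => ?_, r₂ • g₁ + r₁ • g₂,
      J.add_mem (Submodule.smul_of_tower_mem J r₂ hg₁) (Submodule.smul_of_tower_mem J r₁ hg₂), ?_⟩
    · rcases (inferInstance : p.IsPrime).mem_or_mem hm with h | h
      · exact hr₁ h
      · exact hr₂ h
    · rw [smul_add, mul_comm r₁ r₂, mul_smul, h₁, mul_comm r₂ r₁, mul_smul, h₂, tmul_add,
        tmul_smul, tmul_smul]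
  | smul a x _ hx =>
    obtain ⟨r, hr, g, hg, h₁⟩ := hx
    obtain ⟨r', hr', s, hs⟩ := Ideal.Fiber.exists_smul_eq_one_tmul p a
    refine ⟨r' * r, fun hm => ?_, s * g, J.mul_mem_left s hg, ?_⟩
    · rcases (inferInstance : p.IsPrime).mem_or_mem hm with h | h
      · exact hr' h
      · exact hr h
    · rw [smul_eq_mul, mul_smul, ← mul_smul_comm, h₁, ← smul_mul_assoc, hs,
        Algebra.TensorProduct.tmul_mul_tmul, one_mul]

/-- an element, invertible on the fibre over `p`, with fibrewise small localization -/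
theorem exists_fibreDimLE_isUnit [Algebra.FiniteType R S] (p : Ideal R) [p.IsPrime] (d : ℕ)
    (hd : ringKrullDim (p.Fiber S) ≤ (d : WithBot ℕ∞)) :
    ∃ g : S, FibreDimLE R S d g ∧ IsUnit ((1 : p.ResidueField) ⊗ₜ[R] g : p.Fiber S) := by
  set J : Ideal S := Ideal.span {g : S | FibreDimLE R S d g} with hJ
  have htop : J.map (Algebra.TensorProduct.includeRight : S →ₐ[R] p.Fiber S) = ⊤ := by
    by_contra hne
    obtain ⟨M, hM, hle⟩ := Ideal.exists_le_maximal _ hne
    have hMp : M.IsPrime := Ideal.IsMaximal.isPrime (α := p.Fiber S) hM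
    obtain ⟨g, hg, hgM⟩ := exists_fibreDimLE_notMem_fiber (R := R) (S := S) p
      ⟨M, hMp⟩ d hd
    apply hgM
    apply hle
    exact Ideal.mem_map_of_mem _ (Ideal.subset_span hg)
  obtain ⟨r, hr, g, hg, hrg⟩ := exists_smul_eq_one_tmul_of_mem_map p J 1 (htop ▸ trivial)
  refine ⟨g, fibreDimLE_of_mem_span hg, ?_⟩
  have h1 : r • (1 : p.Fiber S) =
      algebraMap p.ResidueField (p.Fiber S) (algebraMap R p.ResidueField r) := by
    rw [Algebra.TensorProduct.algebraMap_apply, Algebra.algebraMap_self, RingHom.id_apply,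
      Algebra.TensorProduct.one_def, smul_tmul', Algebra.smul_def, mul_one]
  rw [← hrg, h1]
  apply IsUnit.map
  rw [isUnit_iff_ne_zero, Ne, Ideal.algebraMap_residueField_eq_zero]
  exact hr

end

/-- **Spreading out a fibre of the expected dimension.** -/
theorem exists_away_isRelGCI_of_fibre_dim_eq (R : Type u) [CommRing R] (n c : ℕ)
    (F : Fin c → MvPolynomial (Fin n) R) (p : Ideal R) [p.IsPrime]
    (hp : c ≤ n ∧ ringKrullDim (p.Fiber (_root_.Synt.RelGCIRing R n c F)) =
      ((n - c : ℕ) : WithBot ℕ∞)) :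
    ∃ h : MvPolynomial (Fin n) R,
      IsUnit ((1 : p.ResidueField) ⊗ₜ[R] (Ideal.Quotient.mk (Ideal.span (Set.range F)) h) :
        p.Fiber (_root_.Synt.RelGCIRing R n c F)) ∧
      _root_.Synt.IsRelGCI R (n + 1) (c + 1) (awayRel' R n c F h) ∧
      Nonempty (Localization.Away (Ideal.Quotient.mk (Ideal.span (Set.range F)) h) ≃ₐ[R]
        _root_.Synt.RelGCIRing R (n + 1) (c + 1) (awayRel' R n c F h)) := by
  obtain ⟨g, hgood, hunit⟩ := exists_fibreDimLE_isUnit (R := R)
    (S := _root_.Synt.RelGCIRing R n c F) p (n - c) hp.2.le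
  obtain ⟨h, rfl⟩ := Ideal.Quotient.mk_surjective g
  exact ⟨h, hunit, isRelGCI_away_of_fibreDimLE hp.1 hgood, ⟨awayEquivRelGCIRing R n c F h⟩⟩

end Groth.Agent.Helper2.Synt
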