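import Mathlib
import Groth.Agent.Lib.Helper2.Synt.RelSpread

/-!
# Spreading out a relative global complete intersection from a closed subscheme of the base
-/

set_option autoImplicit false
universe u

namespace Groth.Agent.Helper2.Synt

open TensorProduct MvPolynomial

/-- transport of a presented algebra along a ring isomorphism of the base -/
noncomputable def relGCIRingEquiv {A B : Type u} [CommRing A] [CommRing B] (σ : A ≃+* B)
    (n c : ℕ) (r : Fin c → MvPolynomial (Fin n) A) (r' : Fin c → MvPolynomial (Fin n) B)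
    (hr : ∀ i, r' i = MvPolynomial.map (σ : A →+* B) (r i)) :
    _root_.Synt.RelGCIRing A n c r ≃+* _root_.Synt.RelGCIRing B n c r' :=
  Ideal.quotientEquiv _ _ (MvPolynomial.mapEquiv (Fin n) σ) (by
    change _ = Ideal.map ((MvPolynomial.mapEquiv (Fin n) σ : MvPolynomial (Fin n) A ≃+* _) :
      MvPolynomial (Fin n) A →+* MvPolynomial (Fin n) B) _
    rw [Ideal.map_span, ← Set.range_comp]
    congr 2
    ext i
    rw [hr i]
    rfl)

section Quot

variable (R : Type u) [CommRing R] (n c : ℕ) (F : Fin c → MvPolynomial (Fin n) R) (I : Ideal R)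
  (p : Ideal R) [p.IsPrime] (hIp : I ≤ p)

omit [p.IsPrime] in
include hIp in
theorem comap_map_mk_eq : p = (p.map (Ideal.Quotient.mk I)).comap (Ideal.Quotient.mk I) := by
  rw [Ideal.comap_map_of_surjective _ Ideal.Quotient.mk_surjective, ← RingHom.ker_eq_comap_bot,
    Ideal.mk_ker, sup_eq_left.mpr hIp]

include hIp in
theorem isPrime_map_mk : (p.map (Ideal.Quotient.mk I)).IsPrime :=
  Ideal.map_isPrime_of_surjective Ideal.Quotient.mk_surjective (by rw [Ideal.mk_ker]; exact hIp)

/-- the fibre of a presented algebra over a prime containing `I` is the fibre of its reduction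
modulo `I` -/
noncomputable def fiberQuotEquiv [hp' : (p.map (Ideal.Quotient.mk I)).IsPrime] :
    p.Fiber (_root_.Synt.RelGCIRing R n c F) ≃+*
      (p.map (Ideal.Quotient.mk I)).Fiber (_root_.Synt.RelGCIRing (R ⧸ I) n c
        (fun i => MvPolynomial.map (Ideal.Quotient.mk I) (F i))) :=
  let σ : p.ResidueField ≃+* (p.map (Ideal.Quotient.mk I)).ResidueField :=
    RingEquiv.ofBijective (Ideal.ResidueField.map p (p.map (Ideal.Quotient.mk I))
      (Ideal.Quotient.mk I) (comap_map_mk_eq R I p hIp))
      (RingHom.SurjectiveOnStalks.residueFieldMap_bijective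
        (RingHom.surjectiveOnStalks_of_surjective Ideal.Quotient.mk_surjective) _ _ _)
  (fiberEquiv R n c F p.ResidueField).toRingEquiv.trans
    ((relGCIRingEquiv σ n c _ _ (by
      intro i
      have hσ : ((σ : p.ResidueField →+* (p.map (Ideal.Quotient.mk I)).ResidueField).comp
          (algebraMap R p.ResidueField)) =
          (algebraMap (R ⧸ I) (p.map (Ideal.Quotient.mk I)).ResidueField).comp
            (Ideal.Quotient.mk I) := by
        ext x
        simp [σ]
      simp only [mapRel]
      rw [MvPolynomial.map_map, MvPolynomial.map_map, hσ])).trans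
    (fiberEquiv (R ⧸ I) n c (fun i => MvPolynomial.map (Ideal.Quotient.mk I) (F i))
      (p.map (Ideal.Quotient.mk I)).ResidueField).toRingEquiv.symm)

end Quot

/-- **Spreading out from a closed subscheme of the base.** -/
theorem exists_away_isRelGCI_of_isRelGCI_mod (R : Type u) [CommRing R] (n c : ℕ)
    (F : Fin c → MvPolynomial (Fin n) R) (I : Ideal R)
    (hI : _root_.Synt.IsRelGCI (R ⧸ I) n c
      (fun i => MvPolynomial.map (Ideal.Quotient.mk I) (F i))) :
    ∃ h : MvPolynomial (Fin n) R,
      Ideal.Quotient.mk (I.map (algebraMap R (_root_.Synt.RelGCIRing R n c F)))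
        (Ideal.Quotient.mk (Ideal.span (Set.range F)) h) = 1 ∧
      _root_.Synt.IsRelGCI R (n + 1) (c + 1) (awayRel' R n c F h) ∧
      Nonempty (Localization.Away (Ideal.Quotient.mk (Ideal.span (Set.range F)) h) ≃ₐ[R]
        _root_.Synt.RelGCIRing R (n + 1) (c + 1) (awayRel' R n c F h)) := by
  -- the key claim on maximal ideals containing `I S`
  have key : ∀ (m : Ideal (_root_.Synt.RelGCIRing R n c F)) [m.IsPrime],
      I.map (algebraMap R (_root_.Synt.RelGCIRing R n c F)) ≤ m →
      c ≤ n ∧ ringKrullDim ((m.under R).Fiber (_root_.Synt.RelGCIRing R n c F)) =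
        ((n - c : ℕ) : WithBot ℕ∞) := by
    intro m _ hle
    have hIp : I ≤ m.under R := by
      intro x hx
      exact hle (Ideal.mem_map_of_mem _ hx)
    haveI hp' := isPrime_map_mk R I (m.under R) hIp
    let Φ := fiberQuotEquiv R n c F I (m.under R) hIp
    haveI : Nontrivial ((m.under R).Fiber (_root_.Synt.RelGCIRing R n c F)) := by
      rw [← PrimeSpectrum.nonempty_iff_nontrivial]
      exact ⟨PrimeSpectrum.primesOverOrderIsoFiber R (_root_.Synt.RelGCIRing R n c F) (m.under R)
        ⟨m, inferInstance, ⟨rfl⟩⟩⟩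
    have hnt : Nontrivial ((Ideal.map (Ideal.Quotient.mk I) (m.under R)).Fiber
        (_root_.Synt.RelGCIRing (R ⧸ I) n c
          (fun i => MvPolynomial.map (Ideal.Quotient.mk I) (F i)))) :=
      Φ.injective.nontrivial
    obtain ⟨h1, h2⟩ := hI ⟨_, hp'⟩ hnt
    refine ⟨h1, ?_⟩
    have h3 : ringKrullDim ((m.under R).Fiber (_root_.Synt.RelGCIRing R n c F)) =
        ringKrullDim ((Ideal.map (Ideal.Quotient.mk I) (m.under R)).Fiber
        (_root_.Synt.RelGCIRing (R ⧸ I) n c
          (fun i => MvPolynomial.map (Ideal.Quotient.mk I) (F i)))) :=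
      ringKrullDim_eq_of_ringEquiv Φ
    rw [h3, ← h2]
  by_cases hcn : c ≤ n
  · set J : Ideal (_root_.Synt.RelGCIRing R n c F) :=
      Ideal.span {g | FibreDimLE R (_root_.Synt.RelGCIRing R n c F) (n - c) g} with hJ
    have htop : J ⊔ I.map (algebraMap R (_root_.Synt.RelGCIRing R n c F)) = ⊤ := by
      by_contra hne
      obtain ⟨m, hm, hle⟩ := Ideal.exists_le_maximal _ hne
      haveI : m.IsPrime := hm.isPrime
      obtain ⟨-, hdim⟩ := key m (le_sup_right.trans hle)
      obtain ⟨g, hg, hgm⟩ := exists_fibreDimLE_notMem (R := R) m (n - c) hdim.le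
      exact hgm (hle (Ideal.mem_sup_left (Ideal.subset_span hg)))
    have h1 : (1 : _root_.Synt.RelGCIRing R n c F) ∈
        J ⊔ I.map (algebraMap R (_root_.Synt.RelGCIRing R n c F)) := htop ▸ trivial
    obtain ⟨g, hg, i, hi, hgi⟩ := Submodule.mem_sup.mp h1
    obtain ⟨h, rfl⟩ := Ideal.Quotient.mk_surjective g
    refine ⟨h, ?_, isRelGCI_away_of_fibreDimLE hcn (fibreDimLE_of_mem_span hg),
      ⟨awayEquivRelGCIRing R n c F h⟩⟩
    rw [← map_one (Ideal.Quotient.mk (I.map (algebraMap R (_root_.Synt.RelGCIRing R n c F)))),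
      Ideal.Quotient.eq, ← hgi]
    simpa using Ideal.neg_mem_iff _ |>.mpr hi
  · have htop : I.map (algebraMap R (_root_.Synt.RelGCIRing R n c F)) = ⊤ := by
      by_contra hne
      obtain ⟨m, hm, hle⟩ := Ideal.exists_le_maximal _ hne
      haveI : m.IsPrime := hm.isPrime
      exact hcn (key m hle).1
    refine ⟨0, ?_, ?_, ⟨awayEquivRelGCIRing R n c F 0⟩⟩
    · haveI := Ideal.Quotient.subsingleton_iff.mpr htop
      exact Subsingleton.elim _ _
    · intro p' hnt
      exfalso
      have e : p'.asIdeal.Fiber (Localization.Away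
          (Ideal.Quotient.mk (Ideal.span (Set.range F)) 0)) ≃ₐ[R]
          p'.asIdeal.Fiber (_root_.Synt.RelGCIRing R (n + 1) (c + 1) (awayRel' R n c F 0)) :=
        Algebra.TensorProduct.congr AlgEquiv.refl (awayEquivRelGCIRing R n c F 0)
      haveI : Subsingleton (Localization.Away
          (Ideal.Quotient.mk (Ideal.span (Set.range F)) (0 : MvPolynomial (Fin n) R))) := by
        rw [map_zero]
        exact IsLocalization.subsingleton (M := Submonoid.powers (0 : _root_.Synt.RelGCIRing R n c F))
          ⟨1, pow_one 0⟩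
      have h0 : ∀ x : p'.asIdeal.Fiber (Localization.Away
          (Ideal.Quotient.mk (Ideal.span (Set.range F)) 0)), x = 0 := by
        intro x
        induction x using TensorProduct.induction_on with
        | zero => rfl
        | tmul a s => rw [Subsingleton.elim s 0, tmul_zero]
        | add x y hx hy => rw [hx, hy, add_zero]
      haveI hs : Subsingleton (p'.asIdeal.Fiber (Localization.Away
          (Ideal.Quotient.mk (Ideal.span (Set.range F)) 0))) :=
        ⟨fun a b => by rw [h0 a, h0 b]⟩
      exact @not_subsingleton _ hnt (e.symm.toEquiv.subsingleton)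

end Groth.Agent.Helper2.Synt
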