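import Mathlib
import Groth.Agent.Lib.Helper2.Synt.StdSynt1

set_option backward.isDefEq.respectTransparency.types false
set_option autoImplicit false
set_option linter.style.haveILetI false
set_option linter.unusedSectionVars false
universe u

namespace Groth.Agent.Helper2.Synt

open CategoryTheory CategoryTheory.Limits AlgebraicGeometry
open Groth.Agent.Lead.LciLocal Groth.Agent.Lead.SyntLci

/-- shrink a syntomic chart at `x` to one over a given affine neighbourhood of `f x` -/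
theorem exists_chart_over {X S : Scheme.{u}} (f : X ⟶ S) (x : X) (V : S.affineOpens)
    (hV : f.base x ∈ V.1) (h : _root_.Synt.IsSyntomicAt f x) :
    ∃ (U : X.affineOpens) (e : U.1 ≤ f ⁻¹ᵁ V.1), x ∈ U.1 ∧ SyntQ (f.appLE V.1 U.1 e).hom := by
  obtain ⟨U₁, V₁, e₁, hx₁, hsyn⟩ := h
  have hQ₁ : SyntQ (f.appLE V₁.1 U₁.1 e₁).hom := (syntQ_toAlgebra_iff _).mpr hsyn
  have hloc := HasRingHomProperty.isLocal_ringHomProperty (@SyntMor)
  obtain ⟨r, s, hxs, ers, hQ₂⟩ := exists_basicOpen_le_appLE_of_appLE_of_isAffine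
    hloc.StableUnderCompositionWithLocalizationAwayTarget hloc.localizationAwayPreserves x V V₁ U₁ U₁
    hx₁ hx₁ e₁ hQ₁ hV
  have e₃ : X.basicOpen s ≤ f ⁻¹ᵁ V.1 :=
    ers.trans (f.preimage_mono (S.basicOpen_le r))
  refine ⟨⟨X.basicOpen s, U₁.2.basicOpen s⟩, e₃, hxs, ?_⟩
  haveI := V.2.isLocalization_basicOpen r
  have heq : f.appLE V.1 (X.basicOpen s) e₃ =
      CommRingCat.ofHom (algebraMap Γ(S, V.1) Γ(S, S.basicOpen r)) ≫
        f.appLE (S.basicOpen r) (X.basicOpen s) ers := by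
    rw [← Scheme.Hom.map_appLE f ers (homOfLE (S.basicOpen_le r)).op]
    rfl
  rw [heq, CommRingCat.hom_comp]
  exact syntQ_stableUnderCompositionWithLocalizationAwaySource _ r _ hQ₂

/-- a syntomic chart contains a standard syntomic one around each of its points -/
theorem exists_standard_of_chart {X S : Scheme.{u}} (f : X ⟶ S) (x : X) (V : S.affineOpens)
    (U₂ : X.affineOpens) (e₂ : U₂.1 ≤ f ⁻¹ᵁ V.1) (hx : x ∈ U₂.1)
    (hQ : SyntQ (f.appLE V.1 U₂.1 e₂).hom) :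
    ∃ (U : X.affineOpens) (e : U.1 ≤ f ⁻¹ᵁ V.1), x ∈ U.1 ∧
      _root_.Synt.IsStandardSyntomic (f.resLE V.1 U.1 e) := by
  letI alg₂ : Algebra Γ(S, V.1) Γ(X, U₂.1) := (f.appLE V.1 U₂.1 e₂).hom.toAlgebra
  have hsyn : _root_.Synt.IsSyntomic Γ(S, V.1) Γ(X, U₂.1) := (syntQ_toAlgebra_iff _).mp hQ
  haveI hqprime : (U₂.2.primeIdealOf ⟨x, hx⟩).asIdeal.IsPrime :=
    (U₂.2.primeIdealOf ⟨x, hx⟩).isPrime
  obtain ⟨g, hgq, n, c, F, hrel, ⟨ε⟩⟩ := exists_away_isRelGCI_of_isSyntomic Γ(S, V.1) Γ(X, U₂.1)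
    hsyn (U₂.2.primeIdealOf ⟨x, hx⟩).asIdeal
  have hxg : x ∈ X.basicOpen g := by
    have h1 : U₂.2.primeIdealOf ⟨x, hx⟩ ∈ U₂.2.fromSpec ⁻¹ᵁ X.basicOpen g := by
      rw [U₂.2.fromSpec_preimage_basicOpen]
      exact hgq
    have h2 := U₂.2.fromSpec_primeIdealOf ⟨x, hx⟩
    have h3 : U₂.2.fromSpec (U₂.2.primeIdealOf ⟨x, hx⟩) ∈ X.basicOpen g := h1
    rw [h2] at h3
    exact h3
  have eU : X.basicOpen g ≤ f ⁻¹ᵁ V.1 := (X.basicOpen_le g).trans e₂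
  refine ⟨⟨X.basicOpen g, U₂.2.basicOpen g⟩, eU, hxg, ?_⟩
  letI algU : Algebra Γ(S, V.1) Γ(X, X.basicOpen g) :=
    (f.appLE V.1 (X.basicOpen g) eU).hom.toAlgebra
  haveI : IsScalarTower Γ(S, V.1) Γ(X, U₂.1) Γ(X, X.basicOpen g) :=
    IsScalarTower.of_algebraMap_eq' (congrArg CommRingCat.Hom.hom
      (Scheme.Hom.appLE_map f e₂ (homOfLE (X.basicOpen_le g)).op).symm)
  haveI := U₂.2.isLocalization_basicOpen g
  obtain ⟨ε', -⟩ : ∃ ε' : _root_.Synt.RelGCIRing Γ(S, V.1) n c F ≃ₐ[Γ(S, V.1)]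
      Γ(X, X.basicOpen g), True :=
    ⟨ε.symm.trans ((Localization.algEquiv (Submonoid.powers g)
      Γ(X, X.basicOpen g)).restrictScalars Γ(S, V.1)), trivial⟩
  refine ⟨Γ(S, V.1), inferInstance, n, c, F, hrel,
    (U₂.2.basicOpen g).isoSpec ≪≫ Scheme.Spec.mapIso (ε'.toRingEquiv.toCommRingCatIso).op,
    V.2.isoSpec, ?_⟩
  have h4 : CommRingCat.ofHom (algebraMap Γ(S, V.1) (_root_.Synt.RelGCIRing Γ(S, V.1) n c F)) ≫
      (ε'.toRingEquiv.toCommRingCatIso).hom = f.appLE V.1 (X.basicOpen g) eU := by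
    ext a
    exact ε'.commutes a
  simp only [Iso.trans_hom, Functor.mapIso_hom, Iso.op_hom, Scheme.Spec_map, Quiver.Hom.unop_op,
    Category.assoc]
  rw [← Spec.map_comp, h4]
  exact isoSpec_hom_SpecMap_appLE f (U₂.2.basicOpen g) V.2 eU

/-- **S9364** -/
theorem S9364_main {X S : Scheme.{u}} (f : X ⟶ S) (x : X) (V : S.affineOpens)
    (hV : f.base x ∈ V.1) :
    _root_.Synt.IsSyntomicAt f x ↔
      ∃ (U : X.affineOpens) (e : U.1 ≤ f ⁻¹ᵁ V.1), x ∈ U.1 ∧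
        _root_.Synt.IsStandardSyntomic (f.resLE V.1 U.1 e) := by
  constructor
  · intro h
    obtain ⟨U₂, e₂, hx, hQ⟩ := exists_chart_over f x V hV h
    exact exists_standard_of_chart f x V U₂ e₂ hx hQ
  · rintro ⟨U, e, hx, hstd⟩
    have h1 := syntMor_of_isStandardSyntomic _ hstd
    rw [resLE_iff_appLE (@SyntMor) f U.2 V.2 e] at h1
    exact ⟨U, V, e, hx, (syntQ_toAlgebra_iff _).mp h1⟩

end Groth.Agent.Helper2.Synt
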