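import Mathlib
import Groth.Agent.Lib.Helper2.Synt.SyntLift
import Groth.Agent.Lib.Helper4.RegPres1

set_option autoImplicit false
set_option linter.style.haveILetI false
set_option linter.unusedSectionVars false
universe u

namespace Groth.Agent.Helper2.Synt

open TensorProduct MvPolynomial IsLocalRing

/-- **S18938**: over a Noetherian base, a syntomic algebra is locally the quotient of a
polynomial ring by a regular sequence -/
theorem exists_away_algEquiv_quotient_regularSeq
    (A : Type u) [CommRing A] [IsNoetherianRing A] (B : Type u) [CommRing B] [Algebra A B]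
    (h : _root_.Synt.IsSyntomic A B) (q : Ideal B) [q.IsPrime] :
    ∃ g : B, g ∉ q ∧
      ∃ (n d : ℕ) (P : Fin d → MvPolynomial (Fin n) A),
        RingTheory.Sequence.IsRegular (MvPolynomial (Fin n) A) (List.ofFn P) ∧
        Nonempty (Localization.Away g ≃ₐ[A]
          (MvPolynomial (Fin n) A ⧸ Ideal.ofList (List.ofFn P))) := by
  obtain ⟨g, hg, n, c, F, hrel, ⟨ι⟩⟩ := exists_away_isRelGCI_of_isSyntomic A B h q
  haveI hqg := isPrime_map_away q g hg
  haveI hq₁ : ((q.map (algebraMap B (Localization.Away g))).comap
      (ι.symm : _root_.Synt.RelGCIRing A n c F →+* Localization.Away g)).IsPrime :=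
    Ideal.comap_isPrime _ _
  have hle : Ideal.span (Set.range F) ≤ ((q.map (algebraMap B (Localization.Away g))).comap
      (ι.symm : _root_.Synt.RelGCIRing A n c F →+* Localization.Away g)).comap
        (Ideal.Quotient.mk (Ideal.span (Set.range F))) := by
    intro x hx
    rw [Ideal.mem_comap, Ideal.Quotient.eq_zero_iff_mem.mpr hx]
    exact Ideal.zero_mem _
  have hreg := (isRegular_and_flat_of_isRelGCI A n c F _ hrel hle).1
  have hI : (Ideal.span (Set.range F)).map (algebraMap (MvPolynomial (Fin n) A)
      (Localization.AtPrime (((q.map (algebraMap B (Localization.Away g))).comap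
      (ι.symm : _root_.Synt.RelGCIRing A n c F →+* Localization.Away g)).comap
        (Ideal.Quotient.mk (Ideal.span (Set.range F)))))) =
      Ideal.ofList ((List.ofFn F).map (algebraMap (MvPolynomial (Fin n) A)
      (Localization.AtPrime (((q.map (algebraMap B (Localization.Away g))).comap
      (ι.symm : _root_.Synt.RelGCIRing A n c F →+* Localization.Away g)).comap
        (Ideal.Quotient.mk (Ideal.span (Set.range F))))))) := by
    have hgen : ∀ (T : Type u) [CommRing T] (φ : MvPolynomial (Fin n) A →+* T),
        (Ideal.span (Set.range F)).map φ = Ideal.ofList ((List.ofFn F).map φ) := by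
      intro T _ φ
      rw [← ofList_ofFn', Ideal.map_ofList]
    exact hgen _ _
  obtain ⟨g₁, hg₁, d, Pf, hPreg, ⟨ι₂⟩⟩ := Groth.Agent.Lib.Helper4.RegPres1.alg_main A n
    (Ideal.span (Set.range F)) ((q.map (algebraMap B (Localization.Away g))).comap
      (ι.symm : _root_.Synt.RelGCIRing A n c F →+* Localization.Away g))
    (Localization.AtPrime (((q.map (algebraMap B (Localization.Away g))).comap
      (ι.symm : _root_.Synt.RelGCIRing A n c F →+* Localization.Away g)).comap
        (Ideal.Quotient.mk (Ideal.span (Set.range F))))) _ hreg hI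
  have e₃ := awayAlgEquivOfAlgEquiv ι.symm g₁
  have hnot : ι.symm g₁ ∉ q.map (algebraMap B (Localization.Away g)) := hg₁
  obtain ⟨g'', hg'', ⟨ι₃⟩⟩ := exists_away_algEquiv_away_away A q g hg (ι.symm g₁) hnot
  exact ⟨g'', hg'', n + 1, d, Pf, hPreg, ⟨ι₃.trans (e₃.symm.trans ι₂)⟩⟩

end Groth.Agent.Helper2.Synt
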