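import Mathlib
import Groth.Prelude.Def_W4stkdualitygroupp2Univ

/-!
# The universal algebra `UnivAlg n d` is a polynomial ring over `ℤ`
-/

set_option autoImplicit false

namespace Groth.Agent.Helper2.Synt

open MvPolynomial

variable (n d : ℕ)

/-- the zero exponent index -/
def zeroIdx : _root_.Synt.UnivIdx n d := ⟨fun _ => 0, by simp⟩

theorem zeroIdx_exponent : (zeroIdx n d).exponent = 0 := by
  ext i
  simp [zeroIdx, _root_.Synt.UnivIdx.exponent]

/-- nonzero exponent indices -/
abbrev NZ : Type := {E : _root_.Synt.UnivIdx n d // E ≠ zeroIdx n d}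

/-- coefficient ring without the constant coefficients -/
abbrev CoefRing : Type := MvPolynomial (Fin n × NZ n d) ℤ

/-- the target polynomial ring -/
abbrev Target : Type := MvPolynomial (Fin n) (CoefRing n d)

/-- the non-constant part of the universal polynomial -/
noncomputable def gPoly (i : Fin n) : Target n d :=
  ∑ E : NZ n d, monomial E.1.exponent (X (i, E))

/-- the map on coefficients -/
noncomputable def coefMap : _root_.Synt.UnivBase n d →+* Target n d :=
  eval₂Hom (Int.castRingHom (Target n d))
    (fun p : Fin n × _root_.Synt.UnivIdx n d =>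
      if h : p.2 = zeroIdx n d then - gPoly n d p.1 else C (X (p.1, ⟨p.2, h⟩)))

/-- the forward map on the polynomial ring -/
noncomputable def fwd : MvPolynomial (Fin n) (_root_.Synt.UnivBase n d) →+* Target n d :=
  eval₂Hom (coefMap n d) X

theorem coefMap_X_zero (i : Fin n) : coefMap n d (X (i, zeroIdx n d)) = - gPoly n d i := by
  simp [coefMap]

theorem coefMap_X_ne (i : Fin n) (E : NZ n d) : coefMap n d (X (i, E.1)) = C (X (i, E)) := by
  simp [coefMap, E.2]

theorem fwd_monomial (s : Fin n →₀ ℕ) (a : _root_.Synt.UnivBase n d) :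
    fwd n d (monomial s a) = coefMap n d a * monomial s 1 := by
  rw [fwd, eval₂Hom_monomial, monomial_eq (a := (1 : CoefRing n d)), map_one, one_mul]

theorem fwd_univPoly (i : Fin n) : fwd n d (_root_.Synt.univPoly n d i) = 0 := by
  classical
  unfold _root_.Synt.univPoly
  rw [map_sum]
  simp_rw [fwd_monomial]
  rw [← Finset.add_sum_erase _ _ (Finset.mem_univ (zeroIdx n d))]
  rw [coefMap_X_zero, zeroIdx_exponent]
  have h2 : ∑ E ∈ Finset.univ.erase (zeroIdx n d),
      coefMap n d (X (i, E)) * monomial E.exponent (1 : CoefRing n d) = gPoly n d i := by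
    rw [gPoly]
    rw [Finset.sum_subtype (p := fun E => E ≠ zeroIdx n d)
      (Finset.univ.erase (zeroIdx n d)) (by simp)]
    refine Finset.sum_congr rfl (fun E _ => ?_)
    rw [coefMap_X_ne, C_mul_monomial, mul_one]
  rw [h2]
  simp

/-- the quotient map as a ring hom -/
noncomputable def mkHom : MvPolynomial (Fin n) (_root_.Synt.UnivBase n d) →+* _root_.Synt.UnivAlg n d :=
  Ideal.Quotient.mk (_root_.Synt.univIdeal n d)

theorem mkHom_surjective : Function.Surjective (mkHom n d) := Ideal.Quotient.mk_surjective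

theorem mkHom_univPoly (i : Fin n) : mkHom n d (_root_.Synt.univPoly n d i) = 0 :=
  Ideal.Quotient.eq_zero_iff_mem.mpr (Ideal.subset_span ⟨i, rfl⟩)

/-- the forward map on the universal algebra -/
noncomputable def fwdBar : _root_.Synt.UnivAlg n d →+* Target n d :=
  Ideal.Quotient.lift (_root_.Synt.univIdeal n d) (fwd n d) (by
    intro a ha
    have hle : _root_.Synt.univIdeal n d ≤ RingHom.ker (fwd n d) := by
      rw [_root_.Synt.univIdeal, Ideal.span_le]
      rintro _ ⟨i, rfl⟩
      exact fwd_univPoly n d i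
    exact hle ha)

theorem fwdBar_mkHom (a : MvPolynomial (Fin n) (_root_.Synt.UnivBase n d)) :
    fwdBar n d (mkHom n d a) = fwd n d a :=
  Ideal.Quotient.lift_mk _ _ _

/-- the backward map on coefficients -/
noncomputable def bwdCoef : CoefRing n d →+* _root_.Synt.UnivAlg n d :=
  eval₂Hom (Int.castRingHom (_root_.Synt.UnivAlg n d))
    (fun p : Fin n × NZ n d => mkHom n d (C (X (p.1, p.2.1))))

theorem bwdCoef_X (p : Fin n × NZ n d) :
    bwdCoef n d (X p) = mkHom n d (C (X (p.1, p.2.1))) :=
  eval₂Hom_X' _ _ _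

/-- the backward map -/
noncomputable def bwd : Target n d →+* _root_.Synt.UnivAlg n d :=
  eval₂Hom (bwdCoef n d) (fun j => mkHom n d (X j))

theorem bwd_monomial (s : Fin n →₀ ℕ) (i : Fin n) (E : NZ n d) :
    bwd n d (monomial s (X (i, E))) = mkHom n d (monomial s (X (i, E.1))) := by
  rw [bwd, eval₂Hom_monomial, monomial_eq, map_mul, Finsupp.prod, Finsupp.prod, map_prod,
    bwdCoef_X]
  simp

theorem bwd_gPoly (i : Fin n) : bwd n d (gPoly n d i) = - mkHom n d (C (X (i, zeroIdx n d))) := by
  classical
  rw [eq_neg_iff_add_eq_zero, add_comm, ← mkHom_univPoly n d i]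
  unfold _root_.Synt.univPoly gPoly
  rw [map_sum, map_sum, ← Finset.add_sum_erase _ _ (Finset.mem_univ (zeroIdx n d)),
    zeroIdx_exponent]
  congr 1
  rw [Finset.sum_subtype (p := fun E => E ≠ zeroIdx n d)
      (Finset.univ.erase (zeroIdx n d)) (by simp)]
  refine Finset.sum_congr rfl (fun E _ => ?_)
  rw [bwd_monomial]

theorem bwd_fwd : (bwd n d).comp (fwd n d) = mkHom n d := by
  apply MvPolynomial.ringHom_ext
  · intro a
    -- `a` in the base ring
    have : ((bwd n d).comp (fwd n d)).comp C = (mkHom n d).comp C := by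
      apply MvPolynomial.ringHom_ext
      · intro z
        simp only [RingHom.comp_apply]
        rw [fwd, eval₂Hom_C, coefMap, eval₂Hom_C, eq_intCast, map_intCast,
          eq_intCast (C : ℤ →+* _root_.Synt.UnivBase n d) z, map_intCast, map_intCast]
      · rintro ⟨i, E⟩
        by_cases hE : E = zeroIdx n d
        · subst hE
          simp only [RingHom.comp_apply]
          rw [fwd, eval₂Hom_C, coefMap_X_zero, map_neg, bwd_gPoly, neg_neg]
        · simp only [RingHom.comp_apply]
          rw [fwd, eval₂Hom_C, coefMap_X_ne n d i ⟨E, hE⟩, bwd, eval₂Hom_C, bwdCoef_X]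
    exact congrArg (fun φ : _root_.Synt.UnivBase n d →+* _root_.Synt.UnivAlg n d => φ a) this
  · intro j
    simp [fwd, bwd]

theorem bwd_fwdBar (b : _root_.Synt.UnivAlg n d) : bwd n d (fwdBar n d b) = b := by
  obtain ⟨a, rfl⟩ := mkHom_surjective n d b
  rw [fwdBar_mkHom]
  exact congrArg (fun φ : _ →+* _root_.Synt.UnivAlg n d => φ a) (bwd_fwd n d)

theorem fwdBar_bwd (t : Target n d) : fwdBar n d (bwd n d t) = t := by
  have : (fwdBar n d).comp (bwd n d) = RingHom.id _ := by
    apply MvPolynomial.ringHom_ext
    · intro a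
      have : ((fwdBar n d).comp (bwd n d)).comp C = (RingHom.id _).comp C := by
        apply MvPolynomial.ringHom_ext
        · intro z
          simp
        · rintro ⟨i, E⟩
          simp only [RingHom.comp_apply, RingHom.id_apply]
          rw [bwd, eval₂Hom_C, bwdCoef_X, fwdBar_mkHom, fwd, eval₂Hom_C,
            coefMap_X_ne n d i E]
      exact congrArg (fun φ : CoefRing n d →+* Target n d => φ a) this
    · intro j
      simp only [RingHom.comp_apply, RingHom.id_apply]
      rw [bwd, eval₂Hom_X', fwdBar_mkHom, fwd, eval₂Hom_X']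
  exact congrArg (fun φ : Target n d →+* Target n d => φ t) this

/-- the universal algebra is a polynomial ring -/
noncomputable def univAlgEquiv : _root_.Synt.UnivAlg n d ≃+* Target n d :=
  RingEquiv.ofRingHom (fwdBar n d) (bwd n d)
    (RingHom.ext (fwdBar_bwd n d)) (RingHom.ext (bwd_fwdBar n d))

theorem isDomain_univAlg : IsDomain (_root_.Synt.UnivAlg n d) :=
  (univAlgEquiv n d).toMulEquiv.isDomain (Target n d)

theorem isRegularRing_univAlg : IsRegularRing (_root_.Synt.UnivAlg n d) :=
  IsRegularRing.of_ringEquiv (univAlgEquiv n d).symm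

end Groth.Agent.Helper2.Synt
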